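import Cfsg.Agent.Lib.AschU.Rational
import Cfsg.Agent.Lib.Aschbacher.Realise
import Cfsg.Agent.Lib.KnownC.FieldDescent

/-!
The almost simple case of the unitary structure theorem: a subfield member, or the residual class.
-/

set_option autoImplicit false

namespace CfsgLib.AschU

open Cfsg Cfsg.Geo CfsgLib.MaxSub CfsgLib.Aschbacher CfsgLib.KnownC Matrix
open scoped MatrixGroups

variable {F : Type*} [Field F] [Fintype F] {n q : ℕ}

theorem one_lt_q (hF : Fintype.card F = q ^ 2) : 1 < q := by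
  by_contra h
  have h2 : q ^ 2 ≤ 1 := by
    have := Nat.pow_le_pow_left (not_lt.1 h) 2
    simpa using this
  have := Fintype.one_lt_card (α := F)
  omega

theorem orderOf_qConj (hF : Fintype.card F = q ^ 2) : orderOf (qConj hF) = 2 := by
  refine orderOf_eq_prime (RingEquiv.ext fun a => ?_) ?_
  · rw [sq]; exact qConj_qConj hF a
  · exact (isUnitaryForm_hermForm hF 1).ne_refl

/-- A perfect subgroup of `H ⊔ scalars` lies in `H`. -/
theorem perfect_le {H P : Subgroup (GL (Fin n) F)} (hP : ⁅P, P⁆ = P)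
    (hle : P ≤ H ⊔ scalars (Fin n) F) : P ≤ H := by
  have hcent : ∀ z ∈ scalars (Fin n) F, ∀ x : GL (Fin n) F, Commute z x := fun z hz x => by
    obtain ⟨c, hc⟩ := (mem_scalars_iff z).1 hz
    exact Units.ext (by simp [hc])
  have hmem : ∀ x ∈ H ⊔ scalars (Fin n) F, ∃ h ∈ H, ∃ z ∈ scalars (Fin n) F, x = h * z :=
    fun x hx => by
      obtain ⟨y, hy, z, hz, rfl⟩ := Subgroup.mem_sup_of_normal_right.1 hx
      exact ⟨y, hy, z, hz, rfl⟩
  have hcomm : ∀ a ∈ P, ∀ b ∈ P, a * b * a⁻¹ * b⁻¹ ∈ H := by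
    intro a ha b hb
    obtain ⟨a₁, ha₁, z, hz, rfl⟩ := hmem a (hle ha)
    obtain ⟨b₁, hb₁, w, hw, rfl⟩ := hmem b (hle hb)
    have : a₁ * z * (b₁ * w) * (a₁ * z)⁻¹ * (b₁ * w)⁻¹ = a₁ * b₁ * a₁⁻¹ * b₁⁻¹ := by
      calc a₁ * z * (b₁ * w) * (a₁ * z)⁻¹ * (b₁ * w)⁻¹
          = a₁ * (z * (b₁ * w)) * z⁻¹ * a₁⁻¹ * w⁻¹ * b₁⁻¹ := by simp [mul_assoc]
        _ = a₁ * b₁ * (w * a₁⁻¹) * w⁻¹ * b₁⁻¹ := by rw [(hcent z hz _).eq]; simp [mul_assoc]
        _ = _ := by rw [(hcent w hw _).eq]; simp [mul_assoc]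
    rw [this]
    exact H.mul_mem (H.mul_mem (H.mul_mem ha₁ hb₁) (H.inv_mem ha₁)) (H.inv_mem hb₁)
  calc P = ⁅P, P⁆ := hP.symm
    _ ≤ H := (Subgroup.commutator_le (H₃ := H)).2 hcomm

/-- An absolutely irreducible unitary group fixing a non-degenerate bilinear form is realisable over
the subfield of order `q`. -/
theorem realisable_of_bilinear (hF : Fintype.card F = q ^ 2) (hn : 1 ≤ n)
    {P : Subgroup (GL (Fin n) F)} (hP : P ≤ GU n F q) (halg : alg P = ⊤)
    {f : (Fin n → F) → (Fin n → F) → F} (hf : IsBilinearForm f) (hnd : IsNondegenerateForm f)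
    (hfix : FixesForm (matrixSet P) f) :
    ∃ F₁ : Subfield F, F₁ ≠ ⊤ ∧ RealisableOver F₁ (matrixSet P) := by
  classical
  set σ := qConj hF
  let bl : (Fin n → F) →ₗ[F] (Fin n → F) →ₗ[F] F :=
    LinearMap.mk₂ F f hf.add_left (fun c x v => hf.smul_left c x v) hf.add_right
      (fun c v x => hf.smul_right c v x)
  set Bm := LinearMap.toMatrix₂' F bl with hBm
  have hval : ∀ u v, f u v = u ⬝ᵥ (Bm *ᵥ v) := fun u v => by
    rw [← Matrix.toLinearMap₂'_apply', hBm, Matrix.toLinearMap₂'_toMatrix']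
    rfl
  have hdet : IsUnit Bm.det := by
    rw [isUnit_iff_ne_zero, Ne, ← Matrix.exists_mulVec_eq_zero_iff]
    rintro ⟨v, hv, h0⟩
    obtain ⟨x, hx⟩ := (hnd v hv).1
    exact hx (by rw [hval, h0, dotProduct_zero])
  obtain ⟨Bu, hBu⟩ : IsUnit Bm := (Matrix.isUnit_iff_isUnit_det _).2 hdet
  let sg : GL (Fin n) F →* GL (Fin n) F := GeneralLinearGroup.map (σ : F →+* F)
  have hsg : ∀ g : GL (Fin n) F, ((sg g : GL (Fin n) F) : Matrix (Fin n) (Fin n) F) =
      (g : Matrix (Fin n) (Fin n) F).map σ := fun g => rfl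
  have hsgsg : ∀ g, sg (sg g) = g := fun g => Units.ext (Matrix.ext fun i j => qConj_qConj hF _)
  have hconj : ∀ g ∈ P, sg g = Bu * g * Bu⁻¹ := by
    intro g hg
    have hinv : (g : Matrix (Fin n) (Fin n) F)ᵀ * Bm * (g : Matrix (Fin n) (Fin n) F) = Bm := by
      ext i j
      have h := hfix _ ⟨g, hg, rfl⟩ (Pi.single i 1) (Pi.single j 1)
      rw [hval, hval] at h
      simp only [Matrix.mulVec_single_one, single_dotProduct, one_mul, Matrix.col_apply] at h
      rw [← h, mul_assoc]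
      rfl
    have hG : (g : Matrix (Fin n) (Fin n) F)ᵀ * (g : Matrix (Fin n) (Fin n) F).map σ = 1 := by
      have := gramU_of_similitude hF (g := g) (c := 1) (fun u v => by rw [one_mul]; exact hP hg u v)
      rwa [one_smul] at this
    have hu : IsUnit (g : Matrix (Fin n) (Fin n) F)ᵀ := by
      rw [Matrix.isUnit_iff_isUnit_det, Matrix.det_transpose, ← Matrix.isUnit_iff_isUnit_det]
      exact g.isUnit
    refine Units.ext (hu.mul_left_cancel ?_)
    rw [hsg, hG, Units.val_mul, Units.val_mul, hBu, ← mul_assoc, ← mul_assoc, hinv, ← hBu,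
      ← Units.val_mul, mul_inv_cancel, Units.val_one]
  -- the square of the twist is scalar
  have hscal : sg Bu * Bu ∈ scalars (Fin n) F := by
    have : Nonempty (Fin n) := ⟨⟨0, hn⟩⟩
    refine mem_scalars_of_commute halg fun x hx => ?_
    have h := congrArg sg (hconj x hx)
    rw [hsgsg, map_mul, map_mul, map_inv, hconj x hx] at h
    calc x * (sg Bu * Bu) = sg Bu * (Bu * x * Bu⁻¹) * (sg Bu)⁻¹ * (sg Bu * Bu) := by rw [← h]
      _ = sg Bu * Bu * x := by group
  obtain ⟨h, c, hc⟩ := exists_descent_scalar hn σ Bu⁻¹ (by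
    rw [orderOf_qConj hF, normProd_succ, normProd_succ, normProd_zero, map_one, mul_one]
    change Bu⁻¹ * sg Bu⁻¹ ∈ _
    rw [map_inv, ← _root_.mul_inv_rev, GeneralLinearGroup.center_eq_range_scalar]
    obtain ⟨a, ha⟩ := inv_mem hscal
    exact ⟨a, ha⟩)
  have hcz : ∀ x : GL (Fin n) F, GeneralLinearGroup.scalar (Fin n) c * x =
      x * GeneralLinearGroup.scalar (Fin n) c := fun x => Units.ext (by
    simp only [Units.val_mul]
    exact (Matrix.scalar_commute (c : F) (fun r => mul_comm _ r) _).eq)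
  have hsh : sg h = Bu * (h * GeneralLinearGroup.scalar (Fin n) c) := by
    rw [← hcz, ← hc]
    exact (mul_inv_cancel_left Bu _).symm
  obtain ⟨F₁, hF₁, hmem⟩ := exists_subfield_card (one_lt_q hF) hF
  refine ⟨F₁, fun htop => ?_, h⁻¹, ?_⟩
  · have h2 := one_lt_q hF
    have : Nat.card F₁ = q ^ 2 := by
      rw [htop, Nat.card_congr Subfield.topEquiv.toEquiv, Nat.card_eq_fintype_card, hF]
    rw [hF₁, sq] at this
    nlinarith
  · rintro _ ⟨g, hg, rfl⟩ i j
    have hfixed : sg (h⁻¹ * g * h) = h⁻¹ * g * h := by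
      rw [map_mul, map_mul, map_inv, hsh, hconj g hg]
      have hcinv : (GeneralLinearGroup.scalar (Fin n) c)⁻¹ * (h⁻¹ * g * h) *
          GeneralLinearGroup.scalar (Fin n) c = h⁻¹ * g * h := by
        rw [mul_assoc, ← hcz, inv_mul_cancel_left]
      calc _ = (GeneralLinearGroup.scalar (Fin n) c)⁻¹ * (h⁻¹ * g * h) *
            GeneralLinearGroup.scalar (Fin n) c := by group
        _ = _ := hcinv
    rw [hmem, ← qConj_apply hF, inv_inv]
    show σ (((h⁻¹ * g * h : GL (Fin n) F) : Matrix (Fin n) (Fin n) F) i j) =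
      ((h⁻¹ * g * h : GL (Fin n) F) : Matrix (Fin n) (Fin n) F) i j
    conv_rhs => rw [← hfixed]
    rfl

theorem member_or_residual_of_simple (hF : Fintype.card F = q ^ 2) (hn : 2 ≤ n)
    {H P : Subgroup (GL (Fin n) F)} (hH : H ≤ GU n F q)
    (hP : IsSimpleData (H ⊔ scalars (Fin n) F) P) :
    (∃ M : Subgroup (GL (Fin n) F), UClass n q M ∧ H ≤ M) ∨ InUnitaryResidualClass H := by
  classical
  have : Nonempty (Fin n) := ⟨⟨0, by omega⟩⟩
  have hPU : P ≤ GU n F q := (perfect_le hP.perfect hP.le).trans hH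
  by_cases hreal : ∃ F₀ : Subfield F, F₀ ≠ ⊤ ∧ RealisableOver F₀ (matrixSet P)
  · obtain ⟨F₀, h₀, hr₀⟩ := hreal
    obtain ⟨F₁, r, B, -, hr, hcard, hGB, hrat⟩ :=
      le_subfield_of_realisable hP.normal hP.alg_top h₀ hr₀
    exact Or.inl (member_of_rational hF hn hr hcard hP.absIrred.1 hP.alg_top hrat
      (fun x hx => ⟨1, F₁.one_mem, fun u v => by rw [one_mul]; exact hPU hx u v⟩)
      (le_sup_left.trans hGB) hH)
  · refine Or.inr ⟨P, hP.residualCore fun F₀ h₀ hr₀ => hreal ⟨F₀, h₀, hr₀⟩, ?_, ?_⟩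
    · rintro ⟨Q, hQ, hfix⟩
      refine hreal (realisable_of_bilinear hF (by omega) hPU hP.alg_top hQ.polar_bilinear
        hQ.nondegenerate fun s hs u v => ?_)
      simp only [QuadraticMap.polar, ← Matrix.mulVec_add, hfix s hs]
    · rintro ⟨f, hf, hfix⟩
      exact hreal (realisable_of_bilinear hF (by omega) hPU hP.alg_top hf.bilinear
        hf.nondegenerate hfix)

end CfsgLib.AschU
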