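import Cfsg.Agent.Lib.AschU.Adjoint
import Cfsg.Agent.Lib.Aschbacher.Wreath
import Cfsg.Agent.Lib.KnownC.HermCongr
import Cfsg.Agent.Lib.AschU.Residual

/-!
A tensor decomposition whose factor algebras are closed under the adjoint has, after a change of
basis inside the decomposition, the standard form as a multiple of the product of standard forms.
-/

set_option autoImplicit false

namespace CfsgLib.AschU

open Cfsg Cfsg.Geo CfsgLib.MaxSub CfsgLib.Aschbacher CfsgLib.KnownC Matrix
open scoped MatrixGroups Kronecker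

section Adj

variable {F : Type*} [Field F] {κ μ : Type} [Fintype κ] [DecidableEq κ] [Fintype μ] [DecidableEq μ]

/-- The conjugate transpose with respect to a field automorphism. -/
def adjG (σ : F ≃+* F) (A : Matrix κ κ F) : Matrix κ κ F := (A.map σ)ᵀ

theorem adjG_mul (σ : F ≃+* F) (A B : Matrix κ κ F) : adjG σ (A * B) = adjG σ B * adjG σ A := by
  rw [adjG, adjG, adjG, Matrix.map_mul, Matrix.transpose_mul]

theorem adjG_one (σ : F ≃+* F) : adjG σ (1 : Matrix κ κ F) = 1 := by
  rw [adjG, Matrix.map_one _ (map_zero _) (map_one _), Matrix.transpose_one]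

theorem adjG_adjG {σ : F ≃+* F} (hσ : ∀ a, σ (σ a) = a) (A : Matrix κ κ F) :
    adjG σ (adjG σ A) = A := by
  ext i j
  simp [adjG, hσ]

theorem adjG_smul (σ : F ≃+* F) (c : F) (A : Matrix κ κ F) :
    adjG σ (c • A) = σ c • adjG σ A := by
  ext i j
  simp [adjG]

theorem adjG_kron (σ : F ≃+* F) (A : Matrix κ κ F) (B : Matrix μ μ F) :
    adjG σ (A ⊗ₖ B) = adjG σ A ⊗ₖ adjG σ B := by
  ext i j
  simp [adjG]

theorem adjG_pureMat (σ : F ≃+* F) {t : ℕ} (a : Fin t → Matrix κ κ F) :
    adjG σ (pureMat a) = pureMat fun j => adjG σ (a j) := by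
  ext p q
  simp [adjG, pureMat, map_prod]

theorem adjG_reindex (σ : F ≃+* F) (e : κ ≃ μ) (A : Matrix κ κ F) :
    adjG σ (Matrix.reindexAlgEquiv F F e A) = Matrix.reindexAlgEquiv F F e (adjG σ A) := by
  ext i j
  simp [adjG]

theorem isUnit_adjG (σ : F ≃+* F) {A : Matrix κ κ F} (h : IsUnit A) : IsUnit (adjG σ A) := by
  obtain ⟨u, rfl⟩ := h
  exact ⟨⟨adjG σ u, adjG σ (u⁻¹ : GL κ F),
    by rw [← adjG_mul, ← Units.val_mul, inv_mul_cancel, Units.val_one, adjG_one],
    by rw [← adjG_mul, ← Units.val_mul, mul_inv_cancel, Units.val_one, adjG_one]⟩, rfl⟩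

theorem pureMat_smul {t : ℕ} (c : Fin t → F) (a : Fin t → Matrix κ κ F) :
    pureMat (fun j => c j • a j) = (∏ j, c j) • pureMat a := by
  ext p q
  simp [pureMat, Finset.prod_mul_distrib]

/-- The embedding of the left Kronecker factor. -/
def kronHom (m : ℕ) : Matrix κ κ F →ₐ[F] Matrix (κ × Fin m) (κ × Fin m) F :=
  AlgHom.ofLinearMap
    { toFun := fun x => x ⊗ₖ (1 : Matrix (Fin m) (Fin m) F)
      map_add' := fun x y => Matrix.add_kronecker x y _
      map_smul' := fun c x => Matrix.smul_kronecker c x _ }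
    (Matrix.one_kronecker_one) (fun x y => by
      show (x * y) ⊗ₖ (1 : Matrix (Fin m) (Fin m) F) =
        (x ⊗ₖ (1 : Matrix (Fin m) (Fin m) F)) * (y ⊗ₖ (1 : Matrix (Fin m) (Fin m) F))
      rw [← Matrix.mul_kronecker_mul, mul_one])

theorem kronHom_apply (m : ℕ) (x : Matrix κ κ F) :
    kronHom m x = x ⊗ₖ (1 : Matrix (Fin m) (Fin m) F) := rfl

/-- The embedding of one slot of a tensor power. -/
def slotHom {t : ℕ} (i : Fin t) : Matrix κ κ F →ₐ[F] Matrix (Fin t → κ) (Fin t → κ) F :=
  AlgHom.ofLinearMap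
    { toFun := fun x => pureMat (Function.update (fun _ => 1) i x)
      map_add' := fun x y => by
        ext p q
        simp only [Matrix.add_apply, slot_apply]
        split <;> simp
      map_smul' := fun c x => by
        ext p q
        simp only [Matrix.smul_apply, slot_apply, RingHom.id_apply]
        split <;> simp }
    (by
      show pureMat (Function.update (fun _ => (1 : Matrix κ κ F)) i 1) = 1
      rw [Function.update_eq_self i (fun _ => (1 : Matrix κ κ F))]
      exact pureMat_one)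
    (fun x y => by
      show pureMat _ = pureMat _ * pureMat _
      rw [pureMat_mul]
      congr 1
      funext j
      rcases eq_or_ne j i with rfl | hj
      · simp
      · simp [Function.update_of_ne hj])

theorem slotHom_apply {t : ℕ} (i : Fin t) (x : Matrix κ κ F) :
    slotHom i x = pureMat (Function.update (fun _ => 1) i x) := rfl

/-- An element normalising an embedded matrix algebra is an embedded element times a commuting one. -/
theorem exists_inner_of_range [Nonempty κ] [Nonempty μ] (φ : Matrix κ κ F →ₐ[F] Matrix μ μ F) {N : Matrix μ μ F}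
    (hN : IsUnit N) (h : ∀ y, ∃ y', φ y * N = N * φ y') :
    ∃ a : GL κ F, ∀ y, φ y * (N * φ (a : Matrix κ κ F)) = N * φ (a : Matrix κ κ F) * φ y := by
  classical
  obtain ⟨Nu, rfl⟩ := hN
  have hinj : Function.Injective φ := φ.toRingHom.injective
  let γ : Matrix κ κ F →ₐ[F] Matrix κ κ F :=
    ((AlgEquiv.ofInjective φ hinj).symm : φ.range →ₐ[F] Matrix κ κ F).comp
      (((cj Nu⁻¹).toAlgHom.comp φ).codRestrict φ.range (fun y => by
        obtain ⟨y', hy'⟩ := h y
        exact ⟨y', by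
          show φ y' = cj Nu⁻¹ (φ y)
          rw [cj_apply, inv_inv, mul_assoc, hy', Units.inv_mul_cancel_left]⟩))
  have hγ : ∀ y, φ (γ y) = cj Nu⁻¹ (φ y) := fun y =>
    congrArg Subtype.val ((AlgEquiv.ofInjective φ hinj).apply_symm_apply
      ⟨cj Nu⁻¹ (φ y), _⟩)
  obtain ⟨a, ha⟩ := exists_inner_hom γ
  refine ⟨a, fun y => ?_⟩
  have h1 := hγ y
  rw [ha, cj_apply, cj_apply, inv_inv, map_mul, map_mul] at h1
  have h2 := congrArg (fun z => (Nu : Matrix μ μ F) * z * φ (a : Matrix κ κ F)) h1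
  simp only [mul_assoc, Units.mul_inv_cancel_left, ← map_mul, Units.inv_mul, mul_one] at h2
  simpa only [map_mul, mul_assoc] using h2.symm

theorem ne_zero_entry {A : Matrix κ κ F} (h : A ≠ 0) : ∃ i j, A i j ≠ 0 := by
  by_contra hc
  push Not at hc
  exact h (Matrix.ext hc)

theorem smul_of_kron_eq {A A' : Matrix κ κ F} {B B' : Matrix μ μ F} (hA : A ≠ 0) (hB : B ≠ 0)
    (h : A ⊗ₖ B = A' ⊗ₖ B') : (∃ c : F, A' = c • A) ∧ ∃ c : F, B' = c • B := by
  obtain ⟨i, j, hij⟩ := ne_zero_entry hA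
  obtain ⟨k, l, hkl⟩ := ne_zero_entry hB
  have e : ∀ i j k l, A i j * B k l = A' i j * B' k l := fun i j k l =>
    congrFun (congrFun h (i, k)) (j, l)
  have h0 := mul_ne_zero hij hkl
  rw [e] at h0
  refine ⟨⟨B k l / B' k l, ?_⟩, ⟨A i j / A' i j, ?_⟩⟩
  · ext a b
    rw [Matrix.smul_apply, smul_eq_mul, div_mul_eq_mul_div, eq_div_iff (right_ne_zero_of_mul h0),
      ← e, mul_comm]
  · ext a b
    rw [Matrix.smul_apply, smul_eq_mul, div_mul_eq_mul_div, eq_div_iff (left_ne_zero_of_mul h0),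
      mul_comm, ← e]

theorem smul_of_pureMat_eq {t : ℕ} {a b : Fin t → Matrix κ κ F} (ha : ∀ j, a j ≠ 0)
    (h : pureMat a = pureMat b) (i : Fin t) : ∃ c : F, b i = c • a i := by
  classical
  choose p q hpq using fun j => ne_zero_entry (ha j)
  have e : ∀ p q : Fin t → κ, ∏ j, a j (p j) (q j) = ∏ j, b j (p j) (q j) := fun p q =>
    congrFun (congrFun h p) q
  have hb : ∀ j, b j (p j) (q j) ≠ 0 := by
    have h0 : ∏ j, a j (p j) (q j) ≠ 0 := Finset.prod_ne_zero_iff.2 fun j _ => hpq j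
    rw [e] at h0
    exact fun j => Finset.prod_ne_zero_iff.1 h0 j (Finset.mem_univ j)
  set Pa := ∏ j ∈ Finset.univ.erase i, a j (p j) (q j)
  set Pb := ∏ j ∈ Finset.univ.erase i, b j (p j) (q j)
  have hPb : Pb ≠ 0 := Finset.prod_ne_zero_iff.2 fun j _ => hb j
  refine ⟨Pa / Pb, ?_⟩
  ext u v
  have h1 := e (Function.update p i u) (Function.update q i v)
  rw [← Finset.mul_prod_erase _ _ (Finset.mem_univ i),
    ← Finset.mul_prod_erase _ _ (Finset.mem_univ i)] at h1
  simp only [Function.update_self] at h1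
  have hrest : ∀ c : Fin t → Matrix κ κ F, ∏ j ∈ Finset.univ.erase i,
      c j (Function.update p i u j) (Function.update q i v j) =
        ∏ j ∈ Finset.univ.erase i, c j (p j) (q j) := fun c =>
    Finset.prod_congr rfl fun j hj => by
      rw [Function.update_of_ne (Finset.ne_of_mem_erase hj),
        Function.update_of_ne (Finset.ne_of_mem_erase hj)]
  rw [hrest a, hrest b] at h1
  rw [Matrix.smul_apply, smul_eq_mul, div_mul_eq_mul_div, eq_div_iff hPb, ← h1, mul_comm]

/-- Conjugating a subgroup by one of its elements first does nothing. -/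
theorem map_conj_mul (S : Subgroup (GL κ F)) (P : GL κ F) {Q : GL κ F} (hQ : Q ∈ S) :
    S.map (MulAut.conj (P * Q)).toMonoidHom = S.map (MulAut.conj P).toMonoidHom := by
  refine le_antisymm ?_ ?_ <;> rintro _ ⟨x, hx, rfl⟩
  · exact ⟨Q * x * Q⁻¹, S.mul_mem (S.mul_mem hQ hx) (S.inv_mem hQ), by
      simp [MulAut.conj_apply, mul_assoc]⟩
  · exact ⟨Q⁻¹ * x * Q, S.mul_mem (S.mul_mem (S.inv_mem hQ) hx) hQ, by
      simp [MulAut.conj_apply, mul_assoc]⟩

end Adj

variable {F : Type*} [Field F] [Fintype F] {n q : ℕ}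

/-- A hermitian matrix up to scalar is congruent to a scalar. -/
theorem exists_normalize (hF : Fintype.card F = q ^ 2) {d : ℕ} [NeZero d]
    {A : Matrix (Fin d) (Fin d) F} (hA : IsUnit A) {c : F} (hc : adjG (qConj hF) A = c • A) :
    ∃ (a : GL (Fin d) F) (ν : F),
      adjG (qConj hF) (a : Matrix (Fin d) (Fin d) F) * A * (a : Matrix (Fin d) (Fin d) F) = ν • 1 := by
  classical
  set σ := qConj hF
  have hσσ : ∀ x, σ (σ x) = x := qConj_qConj hF
  have hA0 : A ≠ 0 := hA.ne_zero
  have hcc : σ c * c = 1 := by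
    have h := congrArg (adjG σ) hc
    rw [adjG_adjG hσσ, adjG_smul, hc, smul_smul] at h
    obtain ⟨i, j, hij⟩ := ne_zero_entry hA0
    have h' := congrFun (congrFun h i) j
    rw [Matrix.smul_apply, smul_eq_mul] at h'
    exact mul_right_cancel₀ hij (h'.symm.trans (one_mul _).symm)
  obtain ⟨x, hx⟩ : ∃ x : F, x + c * σ x ≠ 0 := by
    by_contra hcon
    push Not at hcon
    have h1 := hcon 1
    rw [map_one, mul_one] at h1
    refine (isUnitaryForm_hermForm hF 1).ne_refl (RingEquiv.ext fun a => ?_)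
    have h2 := hcon a
    rw [eq_neg_of_add_eq_zero_right h1, neg_one_mul, ← sub_eq_add_neg, sub_eq_zero] at h2
    exact h2.symm
  set ν := x + c * σ x with hν
  have hνc : σ ν * c = ν := by
    rw [hν, map_add, map_mul, hσσ]
    linear_combination x * hcc
  obtain ⟨Au, hAu⟩ := hA
  have hνu : IsUnit (ν • A) := by
    rw [Matrix.isUnit_iff_isUnit_det, Matrix.det_smul]
    exact ((isUnit_iff_ne_zero.2 hx).pow _).mul
      ((Matrix.isUnit_iff_isUnit_det _).1 (hAu ▸ Au.isUnit))
  obtain ⟨g, hg⟩ := hνu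
  obtain ⟨h, hh⟩ := exists_congr_one σ (orderOf_qConj hF) g (by
    show adjG σ (g : Matrix (Fin d) (Fin d) F) = g
    rw [hg, adjG_smul, hc, smul_smul, hνc])
  change (g : Matrix (Fin d) (Fin d) F) = (h : Matrix (Fin d) (Fin d) F) * adjG σ h at hh
  obtain ⟨w, hw⟩ := isUnit_adjG σ h.isUnit
  have hwinv : adjG σ ((w⁻¹ : GL (Fin d) F) : Matrix (Fin d) (Fin d) F) =
      ((h⁻¹ : GL (Fin d) F) : Matrix (Fin d) (Fin d) F) := by
    have h1 : (h : Matrix (Fin d) (Fin d) F) * adjG σ ((w⁻¹ : GL (Fin d) F) : Matrix (Fin d) (Fin d) F)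
        = 1 := by
      have h2 : adjG σ (w : Matrix (Fin d) (Fin d) F) = (h : Matrix (Fin d) (Fin d) F) := by
        rw [hw, adjG_adjG hσσ]
      rw [← h2, ← adjG_mul, ← Units.val_mul, inv_mul_cancel, Units.val_one, adjG_one]
    rw [← one_mul (adjG σ _), ← Units.val_one, ← inv_mul_cancel h, Units.val_mul, mul_assoc, h1,
      mul_one]
  refine ⟨w⁻¹, ν⁻¹, ?_⟩
  have hA' : A = ν⁻¹ • ((h : Matrix (Fin d) (Fin d) F) * (w : Matrix (Fin d) (Fin d) F)) := by
    rw [hw, ← hh, hg, smul_smul, inv_mul_cancel₀ hx, one_smul]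
  rw [hwinv, hA', Matrix.mul_smul, Matrix.smul_mul, Units.inv_mul_cancel_left, Units.mul_inv]

theorem mem_similarityGroup_of_adjM (hF : Fintype.card F = q ^ 2) (hn : 0 < n) {P : GL (Fin n) F}
    {ν : F} (h : adjM hF (P : Matrix (Fin n) (Fin n) F) * (P : Matrix (Fin n) (Fin n) F) = ν • 1) :
    P ∈ similarityGroup (hermForm n F q) := by
  have : Nonempty (Fin n) := ⟨⟨0, hn⟩⟩
  have hν : ν ≠ 0 := by
    rintro rfl
    rw [zero_smul] at h
    exact ((isUnit_adjG (qConj hF) P.isUnit).mul P.isUnit).ne_zero h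
  refine ⟨Units.mk0 (qConj hF ν) ((map_ne_zero _).2 hν), fun u v => ?_⟩
  rw [hermForm_mulVec_left hF, Matrix.mulVec_mulVec, h, Matrix.smul_mulVec, Matrix.one_mulVec,
    herm_smul_right (isUnitaryForm_hermForm hF n), Units.val_mk0]

/-- The adjoint-invariance of an embedded algebra, read in the coordinates of `P`. -/
theorem gram_normalises (hF : Fintype.card F = q ^ 2) {κ : Type} [Fintype κ] [DecidableEq κ]
    (e : Fin n ≃ κ) (P : GL (Fin n) F) {x x' : Matrix κ κ F}
    (h : adjM hF (cj P (Matrix.reindexAlgEquiv F F e.symm x)) =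
      cj P (Matrix.reindexAlgEquiv F F e.symm x')) :
    adjG (qConj hF) x * Matrix.reindexAlgEquiv F F e (adjM hF (P : Matrix (Fin n) (Fin n) F) * P) =
      Matrix.reindexAlgEquiv F F e (adjM hF (P : Matrix (Fin n) (Fin n) F) * P) * x' := by
  change adjG (qConj hF) _ = _ at h
  rw [cj_apply, cj_apply, adjG_mul, adjG_mul, adjG_reindex] at h
  have h1 := congrArg (fun z => adjG (qConj hF) (P : Matrix (Fin n) (Fin n) F) * z *
    (P : Matrix (Fin n) (Fin n) F)) h
  simp only [← mul_assoc, ← adjG_mul, Units.inv_mul, adjG_one, one_mul] at h1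
  have h2 := congrArg (Matrix.reindexAlgEquiv F F e) h1
  have hes : ∀ z : Matrix κ κ F,
      Matrix.reindexAlgEquiv F F e (Matrix.reindexAlgEquiv F F e.symm z) = z := fun z => by
    ext i j; simp
  simp only [map_mul, hes, mul_assoc, Units.inv_mul, mul_one] at h2
  simp only [← map_mul] at h2
  rw [← mul_assoc, map_mul, mul_assoc] at h2
  rw [map_mul, mul_assoc (Matrix.reindexAlgEquiv F F e (adjM hF _))]
  exact h2

theorem isUnit_gramAdj (hF : Fintype.card F = q ^ 2) {κ : Type} [Fintype κ] [DecidableEq κ]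
    (e : Fin n ≃ κ) (P : GL (Fin n) F) :
    IsUnit (Matrix.reindexAlgEquiv F F e (adjM hF (P : Matrix (Fin n) (Fin n) F) * P)) :=
  ((isUnit_adjG (qConj hF) P.isUnit).mul P.isUnit).map _

theorem adjM_mul_self_change (hF : Fintype.card F = q ^ 2) {κ : Type} [Fintype κ] [DecidableEq κ]
    (e : Fin n ≃ κ) (P : GL (Fin n) F) (Q : GL κ F) {ν : F}
    (h : adjG (qConj hF) (Q : Matrix κ κ F) *
      Matrix.reindexAlgEquiv F F e (adjM hF (P : Matrix (Fin n) (Fin n) F) * P) *
      (Q : Matrix κ κ F) = ν • 1) :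
    adjM hF ((P * glReindex e.symm Q : GL (Fin n) F) : Matrix (Fin n) (Fin n) F) *
      ((P * glReindex e.symm Q : GL (Fin n) F) : Matrix (Fin n) (Fin n) F) = ν • 1 := by
  have hse : ∀ z : Matrix (Fin n) (Fin n) F,
      Matrix.reindexAlgEquiv F F e.symm (Matrix.reindexAlgEquiv F F e z) = z := fun z => by
    ext i j; simp
  have h1 := congrArg (Matrix.reindexAlgEquiv F F e.symm) h
  rw [map_mul, map_mul, hse, map_smul, map_one, ← adjG_reindex] at h1
  rw [Units.val_mul, adjM_mul, ← h1]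
  simp only [mul_assoc]
  rfl

/-- A tensor decomposition with adjoint-closed left factor can be rebased by a similitude. -/
theorem exists_similitude_tensor (hF : Fintype.card F = q ^ 2) (hn : 0 < n) {d m : ℕ} [NeZero d]
    [NeZero m] (e : Fin n ≃ Fin d × Fin m) (P : GL (Fin n) F)
    (hA : ∀ x, ∃ x', adjM hF (leftFactor e P x) = leftFactor e P x') :
    ∃ P' : GL (Fin n) F, P' ∈ similarityGroup (hermForm n F q) ∧
      tensorProductSubgroup d m e P' = tensorProductSubgroup d m e P := by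
  classical
  set σ := qConj hF
  have hσσ : ∀ x, σ (σ x) = x := qConj_qConj hF
  set N := Matrix.reindexAlgEquiv F F e (adjM hF (P : Matrix (Fin n) (Fin n) F) * P) with hN
  have hNu : IsUnit N := isUnit_gramAdj hF e P
  have hrange : ∀ y, ∃ y', kronHom m y * N = N * kronHom m y' := by
    intro y
    obtain ⟨x', hx'⟩ := hA (adjG σ y)
    rw [leftFactor_eq, leftFactor_eq] at hx'
    have := gram_normalises hF e P hx'
    rw [adjG_kron, adjG_adjG hσσ, adjG_one] at this
    exact ⟨x', this⟩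
  obtain ⟨a, ha⟩ := exists_inner_of_range (kronHom m) hNu hrange
  obtain ⟨b, hb⟩ := exists_eq_one_kron (N * kronHom m (a : Matrix (Fin d) (Fin d) F))
    fun x => (ha x).symm
  have hNab : N = ((a⁻¹ : GL (Fin d) F) : Matrix (Fin d) (Fin d) F) ⊗ₖ b := by
    have h := congrArg (· * kronHom m ((a⁻¹ : GL (Fin d) F) : Matrix (Fin d) (Fin d) F)) hb
    simp only [mul_assoc, ← map_mul, Units.mul_inv, map_one, mul_one] at h
    rw [h, kronHom_apply, ← Matrix.mul_kronecker_mul, one_mul, mul_one]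
  set A := ((a⁻¹ : GL (Fin d) F) : Matrix (Fin d) (Fin d) F)
  have hbu : IsUnit b := by
    have h := hNu
    rw [hNab, Matrix.isUnit_iff_isUnit_det, Matrix.det_kronecker, IsUnit.mul_iff,
      isUnit_pow_iff (by simp [NeZero.ne m]), isUnit_pow_iff (by simp [NeZero.ne d])] at h
    exact (Matrix.isUnit_iff_isUnit_det _).2 h.2
  have hherm : adjG σ N = N := by
    rw [hN, adjG_reindex]
    congr 1
    show adjM hF (adjM hF _ * _) = _
    rw [adjM_mul, adjM_adjM]
  rw [hNab, adjG_kron] at hherm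
  obtain ⟨⟨c₁, hc₁⟩, c₂, hc₂⟩ := smul_of_kron_eq (A := A) (B := b)
    (a⁻¹).ne_zero hbu.ne_zero hherm.symm
  obtain ⟨u, ν₁, hu⟩ := exists_normalize hF (a⁻¹).isUnit hc₁
  obtain ⟨v, ν₂, hv⟩ := exists_normalize hF hbu hc₂
  let Q : GL (Fin d × Fin m) F :=
    { val := (u : Matrix (Fin d) (Fin d) F) ⊗ₖ (v : Matrix (Fin m) (Fin m) F)
      inv := ((u⁻¹ : GL (Fin d) F) : Matrix (Fin d) (Fin d) F) ⊗ₖ
        ((v⁻¹ : GL (Fin m) F) : Matrix (Fin m) (Fin m) F)
      val_inv := by rw [← Matrix.mul_kronecker_mul]; simp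
      inv_val := by rw [← Matrix.mul_kronecker_mul]; simp }
  refine ⟨P * glReindex e.symm Q, mem_similarityGroup_of_adjM hF hn (ν := ν₁ * ν₂)
    (adjM_mul_self_change hF e P Q ?_), ?_⟩
  · rw [← hN, hNab]
    show adjG σ ((u : Matrix (Fin d) (Fin d) F) ⊗ₖ (v : Matrix (Fin m) (Fin m) F)) * (A ⊗ₖ b) * _ = _
    rw [adjG_kron, ← Matrix.mul_kronecker_mul, ← Matrix.mul_kronecker_mul, hu, hv,
      Matrix.smul_kronecker, Matrix.kronecker_smul, smul_smul, Matrix.one_kronecker_one]
  · exact map_conj_mul _ P ⟨Q, ⟨u, v, rfl⟩, rfl⟩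

/-- A tensor power decomposition with adjoint-closed slots can be rebased by a similitude. -/
theorem exists_similitude_wreath (hF : Fintype.card F = q ^ 2) (hn : 0 < n) {d t : ℕ} [NeZero d]
    (ht : 0 < t) (e : Fin n ≃ (Fin t → Fin d)) (P : GL (Fin n) F)
    (hA : ∀ i x, ∃ x', adjM hF (slotFactor e P i x) = slotFactor e P i x') :
    ∃ P' : GL (Fin n) F, P' ∈ similarityGroup (hermForm n F q) ∧
      tensorWreathSubgroup d t e P' = tensorWreathSubgroup d t e P := by
  classical
  set σ := qConj hF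
  have hσσ : ∀ x, σ (σ x) = x := qConj_qConj hF
  set N := Matrix.reindexAlgEquiv F F e (adjM hF (P : Matrix (Fin n) (Fin n) F) * P) with hN
  have hNu : IsUnit N := isUnit_gramAdj hF e P
  have hrange : ∀ i y, ∃ y', slotHom i y * N = N * slotHom i y' := by
    intro i y
    obtain ⟨x', hx'⟩ := hA i (adjG σ y)
    have := gram_normalises hF e P hx'
    rw [adjG_pureMat] at this
    refine ⟨x', ?_⟩
    rw [slotHom_apply, slotHom_apply, ← this]
    congr 2
    funext j
    rcases eq_or_ne j i with rfl | hj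
    · simp [adjG_adjG hσσ, σ]
    · simp [Function.update_of_ne hj, adjG_one]
  choose a ha using fun i => exists_inner_of_range (slotHom i) hNu (hrange i)
  have hcomm : ∀ i x, Commute (N * pureMat fun j => (a j : Matrix (Fin d) (Fin d) F))
      (pureMat (Function.update (fun _ => 1) i x)) := by
    intro i x
    have hsplit : (pureMat fun j => (a j : Matrix (Fin d) (Fin d) F)) =
        slotHom i (a i : Matrix (Fin d) (Fin d) F) *
          pureMat (Function.update (fun j => (a j : Matrix (Fin d) (Fin d) F)) i 1) := by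
      rw [slotHom_apply, pureMat_mul]
      congr 1
      funext j
      rcases eq_or_ne j i with rfl | hj
      · simp
      · simp [Function.update_of_ne hj]
    rw [hsplit, ← mul_assoc]
    refine Commute.mul_left (ha i x).symm ?_
    show _ * _ = _ * _
    rw [pureMat_mul, pureMat_mul]
    congr 1
    funext j
    rcases eq_or_ne j i with rfl | hj
    · simp
    · simp [Function.update_of_ne hj]
  obtain ⟨c, hc⟩ := scalar_of_commute_slots _ hcomm
  let i₀ : Fin t := ⟨0, ht⟩
  set A : Fin t → Matrix (Fin d) (Fin d) F :=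
    Function.update (fun j => (((a j)⁻¹ : GL (Fin d) F) : Matrix (Fin d) (Fin d) F)) i₀
      (c • (((a i₀)⁻¹ : GL (Fin d) F) : Matrix (Fin d) (Fin d) F)) with hAdef
  have hNA : N = pureMat A := by
    have h := congrArg (· * pureMat fun j => (((a j)⁻¹ : GL (Fin d) F) : Matrix (Fin d) (Fin d) F)) hc
    simp only [mul_assoc, pureMat_mul, Units.mul_inv, pureMat_one, mul_one, Matrix.smul_mul,
      one_mul] at h
    rw [h, hAdef, pureMat_smul_update]
  have hc0 : c ≠ 0 := by
    rintro rfl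
    refine hNu.ne_zero ?_
    rw [hNA, hAdef, pureMat_smul_update, zero_smul]
  have hAu : ∀ j, IsUnit (A j) := by
    intro j
    rcases eq_or_ne j i₀ with rfl | hj
    · rw [hAdef, Function.update_self, Matrix.isUnit_iff_isUnit_det, Matrix.det_smul]
      exact ((isUnit_iff_ne_zero.2 hc0).pow _).mul
        ((Matrix.isUnit_iff_isUnit_det _).1 (a i₀)⁻¹.isUnit)
    · rw [hAdef, Function.update_of_ne hj]
      exact Units.isUnit _
  have hherm : adjG σ N = N := by
    rw [hN, adjG_reindex]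
    congr 1
    show adjM hF (adjM hF _ * _) = _
    rw [adjM_mul, adjM_adjM]
  rw [hNA, adjG_pureMat] at hherm
  choose cs hcs using fun j => smul_of_pureMat_eq (fun j => (hAu j).ne_zero) hherm.symm j
  choose u ν hu using fun j => exists_normalize hF (hAu j) (hcs j)
  let Q : GL (Fin t → Fin d) F :=
    { val := pureMat fun j => (u j : Matrix (Fin d) (Fin d) F)
      inv := pureMat fun j => (((u j)⁻¹ : GL (Fin d) F) : Matrix (Fin d) (Fin d) F)
      val_inv := by rw [pureMat_mul]; simp [pureMat_one]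
      inv_val := by rw [pureMat_mul]; simp [pureMat_one] }
  refine ⟨P * glReindex e.symm Q, mem_similarityGroup_of_adjM hF hn (ν := ∏ j, ν j)
    (adjM_mul_self_change hF e P Q ?_), ?_⟩
  · rw [← hN, hNA]
    show adjG σ (pureMat fun j => (u j : Matrix (Fin d) (Fin d) F)) * pureMat A * _ = _
    rw [adjG_pureMat, pureMat_mul, pureMat_mul,
      show (fun j => adjG σ (u j : Matrix (Fin d) (Fin d) F) * A j * (u j : Matrix (Fin d) (Fin d) F))
        = fun j => ν j • (1 : Matrix (Fin d) (Fin d) F) from funext fun j => hu j,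
      pureMat_smul, pureMat_one]
  · exact map_conj_mul _ P ⟨Q, Subgroup.subset_closure (Or.inl ⟨u, fun p q => rfl⟩), rfl⟩

end CfsgLib.AschU
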