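import Cfsg.Agent.Lib.AschU.Setup
import Cfsg.Agent.Lib.Aschbacher.Defs

/-!
Similitudes of the standard unitary form and the adjoint on the algebras they generate.
-/

set_option autoImplicit false

namespace CfsgLib.AschU

open Cfsg Cfsg.Geo CfsgLib.MaxSub CfsgLib.Aschbacher Matrix
open scoped MatrixGroups

variable {F : Type*} [Field F] [Fintype F] {n q : ℕ}

/-- The adjoint of a similitude is a multiple of its inverse. -/
theorem adjM_of_similitude (hF : Fintype.card F = q ^ 2) {g : GL (Fin n) F}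
    (hg : g ∈ similarityGroup (hermForm n F q)) :
    ∃ c : F, c ≠ 0 ∧ adjM hF (g : Matrix (Fin n) (Fin n) F) =
      c • ((g⁻¹ : GL (Fin n) F) : Matrix (Fin n) (Fin n) F) := by
  obtain ⟨c, hc⟩ := hg
  refine ⟨qConj hF c, (map_ne_zero _).2 c.ne_zero, ?_⟩
  have hf := isUnitaryForm_hermForm hF n
  have h1 : adjM hF (g : Matrix (Fin n) (Fin n) F) * (g : Matrix (Fin n) (Fin n) F) =
      qConj hF (c : F) • 1 := by
    refine Matrix.ext_of_mulVec_single fun j => eq_of_forall_herm hF fun u => ?_
    rw [← Matrix.mulVec_mulVec, Matrix.smul_mulVec, Matrix.one_mulVec, ← hermForm_mulVec_left hF,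
      hc u (Pi.single j 1), herm_smul_right hf, qConj_qConj]
  calc adjM hF (g : Matrix (Fin n) (Fin n) F)
      = adjM hF (g : Matrix (Fin n) (Fin n) F) *
          ((g : Matrix (Fin n) (Fin n) F) * ((g⁻¹ : GL (Fin n) F) : Matrix (Fin n) (Fin n) F)) := by
        rw [← Units.val_mul, mul_inv_cancel, Units.val_one, mul_one]
    _ = _ := by rw [← mul_assoc, h1, Matrix.smul_mul, one_mul]

theorem gu_le_similarityGroup : GU n F q ≤ similarityGroup (hermForm n F q) :=
  fun g hg => ⟨1, fun u v => by rw [Units.val_one, one_mul]; exact hg u v⟩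

theorem scalars_le_similarityGroup (hF : Fintype.card F = q ^ 2) :
    scalars (Fin n) F ≤ similarityGroup (hermForm n F q) := by
  intro g hg
  obtain ⟨c, hc⟩ := (mem_scalars_iff g).1 hg
  have hf := isUnitaryForm_hermForm hF n
  refine ⟨Units.mk0 ((c : F) * qConj hF c)
    (mul_ne_zero c.ne_zero ((map_ne_zero _).2 c.ne_zero)), fun u v => ?_⟩
  rw [hc, Matrix.smul_mulVec, Matrix.one_mulVec, Matrix.smul_mulVec, Matrix.one_mulVec,
    hf.smul_left, herm_smul_right hf, Units.val_mk0]
  ring

theorem sup_scalars_le_similarityGroup (hF : Fintype.card F = q ^ 2)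
    {H : Subgroup (GL (Fin n) F)} (hH : H ≤ GU n F q) :
    H ⊔ scalars (Fin n) F ≤ similarityGroup (hermForm n F q) :=
  sup_le (hH.trans gu_le_similarityGroup) (scalars_le_similarityGroup hF)

/-- The algebra of a group of similitudes is closed under the adjoint. -/
theorem adjM_mem_alg (hF : Fintype.card F = q ^ 2) {L : Subgroup (GL (Fin n) F)}
    (hL : L ≤ similarityGroup (hermForm n F q)) {x : Matrix (Fin n) (Fin n) F} (hx : x ∈ alg L) :
    adjM hF x ∈ alg L := by
  induction hx using Algebra.adjoin_induction with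
  | mem x hx =>
    obtain ⟨g, hg, rfl⟩ := hx
    obtain ⟨c, -, hc⟩ := adjM_of_similitude hF (hL hg)
    show adjM hF (g : Matrix (Fin n) (Fin n) F) ∈ alg L
    rw [hc]
    exact Subalgebra.smul_mem _ (Algebra.subset_adjoin (s := matrixSet L)
      ⟨g⁻¹, inv_mem hg, rfl⟩) c
  | algebraMap c =>
    rw [Algebra.algebraMap_eq_smul_one, adjM_smul, adjM_one]
    exact Subalgebra.smul_mem _ (one_mem _) _
  | add x y _ _ hx hy => rw [adjM_add]; exact add_mem hx hy
  | mul x y _ _ hx hy => rw [adjM_mul]; exact mul_mem hy hx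

/-- The centre of that algebra is closed under the adjoint. -/
theorem adjM_mem_centre (hF : Fintype.card F = q ^ 2) {L : Subgroup (GL (Fin n) F)}
    (hL : L ≤ similarityGroup (hermForm n F q)) {x : Matrix (Fin n) (Fin n) F}
    (hx : x ∈ centreOf (alg L)) : adjM hF x ∈ centreOf (alg L) := by
  refine ⟨adjM_mem_alg hF hL hx.1, (Subalgebra.mem_centralizer_iff F).2 fun y hy => ?_⟩
  have h := (Subalgebra.mem_centralizer_iff F).1 hx.2 (adjM hF y) (adjM_mem_alg hF hL hy)
  have := congrArg (adjM hF) h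
  rwa [adjM_mul, adjM_mul, adjM_adjM, eq_comm] at this

/-- Conjugation by a similitude commutes with the adjoint. -/
theorem adjM_cj (hF : Fintype.card F = q ^ 2) {g : GL (Fin n) F}
    (hg : g ∈ similarityGroup (hermForm n F q)) (x : Matrix (Fin n) (Fin n) F) :
    adjM hF (cj g x) = cj g (adjM hF x) := by
  obtain ⟨c, hc0, hc⟩ := adjM_of_similitude hF hg
  obtain ⟨d, hd0, hd⟩ := adjM_of_similitude hF (inv_mem hg)
  rw [inv_inv] at hd
  rcases Nat.eq_zero_or_pos n with h0 | h0
  · subst h0
    exact Subsingleton.elim _ _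
  have hdc : d * c = 1 := by
    have h1 : adjM hF ((g : Matrix (Fin n) (Fin n) F) *
        ((g⁻¹ : GL (Fin n) F) : Matrix (Fin n) (Fin n) F)) = 1 := by
      rw [← Units.val_mul, mul_inv_cancel, Units.val_one, adjM_one]
    rw [adjM_mul, hc, hd, Matrix.smul_mul, Matrix.mul_smul, smul_smul, ← Units.val_mul,
      mul_inv_cancel, Units.val_one] at h1
    have := congrFun (congrFun h1 ⟨0, h0⟩) ⟨0, h0⟩
    simpa using this
  rw [cj_apply, cj_apply, adjM_mul, adjM_mul, hc, hd, Matrix.smul_mul, Matrix.mul_smul,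
    Matrix.mul_smul, smul_smul, hdc, one_smul, mul_assoc]

end CfsgLib.AschU
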