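import Cfsg.Agent.Lib.AschU.Adjoint

/-!
A transitive system of central idempotents of an adjoint-closed algebra gives a member of the
second class of the unitary group.
-/

set_option autoImplicit false

namespace CfsgLib.AschU

open Cfsg Cfsg.Geo CfsgLib.MaxSub CfsgLib.Aschbacher Matrix
open scoped MatrixGroups

variable {F : Type*} [Field F] [Fintype F] {n q : ℕ}

section Spaces

variable {t : ℕ} {E : Fin t → Matrix (Fin n) (Fin n) F}

omit [Fintype F] in
theorem mem_idemSpace_iff (hidem : ∀ i, E i * E i = E i) {i : Fin t} {v : Fin n → F} :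
    v ∈ idemSpace E i ↔ E i *ᵥ v = v := by
  constructor
  · rintro ⟨w, rfl⟩
    rw [Matrix.toLin'_apply, Matrix.mulVec_mulVec, hidem]
  · exact fun h => ⟨v, by rw [Matrix.toLin'_apply, h]⟩

omit [Fintype F] in
theorem iSupIndep_idemSpace (hidem : ∀ i, E i * E i = E i)
    (horth : ∀ i j, i ≠ j → E i * E j = 0) : iSupIndep (idemSpace E) := by
  refine fun i => Submodule.disjoint_def.2 fun v hv hv' => ?_
  have hle : (⨆ j ≠ i, idemSpace E j) ≤ LinearMap.ker (Matrix.toLin' (E i)) := by
    refine iSup₂_le fun j hj => ?_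
    rintro _ ⟨w, rfl⟩
    rw [LinearMap.mem_ker, Matrix.toLin'_apply, Matrix.toLin'_apply, Matrix.mulVec_mulVec,
      horth i j hj.symm, Matrix.zero_mulVec]
  have h0 := hle hv'
  rw [LinearMap.mem_ker, Matrix.toLin'_apply, (mem_idemSpace_iff hidem).1 hv] at h0
  exact h0

omit [Fintype F] in
theorem iSup_idemSpace (hsum : ∑ i, E i = 1) : iSup (idemSpace E) = ⊤ := by
  refine eq_top_iff.2 fun v _ => ?_
  have h : v = ∑ i, E i *ᵥ v := by rw [← Matrix.sum_mulVec, hsum, Matrix.one_mulVec]
  rw [h]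
  exact sum_mem fun i _ => Submodule.mem_iSup_of_mem i ⟨v, Matrix.toLin'_apply _ _⟩

omit [Fintype F] in
theorem map_idemSpace {g : GL (Fin n) F} {i j : Fin t} (h : cj g (E i) = E j) :
    (idemSpace E i).map (Matrix.toLin' (g : Matrix (Fin n) (Fin n) F)) = idemSpace E j := by
  apply le_antisymm
  · rintro _ ⟨_, ⟨w, rfl⟩, rfl⟩
    refine ⟨(g : Matrix (Fin n) (Fin n) F) *ᵥ w, ?_⟩
    simp only [Matrix.toLin'_apply, ← h, cj_apply, Matrix.mulVec_mulVec, mul_assoc,
      Units.inv_mul, mul_one]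
  · rintro _ ⟨w, rfl⟩
    refine ⟨E i *ᵥ (((g⁻¹ : GL (Fin n) F) : Matrix (Fin n) (Fin n) F) *ᵥ w),
      ⟨_, Matrix.toLin'_apply _ _⟩, ?_⟩
    simp only [Matrix.toLin'_apply, ← h, cj_apply, Matrix.mulVec_mulVec, mul_assoc]

omit [Fintype F] in
/-- Idempotents permuted transitively give an equidimensional decomposition. -/
theorem isMDecomposition_idemSpace (ht : 2 ≤ t) (hidem : ∀ i, E i * E i = E i)
    (horth : ∀ i j, i ≠ j → E i * E j = 0) (hsum : ∑ i, E i = 1) (hne : ∀ i, E i ≠ 0)
    {G : Subgroup (GL (Fin n) F)} (htrans : ∀ i j, ∃ g ∈ G, cj g (E i) = E j) :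
    IsMDecomposition (Module.finrank F (idemSpace E ⟨0, by omega⟩)) (idemSpace E) := by
  refine ⟨ht, Nat.pos_of_ne_zero fun h => ?_, fun i => ?_, iSupIndep_idemSpace hidem horth,
    iSup_idemSpace hsum⟩
  · refine hne ⟨0, by omega⟩ (Matrix.ext_of_mulVec_single fun j => ?_)
    have : E ⟨0, by omega⟩ *ᵥ Pi.single j 1 ∈ idemSpace E ⟨0, by omega⟩ :=
      ⟨_, Matrix.toLin'_apply _ _⟩
    rw [Submodule.finrank_eq_zero.1 h, Submodule.mem_bot] at this
    rw [this, Matrix.zero_mulVec]
  · obtain ⟨g, -, hg⟩ := htrans ⟨0, by omega⟩ i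
    rw [← map_idemSpace hg]
    refine (Submodule.equivMapOfInjective _ ?_ _).finrank_eq.symm
    intro x y e
    have := congrArg (((g⁻¹ : GL (Fin n) F) : Matrix (Fin n) (Fin n) F) *ᵥ ·) e
    simpa [Matrix.mulVec_mulVec, ← Units.val_mul] using this

/-- Self-adjoint idempotents permuted transitively: a non-degenerate decomposition. -/
theorem member_of_selfAdjoint (hF : Fintype.card F = q ^ 2) (ht : 2 ≤ t)
    (hidem : ∀ i, E i * E i = E i) (horth : ∀ i j, i ≠ j → E i * E j = 0) (hsum : ∑ i, E i = 1)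
    (hne : ∀ i, E i ≠ 0) {G : Subgroup (GL (Fin n) F)}
    (hperm : ∀ g ∈ G, ∃ π : Equiv.Perm (Fin t), ∀ i, cj g (E i) = E (π i))
    (htrans : ∀ i j, ∃ g ∈ G, cj g (E i) = E j) (hadj : ∀ i, adjM hF (E i) = E i)
    {H : Subgroup (GL (Fin n) F)} (hHG : H ≤ G) (hH : H ≤ GU n F q) :
    ∃ M : Subgroup (GL (Fin n) F), UClass n q M ∧ H ≤ M := by
  have hf := isUnitaryForm_hermForm hF n
  have hperp : ∀ i j, i ≠ j → AreOrthogonalFor (hermForm n F q) (idemSpace E i) (idemSpace E j) := by
    intro i j hij u hu v hv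
    rw [← (mem_idemSpace_iff hidem).1 hu, hermForm_mulVec_left hF, hadj,
      ← (mem_idemSpace_iff hidem).1 hv, Matrix.mulVec_mulVec, horth i j hij, Matrix.zero_mulVec,
      herm_zero_right hf]
  have hnd : ∀ i, IsNondegenerateOn (hermForm n F q) (idemSpace E i) := by
    intro i w hw hw0
    obtain ⟨-, ⟨x, hx⟩⟩ := hf.nondegenerate w hw0
    have hx' : hermForm n F q w (E i *ᵥ x) ≠ 0 := by
      have h := hermForm_mulVec_left hF (E i) w x
      rw [hadj, (mem_idemSpace_iff hidem).1 hw] at h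
      rwa [← h]
    have hm : E i *ᵥ x ∈ idemSpace E i := ⟨x, Matrix.toLin'_apply _ _⟩
    exact ⟨⟨_, hm, fun h => hx' (herm_eq_zero_comm hf h)⟩, ⟨_, hm, hx'⟩⟩
  refine ⟨_, Or.inl (Or.inr (Or.inr (Or.inl ⟨t, _, idemSpace E,
    ⟨isMDecomposition_idemSpace ht hidem horth hsum hne htrans, hnd, hperp⟩, rfl⟩))),
    le_inf (fun g hg => ?_) hH⟩
  obtain ⟨π, hπ⟩ := hperm g (hHG hg)
  exact ⟨π, fun i => map_idemSpace (hπ i)⟩

end Spaces

/-- The idempotent case of the core theorem. -/
theorem member_of_idemSystem (hF : Fintype.card F = q ^ 2) {G L : Subgroup (GL (Fin n) F)}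
    (hG : G ≤ similarityGroup (hermForm n F q)) (hLG : L ≤ G) {t : ℕ}
    {E : Fin t → Matrix (Fin n) (Fin n) F} (hE : IsIdemSystem G (alg L) E)
    {H : Subgroup (GL (Fin n) F)} (hHG : H ≤ G) (hH : H ≤ GU n F q) :
    ∃ M : Subgroup (GL (Fin n) F), UClass n q M ∧ H ≤ M := by
  classical
  have hf := isUnitaryForm_hermForm hF n
  have hL : L ≤ similarityGroup (hermForm n F q) := hLG.trans hG
  -- the adjoint permutes the idempotents
  have hsel : ∀ i, ∃ j, adjM hF (E i) = E j := by
    intro i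
    set e := adjM hF (E i) with he
    have hmem : e ∈ alg L := adjM_mem_alg hF hL (hE.mem i)
    have hc : ∀ y ∈ alg L, e * y = y * e := fun y hy => by
      have := congrArg (adjM hF) (hE.central i (adjM hF y) (adjM_mem_alg hF hL hy))
      rwa [adjM_mul, adjM_mul, adjM_adjM, eq_comm] at this
    have hid : e * e = e := by rw [he, ← adjM_mul, hE.idem]
    have hne : e ≠ 0 := fun h => hE.ne_zero i (by
      rw [← adjM_adjM hF (E i), ← he, h, adjM_zero])
    obtain ⟨j, hj⟩ : ∃ j, e * E j ≠ 0 := by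
      by_contra hall
      push Not at hall
      apply hne
      rw [← mul_one e, ← hE.sum_one, Finset.mul_sum]
      exact Finset.sum_eq_zero fun j _ => hall j
    refine ⟨j, ?_⟩
    have h1 : e * E j = E j := (hE.minimal j e hmem hc hid).resolve_left hj
    have hmem' : adjM hF (E j) ∈ alg L := adjM_mem_alg hF hL (hE.mem j)
    have hc' : ∀ y ∈ alg L, adjM hF (E j) * y = y * adjM hF (E j) := fun y hy => by
      have := congrArg (adjM hF) (hE.central j (adjM hF y) (adjM_mem_alg hF hL hy))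
      rwa [adjM_mul, adjM_mul, adjM_adjM, eq_comm] at this
    have hj0 : E j ≠ 0 := hE.ne_zero j
    have h2 : adjM hF (E j) * E i = adjM hF (E j) := by
      have h := congrArg (adjM hF) h1
      rwa [adjM_mul, he, adjM_adjM] at h
    rcases hE.minimal i (adjM hF (E j)) hmem' hc' (by rw [← adjM_mul, hE.idem]) with h3 | h3
    · rw [h2] at h3
      exact absurd (by rw [← adjM_adjM hF (E j), h3, adjM_zero]) hj0
    · rw [h2] at h3
      rw [he, ← adjM_adjM hF (E j), h3]
  choose π hπ using hsel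
  have hinj : ∀ i j, E i = E j → i = j := fun i j h => by
    by_contra hne
    have := hE.orth i j hne
    rw [← h, hE.idem] at this
    exact hE.ne_zero i this
  have hππ : ∀ i, π (π i) = i := fun i => hinj _ _ (by rw [← hπ (π i), ← hπ i, adjM_adjM])
  have hcomm : ∀ g ∈ G, ∀ (s : Equiv.Perm (Fin t)), (∀ i, cj g (E i) = E (s i)) →
      ∀ i, π (s i) = s (π i) := fun g hg s hs i => hinj _ _ (by
    rw [← hπ (s i), ← hs i, adjM_cj hF (hG hg), hπ i, hs])
  by_cases hfix : ∀ i, π i = i
  · exact member_of_selfAdjoint hF hE.two_le hE.idem hE.orth hE.sum_one hE.ne_zero hE.perm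
      hE.trans (fun i => by rw [hπ i, hfix i]) hHG hH
  have hmove : ∀ i, π i ≠ i := by
    intro i hi
    push Not at hfix
    obtain ⟨j, hj⟩ := hfix
    obtain ⟨g, hg, hgi⟩ := hE.trans i j
    obtain ⟨s, hs⟩ := hE.perm g hg
    have hsi : s i = j := hinj _ _ (by rw [← hs i, hgi])
    exact hj (by rw [← hsi, hcomm g hg s hs i, hi])
  -- pairs
  let S : Finset (Fin t) := Finset.univ.filter fun i => i < π i
  let b := Fintype.equivFinOfCardEq (α := S) (Fintype.card_coe S)
  let rep : Fin S.card → Fin t := fun k => (b.symm k : S)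
  have hrep : ∀ k, rep k < π (rep k) := fun k => (Finset.mem_filter.1 (b.symm k : S).2).2
  have hcover : ∀ i, ∃ k, i = rep k ∨ i = π (rep k) := by
    intro i
    rcases lt_or_gt_of_ne (hmove i) with h | h
    · refine ⟨b ⟨π i, Finset.mem_filter.2 ⟨Finset.mem_univ _, by rwa [hππ]⟩⟩, Or.inr ?_⟩
      simp [rep, hππ]
    · exact ⟨b ⟨i, Finset.mem_filter.2 ⟨Finset.mem_univ _, h⟩⟩, Or.inl (by simp [rep])⟩
  have hrinj : ∀ k l, (rep k = rep l ∨ rep k = π (rep l)) → k = l := by
    intro k l h
    rcases h with h | h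
    · exact b.symm.injective (Subtype.ext h)
    · exfalso
      have h1 := hrep k
      rw [h, hππ] at h1
      exact absurd (hrep l) (not_lt.2 h1.le)
  let E' : Fin S.card → Matrix (Fin n) (Fin n) F := fun k => E (rep k) + E (π (rep k))
  have horth' : ∀ k l, k ≠ l → E' k * E' l = 0 := by
    intro k l hkl
    have a1 : rep k ≠ rep l := fun h => hkl (hrinj _ _ (Or.inl h))
    have a2 : rep k ≠ π (rep l) := fun h => hkl (hrinj _ _ (Or.inr h))
    have a3 : π (rep k) ≠ rep l := fun h => hkl (hrinj _ _ (Or.inr (by rw [← h, hππ])))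
    have a4 : π (rep k) ≠ π (rep l) := fun h => a1 (by rw [← hππ (rep k), h, hππ])
    simp only [E', mul_add, add_mul, hE.orth _ _ a1, hE.orth _ _ a2, hE.orth _ _ a3,
      hE.orth _ _ a4, add_zero]
  have hidem' : ∀ k, E' k * E' k = E' k := by
    intro k
    have h1 := hE.orth _ _ (hrep k).ne
    have h2 := hE.orth _ _ (hrep k).ne'
    simp only [E', mul_add, add_mul, hE.idem, h1, h2, add_zero, zero_add]
  have hsum' : ∑ k, E' k = 1 := by
    rw [← hE.sum_one]
    have hu : (Finset.univ : Finset (Fin t)) = Finset.univ.biUnion fun k => {rep k, π (rep k)} := by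
      ext i
      simpa using hcover i
    rw [hu, Finset.sum_biUnion]
    · exact Finset.sum_congr rfl fun k _ => by rw [Finset.sum_pair (hrep k).ne]
    · intro k _ l _ hkl
      rw [Function.onFun, Finset.disjoint_left]
      intro i hi hi'
      simp only [Finset.mem_insert, Finset.mem_singleton] at hi hi'
      rcases hi with rfl | rfl <;> rcases hi' with h | h
      · exact hkl (hrinj _ _ (Or.inl h))
      · exact hkl (hrinj _ _ (Or.inr h))
      · exact hkl (hrinj _ _ (Or.inr (by rw [← h, hππ])))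
      · exact hkl (hrinj _ _ (Or.inl (by rw [← hππ (rep k), h, hππ])))
  have hne' : ∀ k, E' k ≠ 0 := fun k h => hE.ne_zero (rep k) (by
    have h1 : E (rep k) * E' k = E (rep k) := by
      simp only [E', mul_add, hE.idem, hE.orth _ _ (hrep k).ne, add_zero]
    rw [← h1, h, mul_zero])
  have hperm' : ∀ g ∈ G, ∃ s : Equiv.Perm (Fin S.card), ∀ k, cj g (E' k) = E' (s k) := by
    intro g hg
    obtain ⟨s, hs⟩ := hE.perm g hg
    have hex : ∀ k, ∃ l, cj g (E' k) = E' l := by
      intro k
      have e : cj g (E' k) = E (s (rep k)) + E (π (s (rep k))) := by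
        simp only [E', map_add, hs, hcomm g hg s hs]
      obtain ⟨l, h | h⟩ := hcover (s (rep k))
      · exact ⟨l, by rw [e, h]⟩
      · exact ⟨l, by rw [e, h, hππ, add_comm]⟩
    choose s' hs' using hex
    have hs'i : Function.Injective s' := by
      intro k l h
      by_contra hkl
      have h1 := congrArg (cj g) (horth' k l hkl)
      rw [map_mul, map_zero, hs', hs', h, hidem'] at h1
      exact hne' _ h1
    exact ⟨Equiv.ofBijective s' (Finite.injective_iff_bijective.1 hs'i), hs'⟩
  have htrans' : ∀ k l, ∃ g ∈ G, cj g (E' k) = E' l := by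
    intro k l
    obtain ⟨g, hg, hgi⟩ := hE.trans (rep k) (rep l)
    obtain ⟨s, hs⟩ := hE.perm g hg
    refine ⟨g, hg, ?_⟩
    simp only [E', map_add, hgi, hs (π (rep k)), ← hcomm g hg s hs,
      show s (rep k) = rep l from hinj _ _ (by rw [← hs, hgi])]
  have hadj' : ∀ k, adjM hF (E' k) = E' k := fun k => by
    simp only [E', adjM_add, hπ, hππ, add_comm]
  have hcard : 1 ≤ S.card := by
    obtain ⟨k, -⟩ := hcover ⟨0, by have := hE.two_le; omega⟩
    exact k.pos
  rcases Nat.lt_or_ge S.card 2 with h2 | h2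
  · -- one pair: two totally singular halves
    have h1 : S.card = 1 := by omega
    have hsub : ∀ k l : Fin S.card, k = l := fun k l => Fin.ext (by omega)
    obtain ⟨k₀, -⟩ := hcover ⟨0, by have := hE.two_le; omega⟩
    have hall : ∀ i, i = rep k₀ ∨ i = π (rep k₀) := fun i => by
      obtain ⟨k, hk⟩ := hcover i
      rwa [hsub k k₀] at hk
    have htwo : t = 2 := by
      have : (Finset.univ : Finset (Fin t)) ⊆ {rep k₀, π (rep k₀)} := fun i _ => by
        simpa using hall i
      have := Finset.card_le_card this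
      rw [Finset.card_univ, Fintype.card_fin] at this
      have := Finset.card_le_two (a := rep k₀) (b := π (rep k₀))
      have := hE.two_le
      omega
    subst htwo
    have hD := isMDecomposition_idemSpace (E := E) hE.two_le hE.idem hE.orth hE.sum_one hE.ne_zero
      hE.trans
    set k := Module.finrank F (idemSpace E (⟨0, by norm_num⟩ : Fin 2))
    have hk : 2 * k = n := by
      have h0 := hD.finrank_eq 0
      have h1 := hD.finrank_eq 1
      have hd : Disjoint (idemSpace E 0) (idemSpace E 1) := hD.indep.pairwiseDisjoint (by decide)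
      have hs : idemSpace E 0 ⊔ idemSpace E 1 = ⊤ := by
        rw [← hD.iSup_eq_top]
        refine le_antisymm (sup_le (le_iSup _ 0) (le_iSup _ 1)) (iSup_le fun i => ?_)
        fin_cases i
        exacts [le_sup_left, le_sup_right]
      have h3 := Submodule.finrank_sup_add_finrank_inf_eq (idemSpace E 0) (idemSpace E 1)
      rw [hs, hd.eq_bot, finrank_bot, finrank_top, Module.finrank_fin_fun, h0, h1] at h3
      omega
    refine ⟨_, Or.inl (Or.inr (Or.inr (Or.inr (Or.inl ⟨k, idemSpace E, hk, hD, fun i u hu v hv => ?_,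
      rfl⟩)))), le_inf (fun g hg => ?_) hH⟩
    · rw [← (mem_idemSpace_iff hE.idem).1 hu, hermForm_mulVec_left hF, hπ,
        ← (mem_idemSpace_iff hE.idem).1 hv, Matrix.mulVec_mulVec, hE.orth _ _ (hmove i),
        Matrix.zero_mulVec, herm_zero_right hf]
    · obtain ⟨s, hs⟩ := hE.perm g (hHG hg)
      exact ⟨s, fun i => map_idemSpace (hs i)⟩
  · exact member_of_selfAdjoint hF h2 hidem' horth' hsum' hne' hperm' htrans' hadj' hHG hH

end CfsgLib.AschU
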