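import Cfsg.Agent.Lib.AschU.Adjoint
import Cfsg.Agent.Lib.Aschbacher.Centre

/-!
A central field of an adjoint-closed algebra gives a member of the third class of the unitary group:
a subfield closed under the adjoint whose degree is an odd prime.
-/

set_option autoImplicit false

namespace CfsgLib.AschU

open Cfsg Cfsg.Geo CfsgLib.MaxSub CfsgLib.Aschbacher Matrix
open scoped MatrixGroups

variable {F : Type*} [Field F] [Fintype F] {n q : ℕ}

theorem adjM_pow (hF : Fintype.card F = q ^ 2) (A : Matrix (Fin n) (Fin n) F) (k : ℕ) :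
    adjM hF (A ^ k) = adjM hF A ^ k := by
  induction k with
  | zero => simp [adjM_one]
  | succ k ih => rw [pow_succ, adjM_mul, ih, pow_succ']

/-- A field of matrices closed under the adjoint does not have degree two. -/
theorem degree_ne_two (hF : Fintype.card F = q ^ 2) (hn : 0 < n)
    {K : Subalgebra F (Matrix (Fin n) (Fin n) F)} (hK : IsFieldSubalgebra 2 K)
    (hadj : ∀ x ∈ K, adjM hF x ∈ K) : False := by
  classical
  have : Nonempty (Fin n) := ⟨⟨0, hn⟩⟩
  have hf := isUnitaryForm_hermForm hF n
  obtain ⟨l, hl⟩ : ∃ l : F, qConj hF l ≠ l := by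
    by_contra h
    push Not at h
    exact hf.ne_refl (RingEquiv.ext h)
  have hfield : IsField K :=
    { exists_pair_ne := ⟨0, 1, zero_ne_one⟩
      mul_comm := fun a b => Subtype.ext (hK.comm a a.2 b b.2)
      mul_inv_cancel := fun {a} ha => by
        obtain ⟨y, hy, h⟩ := hK.inv a a.2 fun h => ha (Subtype.ext h)
        exact ⟨⟨y, hy⟩, Subtype.ext h⟩ }
  let _ : Field K := hfield.toField
  let fix : Subfield K :=
    { carrier := {x | adjM hF (x : Matrix (Fin n) (Fin n) F) = x}
      mul_mem' := fun {a b} ha hb => by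
        show adjM hF _ = _
        rw [MulMemClass.coe_mul, adjM_mul, ha, hb, hK.comm _ b.2 _ a.2]
      one_mem' := adjM_one hF
      add_mem' := fun {a b} ha hb => by
        show adjM hF _ = _
        rw [AddMemClass.coe_add, adjM_add, ha, hb]
      zero_mem' := adjM_zero hF
      neg_mem' := fun {a} ha => by
        show adjM hF _ = _
        have h := adjM_add hF ((-a : K) : Matrix (Fin n) (Fin n) F) a
        rw [← AddMemClass.coe_add, neg_add_cancel, ZeroMemClass.coe_zero, adjM_zero, ha] at h
        rw [← neg_eq_of_add_eq_zero_left h.symm]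
        simp
      inv_mem' := fun a ha => by
        show adjM hF _ = _
        rcases eq_or_ne a 0 with rfl | h0
        · rw [_root_.inv_zero]; exact adjM_zero hF
        have h1 : ((a⁻¹ : K) : Matrix (Fin n) (Fin n) F) * a = 1 :=
          congrArg Subtype.val (inv_mul_cancel₀ h0)
        have h2 := congrArg (adjM hF) h1
        rw [adjM_mul, adjM_one, ha] at h2
        calc adjM hF ((a⁻¹ : K) : Matrix (Fin n) (Fin n) F)
            = ((a⁻¹ : K) : Matrix (Fin n) (Fin n) F) * a *
                adjM hF ((a⁻¹ : K) : Matrix (Fin n) (Fin n) F) := by rw [h1, one_mul]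
          _ = _ := by rw [mul_assoc, h2, mul_one] }
  -- the fixed field has index two
  have hd : l - qConj hF l ≠ 0 := sub_ne_zero.2 fun h => hl h.symm
  let Φ : fix × fix → K := fun p => (p.1 : K) + algebraMap F K l * (p.2 : K)
  have hval : ∀ p : fix × fix, adjM hF ((Φ p : K) : Matrix (Fin n) (Fin n) F) =
      ((p.1 : K) : Matrix (Fin n) (Fin n) F) + qConj hF l • ((p.2 : K) : Matrix (Fin n) (Fin n) F) := by
    intro p
    have h1 : adjM hF ((p.1 : K) : Matrix (Fin n) (Fin n) F) = (p.1 : K) := p.1.2
    have h2 : adjM hF ((p.2 : K) : Matrix (Fin n) (Fin n) F) = (p.2 : K) := p.2.2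
    simp [Φ, Algebra.algebraMap_eq_smul_one, adjM_add, adjM_smul, h1, h2]
  have hΦ : Function.Bijective Φ := by
    constructor
    · intro p p' h
      have e1 : ((p.1 : K) : Matrix (Fin n) (Fin n) F) + l • ((p.2 : K) : Matrix (Fin n) (Fin n) F) =
          ((p'.1 : K) : Matrix (Fin n) (Fin n) F) + l • ((p'.2 : K) : Matrix (Fin n) (Fin n) F) := by
        simpa [Φ, Algebra.algebraMap_eq_smul_one] using
          congrArg (fun x : K => (x : Matrix (Fin n) (Fin n) F)) h
      have e2 := congrArg (fun x : K => adjM hF (x : Matrix (Fin n) (Fin n) F)) h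
      simp only [hval] at e2
      have e3 : (l - qConj hF l) • ((p.2 : K) : Matrix (Fin n) (Fin n) F) =
          (l - qConj hF l) • ((p'.2 : K) : Matrix (Fin n) (Fin n) F) := by
        rw [sub_smul, sub_smul, sub_eq_sub_iff_add_eq_add]
        have := congrArg₂ (fun a b => a + b) e1 e2.symm
        simp only [add_assoc, add_left_comm] at this ⊢
        linear_combination (norm := module) this
      have h2 : p.2 = p'.2 := Subtype.ext (Subtype.ext (smul_right_injective _ hd e3))
      rw [h2, add_left_inj] at e1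
      exact Prod.ext (Subtype.ext (Subtype.ext e1)) h2
    · intro x
      set X : Matrix (Fin n) (Fin n) F := x.1 with hX
      have hX' : adjM hF X ∈ K := hadj X x.2
      let b : Matrix (Fin n) (Fin n) F := (l - qConj hF l)⁻¹ • (X - adjM hF X)
      have hbK : b ∈ K := K.smul_mem (K.sub_mem x.2 hX') _
      have hb : adjM hF b = b := by
        have hsub : adjM hF (X - adjM hF X) = -(X - adjM hF X) := by
          have h := adjM_add hF (X - adjM hF X) (adjM hF X)
          rw [sub_add_cancel, adjM_adjM] at h
          rw [eq_sub_of_add_eq h.symm, neg_sub]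
        simp only [b, adjM_smul, hsub, map_inv₀, map_sub, qConj_qConj]
        rw [smul_neg, ← neg_smul, neg_inv, neg_sub]
      have ha : adjM hF (X - l • b) = X - l • b := by
        have h := adjM_add hF (X - l • b) (l • b)
        rw [sub_add_cancel, adjM_smul, hb] at h
        rw [eq_sub_of_add_eq h.symm]
        have : (l - qConj hF l) • b = X - adjM hF X := by
          simp only [b, smul_smul, mul_inv_cancel₀ hd, one_smul]
        linear_combination (norm := module) this
      refine ⟨(⟨⟨X - l • b, K.sub_mem x.2 (K.smul_mem hbK l)⟩, ha⟩, ⟨⟨b, hbK⟩, hb⟩), Subtype.ext ?_⟩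
      simp [Φ, Algebra.algebraMap_eq_smul_one, hX]
  have hcK : Nat.card K = (q ^ 2) ^ 2 := by
    have := Module.natCard_eq_pow_finrank (K := F) (V := K)
    rwa [hK.finrank_eq, Nat.card_eq_fintype_card (α := F), hF] at this
  have hcfix : Nat.card fix = q ^ 2 := by
    have h := Nat.card_congr (Equiv.ofBijective Φ hΦ)
    rw [Nat.card_prod, hcK, ← sq] at h
    exact Nat.pow_left_injective two_ne_zero h
  -- so it consists of the roots of `X ^ q² - X`
  have hq : 1 < q ^ 2 := hF ▸ Fintype.one_lt_card
  let poly : Polynomial K := Polynomial.X ^ (q ^ 2) - Polynomial.X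
  have hp0 : poly ≠ 0 := FiniteField.X_pow_card_sub_X_ne_zero K hq
  have hroot : ∀ x : K, x ^ (q ^ 2) = x → x ∈ poly.roots.toFinset := fun x hx => by
    rw [Multiset.mem_toFinset, Polynomial.mem_roots hp0]
    simp [poly, hx]
  let scal : Finset K := Finset.univ.image (algebraMap F K)
  have hscal : scal = poly.roots.toFinset := by
    refine Finset.eq_of_subset_of_card_le (fun x hx => ?_) ?_
    · obtain ⟨c, -, rfl⟩ := Finset.mem_image.1 hx
      exact hroot _ (by rw [← map_pow, ← hF, FiniteField.pow_card])
    · rw [Finset.card_image_of_injective _ (algebraMap F K).injective, Finset.card_univ, hF]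
      refine (Multiset.toFinset_card_le _).trans ((Polynomial.card_roots' _).trans (le_of_eq ?_))
      exact FiniteField.X_pow_card_sub_X_natDegree_eq K hq
  have hfixscal : ∀ x : fix, ∃ c, algebraMap F K c = (x : K) := by
    intro x
    have := Fintype.ofFinite fix
    have hx : (x : K) ∈ poly.roots.toFinset := hroot _ (by
      rw [← hcfix, Nat.card_eq_fintype_card, ← SubmonoidClass.coe_pow, FiniteField.pow_card])
    rw [← hscal] at hx
    obtain ⟨c, -, hc⟩ := Finset.mem_image.1 hx
    exact ⟨c, hc⟩
  choose φ hφ using hfixscal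
  have hφi : Function.Injective φ := fun x y h => Subtype.ext (by rw [← hφ x, h, hφ y])
  have hφs : Function.Surjective φ :=
    ((Nat.bijective_iff_injective_and_card φ).2
      ⟨hφi, by rw [hcfix, Nat.card_eq_fintype_card (α := F), hF]⟩).2
  obtain ⟨x, hx⟩ := hφs l
  have h1 : adjM hF ((x : K) : Matrix (Fin n) (Fin n) F) = (x : K) := x.2
  rw [← hφ x, hx, Subalgebra.coe_algebraMap, Algebra.algebraMap_eq_smul_one, adjM_smul,
    adjM_one] at h1
  have := congrFun (congrFun h1 ⟨0, hn⟩) ⟨0, hn⟩
  exact hl (by simpa using this)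

/-- The field case of the core theorem. -/
theorem member_of_field (hF : Fintype.card F = q ^ 2) (hn : 0 < n) {G L : Subgroup (GL (Fin n) F)}
    (hG : G ≤ similarityGroup (hermForm n F q)) (hLG : L ≤ G) (hL : Normalized G L)
    (hinv : ∀ x ∈ centreOf (alg L), x ≠ 0 → ∃ y ∈ centreOf (alg L), x * y = 1)
    (hdim : 1 < Module.finrank F (centreOf (alg L)))
    {H : Subgroup (GL (Fin n) F)} (hHG : H ≤ G) (hH : H ≤ GU n F q) :
    ∃ M : Subgroup (GL (Fin n) F), UClass n q M ∧ H ≤ M := by
  have hcomm : ∀ x ∈ centreOf (alg L), ∀ y ∈ centreOf (alg L), x * y = y * x :=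
    fun x hx y hy => commute_centreOf hx hy.1
  have hr : (Module.finrank F (centreOf (alg L))).minFac.Prime := Nat.minFac_prime (by omega)
  obtain ⟨K, hKs, hK, hGK⟩ := exists_prime_subfield hcomm hinv (inv_centreOf (inv_alg hL)) hdim hr
    (Nat.minFac_dvd _)
  have hadj : ∀ x ∈ K, adjM hF x ∈ K := by
    intro x hx
    rw [← SetLike.mem_coe, hKs] at hx ⊢
    exact ⟨adjM_mem_centre hF (hLG.trans hG) hx.1, by rw [← adjM_pow, hx.2]⟩
  have hodd : Odd (Module.finrank F (centreOf (alg L))).minFac :=
    hr.odd_of_ne_two fun h => degree_ne_two hF hn (h ▸ hK) hadj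
  exact ⟨_, Or.inr (Or.inl ⟨_, K, hr, hodd, hK,
    fun k hk => ⟨adjM hF k, hadj k hk, hermForm_mulVec_left hF k⟩, rfl⟩),
    le_inf (hHG.trans hGK) hH⟩

end CfsgLib.AschU
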