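import Cfsg.Agent.Lib.AschU.LineStab

/-!
Codes for the field with `p²` elements: a code `a` stands for `a % p + (a / p) ε` with
`ε ² = u + v ε`. All arithmetic on codes is natural-number arithmetic, suitable for `decide`.
-/

set_option autoImplicit false
set_option linter.unusedSectionVars false

namespace CfsgLib.AschU.Code

open Cfsg Cfsg.Geo CfsgLib.MaxSub Matrix
open scoped MatrixGroups

/-- The parameters of a code. -/
structure Par where
  p : ℕ
  u : ℕ
  v : ℕ

variable (P : Par)

/-- sum of codes -/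
def addC (a b : ℕ) : ℕ := (a + b) % P.p + P.p * ((a / P.p + b / P.p) % P.p)

/-- product of codes -/
def mulC (a b : ℕ) : ℕ :=
  (a * b + a / P.p * (b / P.p) * P.u) % P.p +
    P.p * ((a * (b / P.p) + a / P.p * b + a / P.p * (b / P.p) * P.v) % P.p)

/-- conjugate of a code -/
def cjC (a : ℕ) : ℕ := (a + a / P.p * P.v) % P.p + P.p * ((a / P.p * (P.p - 1)) % P.p)

/-- a matrix code: the list of rows -/
abbrev CMat := List (List ℕ)

/-- entry of a vector code -/
def ent (x : List ℕ) (i : ℕ) : ℕ := x.getD i 0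

/-- entry of a matrix code -/
def mEnt (A : CMat) (i j : ℕ) : ℕ := ent (A.getD i []) j

/-- sum over `range n` of codes -/
def sumC (n : ℕ) (f : Fin n → ℕ) : ℕ := (List.finRange n).foldr (fun i r => addC P (f i) r) 0

/-- matrix times vector -/
def apC (n : ℕ) (A : CMat) (x : List ℕ) : List ℕ :=
  List.ofFn fun i : Fin n => sumC P n fun j => mulC P (mEnt A i j) (ent x j)

/-- the standard basis vector -/
def unitC (n i : ℕ) : List ℕ := List.ofFn fun j : Fin n => if (j : ℕ) = i then 1 else 0

/-- scalar multiple -/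
def smulC (n a : ℕ) (x : List ℕ) : List ℕ := List.ofFn fun i : Fin n => mulC P a (ent x i)

/-- sum of vectors -/
def vaddC (n : ℕ) (x y : List ℕ) : List ℕ := List.ofFn fun i : Fin n => addC P (ent x i) (ent y i)

/-- the entries of a vector code, cut to length `n` -/
def normV (n : ℕ) (x : List ℕ) : List ℕ := List.ofFn fun i : Fin n => ent x i

/-- iterated application -/
def iterC (n : ℕ) (A : CMat) : ℕ → List ℕ → List ℕ
  | 0, x => normV n x
  | m + 1, x => apC P n A (iterC n A m x)

/-- the columns are orthonormal -/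
def isUnitaryC (n : ℕ) (A : CMat) : Bool :=
  (List.finRange n).all fun i => (List.finRange n).all fun j =>
    (sumC P n fun k => mulC P (cjC P (mEnt A k i)) (mEnt A k j)) == if i = j then 1 else 0

/-- the `m`-th power is the identity -/
def isPowOneC (n : ℕ) (A : CMat) (m : ℕ) : Bool :=
  (List.finRange n).all fun i => iterC P n A m (unitC n i) == unitC n i

variable {F : Type*} [Field F] [Fintype F] {q n : ℕ}

/-- The standing assumptions on a coded field. -/
structure Valid (P : Par) (hF : Fintype.card F = q ^ 2) (ε : F) : Prop where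
  prime : P.p.Prime
  char0 : (P.p : F) = 0
  sq : ε * ε = P.u + P.v * ε
  conj : qConj hF ε = P.v - ε
  moved : qConj hF ε ≠ ε

variable {P}

/-- decoding -/
def dec (P : Par) (ε : F) (a : ℕ) : F := (a : F) + ((a / P.p : ℕ) : F) * ε

/-- decoding a vector -/
def decV (P : Par) (ε : F) (n : ℕ) (x : List ℕ) : Fin n → F := fun i => dec P ε (ent x i)

/-- decoding a matrix -/
def decM (P : Par) (ε : F) (n : ℕ) (A : CMat) : Matrix (Fin n) (Fin n) F :=
  fun i j => dec P ε (mEnt A i j)

variable {hF : Fintype.card F = q ^ 2} {ε : F} (hV : Valid P hF ε)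
include hV

theorem cast_mod (a : ℕ) : ((a % P.p : ℕ) : F) = (a : F) := by
  conv_rhs => rw [← Nat.mod_add_div a P.p, Nat.cast_add, Nat.cast_mul, hV.char0, zero_mul, add_zero]

theorem div_pair {x y : ℕ} (hx : x < P.p) : (x + P.p * y) / P.p = y := by
  rw [Nat.add_mul_div_left _ _ hV.prime.pos, Nat.div_eq_of_lt hx, zero_add]

theorem dec_pair (A B : ℕ) :
    dec P ε (A % P.p + P.p * (B % P.p)) = (A : F) + (B : F) * ε := by
  rw [dec, div_pair hV (Nat.mod_lt _ hV.prime.pos), Nat.cast_add, Nat.cast_mul, hV.char0, zero_mul,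
    add_zero, cast_mod hV, cast_mod hV]

theorem dec_zero : dec P ε 0 = 0 := by simp [dec]

theorem dec_one : dec P ε 1 = 1 := by
  simp [dec, Nat.div_eq_of_lt hV.prime.one_lt]

theorem dec_addC (a b : ℕ) : dec P ε (addC P a b) = dec P ε a + dec P ε b := by
  rw [addC, dec_pair hV, dec, dec]
  push_cast
  ring

theorem dec_mulC (a b : ℕ) : dec P ε (mulC P a b) = dec P ε a * dec P ε b := by
  rw [mulC, dec_pair hV, dec, dec]
  push_cast
  linear_combination -((a / P.p : ℕ) : F) * ((b / P.p : ℕ) : F) * hV.sq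

theorem dec_cjC (a : ℕ) : dec P ε (cjC P a) = qConj hF (dec P ε a) := by
  rw [cjC, dec_pair hV, dec, map_add, map_mul, map_natCast, map_natCast, hV.conj]
  push_cast [Nat.cast_sub hV.prime.one_le]
  rw [hV.char0]
  ring

theorem dec_inj {a b : ℕ} (ha : a < P.p * P.p) (hb : b < P.p * P.p)
    (h : dec P ε a = dec P ε b) : a = b := by
  have hchar : ∀ {x y : ℕ}, x < P.p → y < P.p → (x : F) = y → x = y := by
    intro x y hx hy hxy
    haveI : Fact P.p.Prime := ⟨hV.prime⟩
    haveI : CharP F P.p := CharP.charP_iff_prime_eq_zero hV.prime |>.2 hV.char0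
    have := (CharP.natCast_eq_natCast F P.p).1 hxy
    rwa [Nat.ModEq, Nat.mod_eq_of_lt hx, Nat.mod_eq_of_lt hy] at this
  have ha2 : a / P.p < P.p := Nat.div_lt_of_lt_mul ha
  have hb2 : b / P.p < P.p := Nat.div_lt_of_lt_mul hb
  have hdiv : a / P.p = b / P.p := by
    refine hchar ha2 hb2 ?_
    by_contra hne
    have hd : ((a / P.p : ℕ) : F) - (b / P.p : ℕ) ≠ 0 := sub_ne_zero.2 hne
    apply hV.moved
    have hε : ε = ((b : F) - a) / (((a / P.p : ℕ) : F) - (b / P.p : ℕ)) := by
      rw [eq_div_iff hd]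
      simp only [dec] at h
      linear_combination h
    rw [hε]
    simp [map_div₀]
  simp only [dec, hdiv, add_left_inj] at h
  rw [← cast_mod hV a, ← cast_mod hV b] at h
  have := hchar (Nat.mod_lt _ hV.prime.pos) (Nat.mod_lt _ hV.prime.pos) h
  rw [← Nat.mod_add_div a P.p, ← Nat.mod_add_div b P.p, hdiv, this]

theorem dec_sumC (f : Fin n → ℕ) : dec P ε (sumC P n f) = ∑ i, dec P ε (f i) := by
  rw [Fin.sum_univ_def, sumC]
  induction List.finRange n with
  | nil => simpa using dec_zero hV
  | cons a l ih => simp [dec_addC hV, ih]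

omit hV in
theorem ent_ofFn (f : Fin n → ℕ) (i : Fin n) : ent (List.ofFn f) i = f i := by
  simp [ent]

theorem decV_apC (A : CMat) (x : List ℕ) :
    decV P ε n (apC P n A x) = decM P ε n A *ᵥ decV P ε n x := by
  funext i
  simp only [decV, apC, ent_ofFn, dec_sumC hV, dec_mulC hV]
  rfl

theorem decV_smulC (a : ℕ) (x : List ℕ) :
    decV P ε n (smulC P n a x) = dec P ε a • decV P ε n x := by
  funext i
  simp [decV, smulC, ent_ofFn, dec_mulC hV]

theorem decV_vaddC (x y : List ℕ) :
    decV P ε n (vaddC P n x y) = decV P ε n x + decV P ε n y := by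
  funext i
  simp [decV, vaddC, ent_ofFn, dec_addC hV]

theorem decV_unitC (i : Fin n) : decV P ε n (unitC n i) = Pi.single i 1 := by
  funext j
  rcases eq_or_ne j i with rfl | h
  · simp [decV, unitC, ent_ofFn, dec_one hV]
  · simp [decV, unitC, ent_ofFn, dec_zero hV, h, Fin.val_ne_of_ne h]

omit hV in
theorem decV_normV (x : List ℕ) : decV P ε n (normV n x) = decV P ε n x := by
  funext i
  simp [decV, normV, ent_ofFn]

theorem decV_iterC (A : CMat) (m : ℕ) (x : List ℕ) :
    decV P ε n (iterC P n A m x) = (decM P ε n A) ^ m *ᵥ decV P ε n x := by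
  induction m with
  | zero => simp [iterC, decV_normV]
  | succ m ih => rw [iterC, decV_apC hV, ih, Matrix.mulVec_mulVec, pow_succ']

/-- A coded element of `SU`. -/
theorem exists_su {A : CMat} {m : ℕ} (h1 : isUnitaryC P n A = true)
    (h2 : isPowOneC P n A m = true) (hm : m.Coprime (Fintype.card F - 1)) :
    ∃ g ∈ suGL n q F, (g : Matrix (Fin n) (Fin n) F) = decM P ε n A ∧ g ^ m = 1 := by
  classical
  have hU : adjM hF (decM P ε n A) * decM P ε n A = 1 := by
    ext i j
    simp only [isUnitaryC, List.all_eq_true, List.mem_finRange, forall_const, beq_iff_eq] at h1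
    have h := congrArg (dec P ε) (h1 i j)
    simp only [dec_sumC hV, dec_mulC hV, dec_cjC hV, apply_ite (dec P ε), dec_one hV, dec_zero hV]
      at h
    rw [Matrix.mul_apply, Matrix.one_apply, ← h]
    rfl
  set g : GL (Fin n) F := ⟨decM P ε n A, adjM hF (decM P ε n A), mul_eq_one_comm.1 hU, hU⟩
  have hgm : g ^ m = 1 := by
    refine Units.ext ?_
    rw [Units.val_pow_eq_pow_val, Units.val_one]
    refine Matrix.ext_of_mulVec_single fun i => ?_
    simp only [isPowOneC, List.all_eq_true, List.mem_finRange, forall_const, beq_iff_eq] at h2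
    have h := congrArg (decV P ε n) (h2 i)
    rw [decV_iterC hV, decV_unitC hV] at h
    rw [Matrix.one_mulVec]
    exact h
  refine ⟨g, ⟨mem_GU_of_adjM hF hU, ?_⟩, rfl, hgm⟩
  exact det_eq_one_of_pow hgm hm

end CfsgLib.AschU.Code
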