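import Cfsg.Agent.Lib.AschU.Proper
import Cfsg.Agent.Lib.MaxSub.TensorFrame

/-!
Over the field with four elements a non-degenerate plane determines an orthogonal frame.
-/

set_option autoImplicit false
set_option linter.unusedSectionVars false

namespace CfsgLib.AschU

open Cfsg Cfsg.Geo CfsgLib.MaxSub Matrix
open scoped MatrixGroups

variable {F : Type*} [Field F] [Fintype F] {n q : ℕ}

theorem unitary_of_pow (hF : Fintype.card F = q ^ 2) {k : ℕ} {f : (Fin k → F) → (Fin k → F) → F}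
    (h : IsUnitaryFormPow q f) : IsUnitaryForm (qConj hF) f where
  ne_refl := (isUnitaryForm_hermForm hF k).ne_refl
  involutive := (isUnitaryForm_hermForm hF k).involutive
  add_left := h.add_left
  smul_left := h.smul_left
  herm v w := by rw [qConj_apply]; exact h.herm v w
  nondegenerate := h.nondegenerate

/-- In a non-degenerate plane over `GF(4)` the anisotropic vectors lie on two orthogonal lines. -/
theorem plane_lines (hF : Fintype.card F = q ^ 2) (hq : q = 2) {k : ℕ}
    {f : (Fin k → F) → (Fin k → F) → F} (hf : IsUnitaryForm (qConj hF) f)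
    {U : Submodule F (Fin k → F)} (hU : IsNondegenerateOn f U) (h2 : Module.finrank F U = 2) :
    ∃ e : Fin 2 → Fin k → F, (∀ s, e s ∈ U) ∧ (∀ s, f (e s) (e s) ≠ 0) ∧
      (∀ s s', s ≠ s' → f (e s) (e s') = 0) ∧
      ∀ x ∈ U, f x x ≠ 0 → ∃ (s : Fin 2) (a : F), x = a • e s := by
  classical
  obtain ⟨x₀, hx₀, hx₀0⟩ := U.exists_mem_ne_zero_of_ne_bot (fun h => by
    rw [h, finrank_bot] at h2; exact absurd h2 (by norm_num))
  -- an anisotropic vector
  obtain ⟨e₀, he₀, he₀a⟩ : ∃ x ∈ U, f x x ≠ 0 := by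
    by_contra hall
    push Not at hall
    obtain ⟨y, hy, hyx⟩ := (hU x₀ hx₀ hx₀0).1
    obtain ⟨s, hs⟩ := exists_trace_ne hf
    have h := hall ((s / f y x₀) • y + x₀) (add_mem (U.smul_mem _ hy) hx₀)
    simp only [hf.add_left, hf.smul_left, herm_add_right hf, herm_smul_right hf,
      hall y hy, hall x₀ hx₀, mul_zero, zero_add, add_zero] at h
    rw [div_mul_cancel₀ _ hyx, hf.herm x₀ y, ← map_mul, div_mul_cancel₀ _ hyx] at h
    exact hs h
  obtain ⟨e₁, he₁, he₁0⟩ := (U ⊓ LinearMap.ker (hLin hf e₀)).exists_mem_ne_zero_of_ne_bot fun h => by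
    have h1 := CfsgLib.MaxSub.finrank_le_inf_ker U (hLin hf e₀)
    rw [h, finrank_bot, h2] at h1
    omega
  have h10 : f e₁ e₀ = 0 := (mem_ker_hLin hf).1 he₁.2
  have h01 : f e₀ e₁ = 0 := herm_eq_zero_comm hf h10
  have hind : LinearIndependent F ![(⟨e₀, he₀⟩ : U), ⟨e₁, he₁.1⟩] := by
    rw [LinearIndependent.pair_iff]
    intro a b hab
    have hab' : a • e₀ + b • e₁ = 0 := congrArg Subtype.val hab
    have h := congrArg (fun x => f x e₀) hab'
    simp only [hf.add_left, hf.smul_left, h10, mul_zero, add_zero, herm_zero_left hf] at h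
    have ha : a = 0 := (mul_eq_zero.1 h).resolve_right he₀a
    rw [ha, zero_smul, zero_add] at hab'
    exact ⟨ha, (smul_eq_zero.1 hab').resolve_right he₁0⟩
  have hspan : ∀ x ∈ U, ∃ a b : F, x = a • e₀ + b • e₁ := by
    intro x hx
    have htop := hind.span_eq_top_of_card_eq_finrank (by rw [h2, Fintype.card_fin])
    rw [Matrix.range_cons, Matrix.range_cons, Matrix.range_empty, Set.union_empty,
      Set.singleton_union] at htop
    obtain ⟨a, b, hab⟩ := Submodule.mem_span_pair.1 (htop ▸ Submodule.mem_top : (⟨x, hx⟩ : U) ∈ _)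
    exact ⟨a, b, (congrArg Subtype.val hab).symm⟩
  have he₁a : f e₁ e₁ ≠ 0 := fun h => by
    obtain ⟨x, hx, hxe⟩ := (hU e₁ he₁.1 he₁0).1
    obtain ⟨a, b, rfl⟩ := hspan x hx
    exact hxe (by rw [hf.add_left, hf.smul_left, hf.smul_left, h01, h, mul_zero, mul_zero, add_zero])
  refine ⟨![e₀, e₁], fun s => ?_, fun s => ?_, fun s s' hss => ?_, fun x hx hxa => ?_⟩
  · fin_cases s <;> first | exact he₀ | exact he₁.1
  · fin_cases s <;> simp [he₀a, he₁a]
  · fin_cases s <;> fin_cases s' <;> first | exact absurd rfl hss | simp [h01, h10]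
  obtain ⟨a, b, rfl⟩ := hspan x hx
  by_cases ha : a = 0
  · exact ⟨1, b, by simp [ha]⟩
  by_cases hb : b = 0
  · exact ⟨0, a, by simp [hb]⟩
  exfalso
  have one : ∀ c : F, c ≠ 0 → c * qConj hF c = 1 := fun c hc =>
    UFrame.two_fixed hF hq (by rw [map_mul, qConj_qConj, mul_comm])
      (mul_ne_zero hc ((map_ne_zero _).2 hc))
  have v0 : f e₀ e₀ = 1 := UFrame.two_fixed hF hq (hf.herm e₀ e₀).symm he₀a
  have v1 : f e₁ e₁ = 1 := UFrame.two_fixed hF hq (hf.herm e₁ e₁).symm he₁a
  have hval : f (a • e₀ + b • e₁) (a • e₀ + b • e₁) = 1 + 1 := by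
    simp only [hf.add_left, hf.smul_left, herm_add_right hf, herm_smul_right hf, h01, h10, v0, v1]
    linear_combination one a ha + one b hb
  rw [hval] at hxa
  have := UFrame.two_fixed hF hq (a := (1 + 1 : F)) (by rw [map_add, map_one]) hxa
  exact one_ne_zero (add_eq_left.1 this)

/-- Orthogonal anisotropic vectors give a frame. -/
theorem frame_of_orth (hF : Fintype.card F = q ^ 2) (hn : 2 ≤ n) {d : Fin n → Fin n → F}
    (hdd : ∀ i, hermForm n F q (d i) (d i) ≠ 0)
    (hdo : ∀ i j, i ≠ j → hermForm n F q (d i) (d j) = 0) :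
    LinearIndependent F d ∧
      IsNondegenerateMDecomposition (hermForm n F q) 1 fun i => Submodule.span F {d i} := by
  classical
  have hf := isUnitaryForm_hermForm hF n
  have hd0 : ∀ i, d i ≠ 0 := fun i h => hdd i (by rw [h, herm_zero_left hf])
  have hind : LinearIndependent F d := by
    rw [Fintype.linearIndependent_iff]
    intro g hg i
    have h := congrArg (hLin hf (d i)) hg
    rw [map_sum, map_zero, Finset.sum_eq_single i (fun j _ hj => by
      rw [map_smul]; show g j * hermForm n F q (d j) (d i) = 0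
      rw [hdo j i hj, mul_zero]) (fun h => absurd (Finset.mem_univ i) h), map_smul] at h
    exact (mul_eq_zero.1 h).resolve_right (hdd i)
  refine ⟨hind, ⟨hn, one_pos, fun i => finrank_span_singleton (hd0 i), hind.iSupIndep_span_singleton,
    ?_⟩, fun i => ?_, fun i j hij => ?_⟩
  · have h := hind.span_eq_top_of_card_eq_finrank' (by rw [Module.finrank_fin_fun, Fintype.card_fin])
    rw [Submodule.span_range_eq_iSup] at h
    exact h
  · intro w hw hw0
    obtain ⟨a, rfl⟩ := Submodule.mem_span_singleton.1 hw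
    have ha : a ≠ 0 := fun h => hw0 (by rw [h, zero_smul])
    constructor <;> refine ⟨d i, Submodule.mem_span_singleton_self _, ?_⟩
    · rw [herm_smul_right hf]; exact mul_ne_zero ((map_ne_zero _).2 ha) (hdd i)
    · rw [hf.smul_left]; exact mul_ne_zero ha (hdd i)
  · intro u hu v hv
    obtain ⟨a, rfl⟩ := Submodule.mem_span_singleton.1 hu
    obtain ⟨b, rfl⟩ := Submodule.mem_span_singleton.1 hv
    rw [hf.smul_left, herm_smul_right hf, hdo i j hij, mul_zero, mul_zero]

theorem stab_of_permutes_lines {d : Fin n → Fin n → F} (hind : LinearIndependent F d)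
    {g : GL (Fin n) F}
    (h : ∀ i, ∃ (j : Fin n) (a : F), (g : Matrix (Fin n) (Fin n) F) *ᵥ d i = a • d j) :
    g ∈ decompositionStabilizer fun i => Submodule.span F {d i} := by
  classical
  choose φ a ha using h
  have hd0 : ∀ i, d i ≠ 0 := hind.ne_zero
  have ginj : ∀ x, (g : Matrix (Fin n) (Fin n) F) *ᵥ x = 0 → x = 0 := fun x hx => by
    have := congrArg (((g⁻¹ : GL (Fin n) F) : Matrix (Fin n) (Fin n) F) *ᵥ ·) hx
    simpa [inv_mulVec_mulVec, Matrix.mulVec_zero] using this
  have ha0 : ∀ i, a i ≠ 0 := fun i h0 => hd0 i (ginj _ (by rw [ha, h0, zero_smul]))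
  have hinj : Function.Injective φ := by
    intro i i' he
    by_contra hne
    have h0 : a i' • d i + (-a i) • d i' = 0 := ginj _ (by
      rw [Matrix.mulVec_add, Matrix.mulVec_smul, Matrix.mulVec_smul, ha, ha, he, smul_smul,
        smul_smul, ← add_smul]
      rw [show a i' * a i + -a i * a i' = 0 by ring, zero_smul])
    have hp : LinearIndependent F ![d i, d i'] := by
      convert hind.comp ![i, i'] (by
        intro x y; fin_cases x <;> fin_cases y <;> simp [hne, Ne.symm hne]) using 1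
      funext x
      fin_cases x <;> rfl
    exact ha0 i' (LinearIndependent.pair_iff.1 hp _ _ h0).1
  refine ⟨Equiv.ofBijective φ (Finite.injective_iff_bijective.1 hinj), fun i => ?_⟩
  rw [Submodule.map_span, Set.image_singleton, Matrix.toLin'_apply, ha,
    Submodule.span_singleton_smul_eq (isUnit_iff_ne_zero.2 (ha0 i))]
  rfl

/-- A decomposition into planes over `GF(4)` refines to a frame. -/
theorem planes_refine (hF : Fintype.card F = q ^ 2) (hq : q = 2) {t : ℕ}
    {D : Fin t → Submodule F (Fin n → F)}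
    (hD : IsNondegenerateMDecomposition (hermForm n F q) 2 D) :
    ∃ D' : Fin n → Submodule F (Fin n → F),
      IsNondegenerateMDecomposition (hermForm n F q) 1 D' ∧
      decompositionStabilizer D ⊓ GU n F q ≤ decompositionStabilizer D' := by
  classical
  have hf := isUnitaryForm_hermForm hF n
  choose e he hea heo hline using fun i =>
    plane_lines hF hq hf (hD.nondegenerate i) (hD.decomp.finrank_eq i)
  have htn := decomp_card hD.decomp
  let ε : Fin n ≃ Fin t × Fin 2 := (finCongr htn.symm).trans finProdFinEquiv.symm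
  let d : Fin n → Fin n → F := fun m => e (ε m).1 (ε m).2
  obtain ⟨hind, hframe⟩ := frame_of_orth hF (n := n) (by have := hD.decomp.two_le; omega) (d := d)
    (fun m => hea _ _) fun m m' hmm => by
      by_cases h1 : (ε m).1 = (ε m').1
      · show hermForm n F q (e (ε m).1 (ε m).2) (e (ε m').1 (ε m').2) = 0
        rw [← h1]
        exact heo _ _ _ fun h2 => hmm (ε.injective (Prod.ext h1 h2))
      · exact hD.orthogonal _ _ h1 _ (he _ _) _ (he _ _)
  refine ⟨_, hframe, fun g hg => stab_of_permutes_lines hind fun m => ?_⟩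
  obtain ⟨⟨π, hπ⟩, hgU⟩ := hg
  have hmem : (g : Matrix (Fin n) (Fin n) F) *ᵥ d m ∈ D (π (ε m).1) := by
    rw [← hπ]; exact ⟨d m, he _ _, Matrix.toLin'_apply _ _⟩
  obtain ⟨s, a, hsa⟩ := hline _ _ hmem (by
    have hiso : ∀ u v : Fin n → F, hermForm n F q ((g : Matrix (Fin n) (Fin n) F) *ᵥ u)
        ((g : Matrix (Fin n) (Fin n) F) *ᵥ v) = hermForm n F q u v := hgU
    rw [hiso]; exact hea _ _)
  exact ⟨ε.symm (π (ε m).1, s), a, by simpa [d] using hsa⟩

/-- A tensor decomposition with a plane over `GF(4)` refines to a decomposition. -/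
theorem tensor_refine (hF : Fintype.card F = q ^ 2) (hq : q = 2) {m : ℕ} (hm : 1 ≤ m)
    {e : Fin n ≃ Fin 2 × Fin m} {P : GL (Fin n) F} {f₁ : (Fin 2 → F) → (Fin 2 → F) → F}
    {f₂ : (Fin m → F) → (Fin m → F) → F} (h₁ : IsUnitaryFormPow q f₁) (h₂ : IsUnitaryFormPow q f₂)
    (hT : IsTensorFormStructure (fun x : F => x ^ q) (hermForm n F q) f₁ f₂ e P) :
    ∃ D : Fin 2 → Submodule F (Fin n → F),
      IsNondegenerateMDecomposition (hermForm n F q) m D ∧
      tensorProductSubgroup 2 m e P ⊓ GU n F q ≤ decompositionStabilizer D := by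
  classical
  have hf := isUnitaryForm_hermForm hF n
  have hf₁ := unitary_of_pow hF h₁
  have hf₂ := unitary_of_pow hF h₂
  obtain ⟨c, hc0, hpure⟩ := TensorFrame.form_pure (fun u v => mul_pow u v q) hT
    (fun x y => TensorFrame.formOfGram_gram _ _ h₁.add_left h₁.smul_left
      (fun v a b => herm_add_right hf₁ v a b)
      (fun c v a => by rw [herm_smul_right hf₁, qConj_apply]) x y)
    (fun x y => TensorFrame.formOfGram_gram _ _ h₂.add_left h₂.smul_left
      (fun v a b => herm_add_right hf₂ v a b)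
      (fun c v a => by rw [herm_smul_right hf₂, qConj_apply]) x y)
  obtain ⟨u, -, hua, huo, hline⟩ := plane_lines hF hq hf₁ (U := ⊤)
    (fun w _ hw => ⟨(hf₁.nondegenerate w hw).1.imp fun x hx => ⟨Submodule.mem_top, hx⟩,
      (hf₁.nondegenerate w hw).2.imp fun x hx => ⟨Submodule.mem_top, hx⟩⟩)
    (by rw [finrank_top, Module.finrank_fin_fun])
  obtain ⟨y₀, -, hy₀⟩ : ∃ y ∈ (⊤ : Submodule F (Fin m → F)), f₂ y y ≠ 0 :=
    exists_anisotropic hf₂ (by rw [finrank_top, Module.finrank_fin_fun]; omega)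
  set T := TensorFrame.pure e P
  have hinj : ∀ s, Function.Injective (T (u s)) := by
    intro s y y' hy
    obtain ⟨φ, hφ⟩ : ∃ φ : Module.Dual F (Fin 2 → F), φ (u s) = 1 := by
      refine ⟨(f₁ (u s) (u s))⁻¹ • hLin hf₁ (u s), ?_⟩
      show (f₁ (u s) (u s))⁻¹ * f₁ (u s) (u s) = 1
      exact inv_mul_cancel₀ (hua s)
    obtain ⟨C, hC⟩ := TensorFrame.pure_contract' e P φ
    have h := congrArg C (show T.flip y (u s) = T.flip y' (u s) from hy)
    rwa [hC, hC, hφ, one_smul, one_smul] at h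
  let D : Fin 2 → Submodule F (Fin n → F) := fun s => LinearMap.range (T (u s))
  have horth : ∀ i j, i ≠ j → AreOrthogonalFor (hermForm n F q) (D i) (D j) := by
    rintro i j hij _ ⟨y, rfl⟩ _ ⟨y', rfl⟩
    rw [hpure, huo i j hij, zero_mul, mul_zero]
  have hnd : ∀ i, IsNondegenerateOn (hermForm n F q) (D i) := by
    rintro i _ ⟨y, rfl⟩ hy0
    have hy : y ≠ 0 := fun h => hy0 (by rw [h, map_zero])
    obtain ⟨⟨x, hx⟩, ⟨x', hx'⟩⟩ := hf₂.nondegenerate y hy
    exact ⟨⟨_, ⟨x, rfl⟩, by rw [hpure]; exact mul_ne_zero hc0 (mul_ne_zero (hua i) hx)⟩,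
      ⟨_, ⟨x', rfl⟩, by rw [hpure]; exact mul_ne_zero hc0 (mul_ne_zero (hua i) hx')⟩⟩
  have hdim : ∀ i, Module.finrank F (D i) = m := fun i => by
    rw [LinearMap.finrank_range_of_inj (hinj i), Module.finrank_fin_fun]
  have hdisj : Disjoint (D 0) (D 1) := by
    rw [Submodule.disjoint_def]
    intro x hx0 hx1
    by_contra hne
    obtain ⟨z, hz, hzx⟩ := (hnd 0 x hx0 hne).1
    exact hzx (horth 0 1 (by decide) z hz x hx1)
  have htop : D 0 ⊔ D 1 = ⊤ := by
    refine Submodule.eq_top_of_finrank_eq ?_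
    have := Submodule.finrank_sup_add_finrank_inf_eq (D 0) (D 1)
    rw [hdisj.eq_bot, finrank_bot, hdim, hdim] at this
    have hn : n = 2 * m := by simpa using Fintype.card_congr e
    rw [Module.finrank_fin_fun]
    omega
  refine ⟨D, ⟨⟨le_refl 2, hm, hdim, ?_, ?_⟩, hnd, horth⟩, fun g hg => ?_⟩
  · rw [iSupIndep_pair (i := (0 : Fin 2)) (j := 1) (by decide) (fun k => by fin_cases k <;> simp)]
    exact hdisj
  · refine eq_top_iff.2 (htop ▸ sup_le (le_iSup D 0) (le_iSup D 1))
  obtain ⟨hgT, hgU⟩ := hg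
  have hiso : ∀ x y : Fin n → F, hermForm n F q ((g : Matrix (Fin n) (Fin n) F) *ᵥ x)
      ((g : Matrix (Fin n) (Fin n) F) *ᵥ y) = hermForm n F q x y := hgU
  obtain ⟨a, b, hab⟩ := TensorFrame.tensor_mem hgT
  have himg : ∀ s, ∃ (s' : Fin 2) (r : F), r ≠ 0 ∧ (a : Matrix (Fin 2) (Fin 2) F) *ᵥ u s = r • u s' := by
    intro s
    have h := hiso (T (u s) y₀) (T (u s) y₀)
    rw [hab, hpure, hpure] at h
    have hne : f₁ ((a : Matrix (Fin 2) (Fin 2) F) *ᵥ u s) ((a : Matrix (Fin 2) (Fin 2) F) *ᵥ u s) ≠ 0 :=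
      left_ne_zero_of_mul (right_ne_zero_of_mul (h ▸ mul_ne_zero hc0 (mul_ne_zero (hua s) hy₀)))
    obtain ⟨s', r, hr⟩ := hline _ Submodule.mem_top hne
    exact ⟨s', r, fun h0 => hne (by rw [hr, h0, zero_smul, herm_zero_left hf₁]), hr⟩
  choose π r hr0 hπ using himg
  have hmap : ∀ s, (D s).map (Matrix.toLin' (g : Matrix (Fin n) (Fin n) F)) = D (π s) := by
    intro s
    apply le_antisymm
    · rintro _ ⟨_, ⟨y, rfl⟩, rfl⟩
      exact ⟨r s • ((b : Matrix (Fin m) (Fin m) F) *ᵥ y), by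
        rw [Matrix.toLin'_apply, hab, hπ, map_smul, map_smul]; rfl⟩
    · rintro _ ⟨y, rfl⟩
      refine ⟨T (u s) (((b⁻¹ : GL (Fin m) F) : Matrix (Fin m) (Fin m) F) *ᵥ ((r s)⁻¹ • y)), ⟨_, rfl⟩, ?_⟩
      rw [Matrix.toLin'_apply, hab, hπ, mulVec_mulVec_inv, map_smul, map_smul, LinearMap.smul_apply,
        smul_smul, inv_mul_cancel₀ (hr0 s), one_smul]
  refine ⟨Equiv.ofBijective π (Finite.injective_iff_bijective.1 fun s s' h => ?_), hmap⟩
  by_contra hne
  have hinjg : Function.Injective (Matrix.toLin' (g : Matrix (Fin n) (Fin n) F)) := fun x y hxy => by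
    have := congrArg (((g⁻¹ : GL (Fin n) F) : Matrix (Fin n) (Fin n) F) *ᵥ ·) hxy
    simpa [inv_mulVec_mulVec] using this
  have hDD : D s = D s' := Submodule.map_injective_of_injective hinjg (by rw [hmap, hmap, h])
  obtain ⟨x, hx, hx0⟩ := (D s).exists_mem_ne_zero_of_ne_bot (fun h => by
    have := hdim s; rw [h, finrank_bot] at this; omega)
  obtain ⟨z, hz, hzx⟩ := (hnd s x hx hx0).1
  exact hzx (horth s s' hne z hz x (hDD ▸ hx))

end CfsgLib.AschU
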