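import Cfsg.Agent.Lib.Aschbacher.Wreath
import Cfsg.Agent.Lib.AschU.Tensor

/-!
Monomial matrices of the Heisenberg group of exponent three over a field with four elements, and the
elements normalising them.
-/

set_option autoImplicit false

namespace CfsgLib.AschU.Heis3

open Cfsg Cfsg.Geo CfsgLib.MaxSub CfsgLib.Aschbacher Matrix Fin.CommRing
open scoped MatrixGroups

/-- Triples `(c, a, b)`. -/
abbrev V (t : ℕ) : Type := Fin 3 × (Fin t → Fin 3) × (Fin t → Fin 3)

variable {t : ℕ}

/-- The Heisenberg product. -/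
def vmul (u v : V t) : V t := (u.1 + v.1 + ∑ j, u.2.2 j * v.2.1 j, u.2.1 + v.2.1, u.2.2 + v.2.2)

def vone : V t := (0, 0, 0)

def vinv (v : V t) : V t := (-v.1 + ∑ j, v.2.2 j * v.2.1 j, -v.2.1, -v.2.2)

theorem vmul_vinv (v : V t) : vmul v (vinv v) = vone := by
  refine Prod.ext ?_ (Prod.ext ?_ ?_) <;> simp [vmul, vinv, vone]

theorem vinv_vmul (v : V t) : vmul (vinv v) v = vone := by
  refine Prod.ext ?_ (Prod.ext ?_ ?_) <;> simp [vmul, vinv, vone]

theorem fin3_three (x : Fin 3) : x + x + x = 0 := by revert x; decide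

theorem vmul_cube (v : V t) : vmul v (vmul v v) = vone := by
  refine Prod.ext ?_ (Prod.ext ?_ ?_)
  · show v.1 + (v.1 + v.1 + ∑ j, v.2.2 j * v.2.1 j) + ∑ j, v.2.2 j * (v.2.1 + v.2.1) j = 0
    simp only [Pi.add_apply, mul_add, Finset.sum_add_distrib]
    linear_combination fin3_three v.1 + fin3_three (∑ j, v.2.2 j * v.2.1 j)
  · funext j; show v.2.1 j + (v.2.1 j + v.2.1 j) = 0
    rw [← add_assoc, fin3_three]
  · funext j; show v.2.2 j + (v.2.2 j + v.2.2 j) = 0
    rw [← add_assoc, fin3_three]

/-- The automorphism turning one hyperbolic pair by a right angle. -/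
def rot (j : Fin t) (v : V t) : V t :=
  (v.1 - v.2.1 j * v.2.2 j, Function.update v.2.1 j (-v.2.2 j), Function.update v.2.2 j (v.2.1 j))

theorem sum_update_mul (f g : Fin t → Fin 3) (j : Fin t) (x y : Fin 3) :
    ∑ i, Function.update f j x i * Function.update g j y i = (∑ i, f i * g i) - f j * g j + x * y := by
  rw [← Finset.add_sum_erase _ _ (Finset.mem_univ j), ← Finset.add_sum_erase _ _ (Finset.mem_univ j),
    Function.update_self, Function.update_self,
    Finset.sum_congr rfl fun i hi => by
      rw [Function.update_of_ne (Finset.ne_of_mem_erase hi),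
        Function.update_of_ne (Finset.ne_of_mem_erase hi)]]
  ring

theorem rot_vmul (j : Fin t) (u v : V t) : rot j (vmul u v) = vmul (rot j u) (rot j v) := by
  refine Prod.ext ?_ (Prod.ext ?_ ?_)
  · simp only [rot, vmul, sum_update_mul, Pi.add_apply]
    ring
  · funext i
    rcases eq_or_ne i j with rfl | h
    · simp [rot, vmul, neg_add, add_comm]
    · simp [rot, vmul, Function.update_of_ne h]
  · funext i
    rcases eq_or_ne i j with rfl | h
    · simp [rot, vmul]
    · simp [rot, vmul, Function.update_of_ne h]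

theorem rot_injective (j : Fin t) : Function.Injective (rot j : V t → V t) := by
  intro u v h
  have ha : ∀ i, u.2.1 i = v.2.1 i ∧ u.2.2 i = v.2.2 i := by
    intro i
    have h1 := congrArg (fun w : V t => w.2.1 i) h
    have h2 := congrArg (fun w : V t => w.2.2 i) h
    rcases eq_or_ne i j with rfl | hij
    · simp [rot] at h1 h2; exact ⟨h2, h1⟩
    · simp [rot, Function.update_of_ne hij] at h1 h2; exact ⟨h1, h2⟩
  have h0 := congrArg Prod.fst h
  simp only [rot, ha j, sub_left_inj] at h0
  exact Prod.ext h0 (Prod.ext (funext fun i => (ha i).1) (funext fun i => (ha i).2))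

theorem fin3_sq_add (a b : Fin 3) : a * a + b * b = 0 → a = 0 ∧ b = 0 := by revert a b; decide

/-- A triple commuting with all its turns is central. -/
theorem central_of_rot (v : V t) (h : ∀ j, vmul v (rot j v) = vmul (rot j v) v) :
    v.2.1 = 0 ∧ v.2.2 = 0 := by
  suffices ∀ j, v.2.1 j = 0 ∧ v.2.2 j = 0 from ⟨funext fun j => (this j).1, funext fun j => (this j).2⟩
  intro j
  have h1 : (vmul v (rot j v)).1 = (vmul (rot j v) v).1 := by rw [h j]
  simp only [vmul, rot] at h1
  have hL := sum_update_mul v.2.2 v.2.1 j (v.2.2 j) (-v.2.2 j)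
  have hR := sum_update_mul v.2.2 v.2.1 j (v.2.1 j) (v.2.1 j)
  rw [Function.update_eq_self] at hL hR
  rw [hL, hR] at h1
  exact fin3_sq_add _ _ (by linear_combination -h1)

theorem central_of_commute (v : V t) (h : ∀ u, vmul v u = vmul u v) : v.2.1 = 0 ∧ v.2.2 = 0 :=
  central_of_rot v fun j => h _

theorem fin3_affine : ∀ f : Fin 3 → Fin 3, Function.Injective f →
    ∃ c s : Fin 3, s ≠ 0 ∧ ∀ j, f j = c + s * j := by decide

theorem fin3_shift : ∀ k : Fin 3 → Fin 3, ∀ A : Fin 3,
    ∃ α β : Fin 3, ∀ r, k (r + A) - k r = α + β * r := by decide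

theorem fin3_units_sq : ∀ s : Fin 3, s ≠ 0 → s * s = 1 := by decide

variable {F : Type*} [Field F]

/-- A cube root of unity to a power read modulo three. -/
def w (ω : F) (x : Fin 3) : F := ω ^ (x : ℕ)

variable {ω : F}

theorem cube_eq_one (hω : ω ^ 2 + ω + 1 = 0) : ω ^ 3 = 1 := by linear_combination (ω - 1) * hω

theorem w_add (hω : ω ^ 2 + ω + 1 = 0) (x y : Fin 3) : w ω (x + y) = w ω x * w ω y := by
  rw [w, w, w, ← pow_add, Fin.val_add, ← pow_mod_orderOf]
  conv_rhs => rw [← pow_mod_orderOf]
  congr 1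
  exact Nat.mod_mod_of_dvd _ (orderOf_dvd_of_pow_eq_one (cube_eq_one hω))

theorem w_zero : w ω 0 = 1 := pow_zero _

theorem w_ne_zero (hω : ω ^ 2 + ω + 1 = 0) (x : Fin 3) : w ω x ≠ 0 :=
  pow_ne_zero _ fun h => by simp [h] at hω

theorem w_sum (hω : ω ^ 2 + ω + 1 = 0) {ι : Type*} (s : Finset ι) (f : ι → Fin 3) :
    w ω (∑ i ∈ s, f i) = ∏ i ∈ s, w ω (f i) := by
  classical
  induction s using Finset.induction_on with
  | empty => simp [w_zero]
  | insert i s hi ih => rw [Finset.sum_insert hi, Finset.prod_insert hi, w_add hω, ih]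

theorem omega_ne_one (hω : ω ^ 2 + ω + 1 = 0) (h2 : (2 : F) = 0) : ω ≠ 1 := by
  rintro rfl
  exact one_ne_zero (α := F) (by linear_combination hω - h2)

theorem w_injective (hω : ω ^ 2 + ω + 1 = 0) (h2 : (2 : F) = 0) : Function.Injective (w ω) := by
  have h3 : orderOf ω = 3 := orderOf_eq_prime (cube_eq_one hω) (omega_ne_one hω h2)
  intro x y h
  refine Fin.ext ?_
  have := pow_injOn_Iio_orderOf (x := ω) (by rw [h3]; exact x.2) (by rw [h3]; exact y.2) h
  exact this

theorem w_cases (hω : ω ^ 2 + ω + 1 = 0) {x : F} (hx : x ^ 3 = 1) : ∃ k, x = w ω k := by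
  have h : (x - 1) * (x - ω) * (x - ω ^ 2) = 0 := by
    linear_combination hx - (x ^ 2 - ω * x + ω - 1) * hω
  rcases mul_eq_zero.1 h with h | h
  · rcases mul_eq_zero.1 h with h | h
    · exact ⟨0, by rw [w_zero]; exact sub_eq_zero.1 h⟩
    · exact ⟨1, by simpa [w] using sub_eq_zero.1 h⟩
  · exact ⟨2, by simpa [w] using sub_eq_zero.1 h⟩

/-- The monomial matrix of a triple. -/
def mon (ω : F) (v : V t) : Matrix (Fin t → Fin 3) (Fin t → Fin 3) F :=
  Matrix.of fun p q => if p = q + v.2.1 then w ω (v.1 + ∑ j, v.2.2 j * q j) else 0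

theorem mon_mul (hω : ω ^ 2 + ω + 1 = 0) (u v : V t) :
    mon ω u * mon ω v = mon ω (vmul u v) := by
  ext p q
  rw [Matrix.mul_apply, Finset.sum_eq_single (q + v.2.1)]
  · show (if p = q + v.2.1 + u.2.1 then _ else (0 : F)) * (if q + v.2.1 = q + v.2.1 then _ else (0 : F)) =
      if p = q + (u.2.1 + v.2.1) then
        w ω (u.1 + v.1 + ∑ j, u.2.2 j * v.2.1 j + ∑ j, (u.2.2 + v.2.2) j * q j) else 0
    rw [if_pos rfl]
    by_cases hp : p = q + (u.2.1 + v.2.1)
    · rw [if_pos hp, if_pos (by rw [hp]; abel), ← w_add hω]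
      congr 1
      simp only [Pi.add_apply, add_mul, mul_add, Finset.sum_add_distrib]
      ring
    · rw [if_neg hp, if_neg (fun h => hp (by rw [h]; abel)), zero_mul]
  · intro r _ hr
    simp [mon, hr]
  · simp

theorem mon_one : mon ω (vone : V t) = 1 := by
  ext p q
  simp [mon, vone, w_zero, Matrix.one_apply]

theorem mon_injective (hω : ω ^ 2 + ω + 1 = 0) (h2 : (2 : F) = 0) :
    Function.Injective (mon ω : V t → _) := by
  intro u v h
  have e : ∀ q : Fin t → Fin 3, u.2.1 = v.2.1 ∧ u.1 + ∑ j, u.2.2 j * q j = v.1 + ∑ j, v.2.2 j * q j := by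
    intro q
    have h1 := congrFun (congrFun h (q + u.2.1)) q
    simp only [mon, Matrix.of_apply, if_true] at h1
    by_cases ha : q + u.2.1 = q + v.2.1
    · rw [if_pos ha] at h1
      exact ⟨add_left_cancel ha, w_injective hω h2 h1⟩
    · rw [if_neg ha] at h1
      exact absurd h1 (w_ne_zero hω _)
  have hc : u.1 = v.1 := by simpa using (e 0).2
  refine Prod.ext hc (Prod.ext (e 0).1 (funext fun j => ?_))
  simpa [hc, Pi.single_apply] using (e (Pi.single j 1)).2

theorem pureMat_mon (hω : ω ^ 2 + ω + 1 = 0) (x : Fin t → Fin 3) (a b : Fin t → Fin 3) :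
    (Matrix.of fun p q => ∏ j, if p j = q j + a j then w ω (x j + b j * q j) else 0 :
        Matrix (Fin t → Fin 3) (Fin t → Fin 3) F) = mon ω (∑ j, x j, a, b) := by
  ext p q
  simp only [mon, Matrix.of_apply]
  by_cases h : p = q + a
  · rw [if_pos h, ← Finset.sum_add_distrib, w_sum hω]
    exact Finset.prod_congr rfl fun j _ => if_pos (congrFun h j)
  · rw [if_neg h]
    obtain ⟨j, hj⟩ := Function.ne_iff.1 h
    exact Finset.prod_eq_zero (Finset.mem_univ j) (if_neg hj)

/-- The one-slot monomial matrix. -/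
def mon1 (ω : F) (c a b : Fin 3) : Matrix (Fin 3) (Fin 3) F :=
  Matrix.of fun p q => if p = q + a then w ω (c + b * q) else 0

/-- The elements carrying every one-slot monomial to a one-slot monomial. -/
def Moves (ω : F) (u : Matrix (Fin 3) (Fin 3) F) : Prop :=
  ∀ c a b, ∃ c' a' b', u * mon1 ω c a b = mon1 ω c' a' b' * u

theorem Moves.mul {u v : Matrix (Fin 3) (Fin 3) F} (hu : Moves ω u) (hv : Moves ω v) :
    Moves ω (u * v) := by
  intro c a b
  obtain ⟨c₁, a₁, b₁, h₁⟩ := hv c a b
  obtain ⟨c₂, a₂, b₂, h₂⟩ := hu c₁ a₁ b₁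
  exact ⟨c₂, a₂, b₂, by rw [mul_assoc, h₁, ← mul_assoc, h₂, mul_assoc]⟩

/-- Monomial matrices with an affine permutation move monomials to monomials. -/
theorem moves_monomial (hω : ω ^ 2 + ω + 1 = 0) (k : Fin 3 → Fin 3) (c₀ : Fin 3) {s : Fin 3}
    (hs : s ≠ 0) :
    Moves ω (Matrix.of fun p q => if q = c₀ + s * p then w ω (k p) else 0) := by
  intro c a b
  obtain ⟨α, β, hαβ⟩ := fin3_shift k (s * a)
  refine ⟨α + c + b * c₀, s * a, β + b * s, ?_⟩
  ext p q
  rw [Matrix.mul_apply, Matrix.mul_apply, Finset.sum_eq_single (c₀ + s * p),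
    Finset.sum_eq_single (p - s * a)]
  · simp only [mon1, Matrix.of_apply, if_true, sub_add_cancel]
    have hs2 := fin3_units_sq s hs
    by_cases h : c₀ + s * p = q + a
    · have hq : q = c₀ + s * (p - s * a) := by linear_combination a * hs2 - h
      rw [if_pos h, if_pos hq, ← w_add hω, ← w_add hω]
      congr 1
      have hd := hαβ (p - s * a)
      rw [sub_add_cancel] at hd
      linear_combination hd + b * hq
    · rw [if_neg h, mul_zero, if_neg (fun h' => h (by linear_combination a * hs2 - h')), mul_zero]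
  · intro r _ hr
    simp only [mon1, Matrix.of_apply]
    rw [if_neg (fun h => hr (by rw [h]; ring)), zero_mul]
  · simp
  · intro r _ hr
    simp [hr]
  · simp

theorem moves_fourier (hω : ω ^ 2 + ω + 1 = 0) :
    Moves ω (Matrix.of fun p q => w ω (p * q)) := by
  intro c a b
  refine ⟨c - a * b, -b, a, ?_⟩
  ext p q
  rw [Matrix.mul_apply, Matrix.mul_apply, Finset.sum_eq_single (q + a),
    Finset.sum_eq_single (p + b)]
  · simp only [mon1, Matrix.of_apply, if_true, add_neg_cancel_right]
    rw [← w_add hω, ← w_add hω]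
    congr 1
    ring
  · intro r _ hr
    simp only [mon1, Matrix.of_apply]
    rw [if_neg (fun h => hr (by rw [h]; ring)), zero_mul]
  · simp
  · intro r _ hr
    simp [mon1, hr]
  · simp

theorem fin3_double : ∀ a b : Fin 3, a ≠ 0 → b ≠ 0 → a ≠ b → b = 2 * a := by decide

theorem fin3_cases : ∀ j : Fin 3, j = 0 ∨ j = 1 ∨ j = 2 := by decide

/-- Three roots of unity summing to zero are distinct. -/
theorem injective_of_sum (hω : ω ^ 2 + ω + 1 = 0) (h2 : (2 : F) = 0) {f : Fin 3 → Fin 3}
    (h : w ω (f 0) + w ω (f 1) + w ω (f 2) = 0) : Function.Injective f := by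
  have h01 : f 0 ≠ f 1 := fun e => w_ne_zero hω (f 2) (by rw [e] at h; linear_combination h - w ω (f 1) * h2)
  have h02 : f 0 ≠ f 2 := fun e => w_ne_zero hω (f 1) (by rw [e] at h; linear_combination h - w ω (f 2) * h2)
  have h12 : f 1 ≠ f 2 := fun e => w_ne_zero hω (f 0) (by rw [e] at h; linear_combination h - w ω (f 2) * h2)
  intro a b hab
  rcases fin3_cases a with rfl | rfl | rfl <;> rcases fin3_cases b with rfl | rfl | rfl <;>
    first
    | rfl
    | exact absurd hab h01
    | exact absurd hab.symm h01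
    | exact absurd hab h02
    | exact absurd hab.symm h02
    | exact absurd hab h12
    | exact absurd hab.symm h12

/-- The unitary matrices of degree three over four elements move monomials to monomials. -/
theorem moves_unitary [Fintype F] (hF : Fintype.card F = 4) (hω : ω ^ 2 + ω + 1 = 0)
    (h2 : (2 : F) = 0) {u : Matrix (Fin 3) (Fin 3) F}
    (hu : ∀ i l, ∑ j, u i j * u l j ^ 2 = if i = l then 1 else 0) : Moves ω u := by
  classical
  have hcube : ∀ {x : F}, x ≠ 0 → x ^ 3 = 1 := fun {x} hx => by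
    have := FiniteField.pow_card_sub_one_eq_one x hx
    rwa [hF] at this
  by_cases hfull : ∀ i j, u i j ≠ 0
  · -- all entries non-zero
    choose k hk using fun i j => w_cases hω (hcube (hfull i j))
    have hdist : ∀ i l, i ≠ l → Function.Injective (fun j => k i j - k l j) := by
      intro i l hil
      have hterm : ∀ j, u i j * u l j ^ 2 = w ω (k i j - k l j) := by
        intro j
        have e : u i j = w ω (k i j - k l j) * u l j := by
          rw [hk i j, hk l j, ← w_add hω, sub_add_cancel]
        rw [e, mul_assoc, ← pow_succ', hcube (hfull l j), mul_one]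
      have h1 := hu i l
      rw [if_neg hil, Fin.sum_univ_three, hterm, hterm, hterm] at h1
      exact injective_of_sum hω h2 h1
    obtain ⟨c₁, s₁, hs₁, e₁⟩ := fin3_affine _ (hdist 1 0 (by decide))
    obtain ⟨c₂, s₂, hs₂, e₂⟩ := fin3_affine _ (hdist 2 0 (by decide))
    have hs : s₂ = 2 * s₁ := by
      refine fin3_double s₁ s₂ hs₁ hs₂ fun h => ?_
      have h01 : (0 : Fin 3) = 1 := hdist 1 2 (by decide) (by
        show k 1 0 - k 2 0 = k 1 1 - k 2 1
        subst h
        linear_combination e₁ 0 - e₂ 0 - e₁ 1 + e₂ 1)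
      exact absurd h01 (by decide)
    have hu' : u = (Matrix.of fun p q => if q = 0 + s₁ * p then w ω (![0, c₁, c₂] p) else 0) *
        (Matrix.of fun p q : Fin 3 => w ω (p * q)) *
        (Matrix.of fun p q => if q = 0 + 1 * p then w ω (k 0 p) else 0) := by
      ext i j
      rw [Matrix.mul_apply, Finset.sum_eq_single j (fun r _ hr => by simp [Ne.symm hr]) (by simp),
        Matrix.mul_apply, Finset.sum_eq_single (0 + s₁ * i) (fun r _ hr => by simp only [Matrix.of_apply, if_neg hr, zero_mul])
          (by simp)]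
      simp only [Matrix.of_apply, if_true, zero_add, one_mul]
      rw [hk i j, ← w_add hω, ← w_add hω]
      congr 1
      have hA : k 1 j - k 0 j = c₁ + s₁ * j := e₁ j
      have hB : k 2 j - k 0 j = c₂ + s₂ * j := e₂ j
      rcases fin3_cases i with rfl | rfl | rfl
      · simp
      · simp only [Matrix.cons_val_one, Matrix.cons_val_zero, mul_one]
        linear_combination hA
      · simp only [Matrix.cons_val_two, Matrix.tail_cons, Matrix.head_cons]
        linear_combination hB + j * hs
    rw [hu']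
    exact ((moves_monomial hω _ 0 hs₁).mul (moves_fourier hω)).mul
      (moves_monomial hω _ 0 (show (1 : Fin 3) ≠ 0 by decide))
  · -- a monomial matrix
    push Not at hfull
    obtain ⟨i₀, j₀, h0⟩ := hfull
    have hrow : ∀ i, (∀ j, u i j ≠ 0) ∨ ∃ j, u i j ≠ 0 ∧ ∀ l, l ≠ j → u i l = 0 := by
      intro i
      have h1 := hu i i
      rw [if_pos rfl, Fin.sum_univ_three] at h1
      have hn : ∀ j, u i j ≠ 0 → u i j * u i j ^ 2 = 1 := fun j hj => by rw [← pow_succ']; exact hcube hj
      rcases em (u i 0 = 0) with a | a <;> rcases em (u i 1 = 0) with b | b <;>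
        rcases em (u i 2 = 0) with c | c
      · rw [a, b, c] at h1; simp at h1
      · exact Or.inr ⟨2, c, fun l hl => by rcases fin3_cases l with rfl | rfl | rfl <;> simp_all⟩
      · exact Or.inr ⟨1, b, fun l hl => by rcases fin3_cases l with rfl | rfl | rfl <;> simp_all⟩
      · rw [hn 1 b, hn 2 c, a] at h1
        exact absurd h1 fun h => one_ne_zero (α := F) (by linear_combination h2 - h)
      · exact Or.inr ⟨0, a, fun l hl => by rcases fin3_cases l with rfl | rfl | rfl <;> simp_all⟩
      · rw [hn 0 a, hn 2 c, b] at h1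
        exact absurd h1 fun h => one_ne_zero (α := F) (by linear_combination h2 - h)
      · rw [hn 0 a, hn 1 b, c] at h1
        exact absurd h1 fun h => one_ne_zero (α := F) (by linear_combination h2 - h)
      · exact Or.inl fun j => by rcases fin3_cases j with rfl | rfl | rfl <;> assumption
    have hone : ∀ i, ∃ j, u i j ≠ 0 ∧ ∀ l, l ≠ j → u i l = 0 := by
      intro i
      refine (hrow i).resolve_left fun hall => ?_
      rcases hrow i₀ with h | ⟨j, hj, hz⟩
      · exact h j₀ h0
      · have h1 := hu i i₀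
        rw [if_neg (fun (e : i = i₀) => hall j₀ (e.symm ▸ h0)), Finset.sum_eq_single j
          (fun l _ hl => by simp [hz l hl]) (by simp)] at h1
        exact (mul_ne_zero (hall j) (pow_ne_zero _ hj)) h1
    choose π hπ hπ0 using hone
    have hinj : Function.Injective π := by
      intro a b hab
      by_contra hne
      have h1 := hu a b
      rw [if_neg hne, Finset.sum_eq_single (π a) (fun l _ hl => by simp [hπ0 a l hl]) (by simp)] at h1
      exact (mul_ne_zero (hπ a) (pow_ne_zero _ (hab ▸ hπ b))) h1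
    obtain ⟨c₀, s, hs, hπe⟩ := fin3_affine π hinj
    choose k hk using fun i => w_cases hω (hcube (hπ i))
    have hu' : u = Matrix.of fun p q => if q = c₀ + s * p then w ω (k p) else 0 := by
      ext i j
      simp only [Matrix.of_apply]
      split
      · next h => rw [h, ← hπe, hk]
      · next h => exact hπ0 i j (fun e => h (e.trans (hπe i)))
    rw [hu']
    exact moves_monomial hω k c₀ hs

end CfsgLib.AschU.Heis3
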