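import Cfsg.Agent.Lib.MaxSub.HermPerp
import Cfsg.Agent.Lib.MaxSub.HermFull
import Cfsg.Agent.Lib.MaxSub.Sub
import Cfsg.Agent.Lib.AschU.Classes

/-!
The standard unitary form: adjoints as matrices, membership in the unitary group, orthogonals of
invariant subspaces, and the reducible case of the structure theorem.
-/

set_option autoImplicit false

namespace CfsgLib.AschU

open Cfsg Cfsg.Geo CfsgLib.MaxSub Matrix
open scoped MatrixGroups

variable {F : Type*} [Field F] [Fintype F] {n q : ℕ}

/-- The adjoint for the standard unitary form: conjugate transpose. -/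
noncomputable def adjM (hF : Fintype.card F = q ^ 2) (A : Matrix (Fin n) (Fin n) F) :
    Matrix (Fin n) (Fin n) F :=
  (A.map (qConj hF))ᵀ

theorem adjM_adjM (hF : Fintype.card F = q ^ 2) (A : Matrix (Fin n) (Fin n) F) :
    adjM hF (adjM hF A) = A := by
  ext i j
  simp [adjM, qConj_qConj]

theorem adjM_mul (hF : Fintype.card F = q ^ 2) (A B : Matrix (Fin n) (Fin n) F) :
    adjM hF (A * B) = adjM hF B * adjM hF A := by
  rw [adjM, adjM, adjM, Matrix.map_mul, Matrix.transpose_mul]

theorem adjM_add (hF : Fintype.card F = q ^ 2) (A B : Matrix (Fin n) (Fin n) F) :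
    adjM hF (A + B) = adjM hF A + adjM hF B := by
  ext i j
  simp [adjM]

theorem adjM_zero (hF : Fintype.card F = q ^ 2) :
    adjM hF (0 : Matrix (Fin n) (Fin n) F) = 0 := by
  ext i j
  simp [adjM]

theorem adjM_one (hF : Fintype.card F = q ^ 2) :
    adjM hF (1 : Matrix (Fin n) (Fin n) F) = 1 := by
  rw [adjM, Matrix.map_one _ (map_zero _) (map_one _), Matrix.transpose_one]

theorem adjM_smul (hF : Fintype.card F = q ^ 2) (c : F) (A : Matrix (Fin n) (Fin n) F) :
    adjM hF (c • A) = qConj hF c • adjM hF A := by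
  ext i j
  simp [adjM]

theorem hermForm_eq_dot (hF : Fintype.card F = q ^ 2) (u v : Fin n → F) :
    hermForm n F q u v = u ⬝ᵥ (qConj hF ∘ v) := by
  simp [hermForm, dotProduct, qConj_apply hF]

theorem hermForm_mulVec_left (hF : Fintype.card F = q ^ 2) (A : Matrix (Fin n) (Fin n) F)
    (u v : Fin n → F) :
    hermForm n F q (A *ᵥ u) v = hermForm n F q u (adjM hF A *ᵥ v) := by
  have h : qConj hF ∘ (adjM hF A *ᵥ v) = Aᵀ *ᵥ (qConj hF ∘ v) := by
    funext i
    simp [adjM, Matrix.mulVec, dotProduct, map_sum, qConj_qConj]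
  rw [hermForm_eq_dot hF, hermForm_eq_dot hF, h, Matrix.mulVec_transpose,
    dotProduct_comm (A *ᵥ u), Matrix.dotProduct_mulVec, dotProduct_comm]

/-- The form separates points on the right. -/
theorem eq_of_forall_herm (hF : Fintype.card F = q ^ 2) {a b : Fin n → F}
    (h : ∀ u, hermForm n F q u a = hermForm n F q u b) : a = b :=
  hDual_injective (isUnitaryForm_hermForm hF n) (funext fun i => h (Pi.single i 1))

/-- An element of the unitary group has its adjoint as inverse. -/
theorem adjM_of_mem_GU (hF : Fintype.card F = q ^ 2) {g : GL (Fin n) F} (hg : g ∈ GU n F q) :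
    adjM hF (g : Matrix (Fin n) (Fin n) F) = ((g⁻¹ : GL (Fin n) F) : Matrix (Fin n) (Fin n) F) := by
  have h1 : adjM hF (g : Matrix (Fin n) (Fin n) F) * (g : Matrix (Fin n) (Fin n) F) = 1 := by
    refine Matrix.ext_of_mulVec_single fun j => eq_of_forall_herm hF fun u => ?_
    rw [← Matrix.mulVec_mulVec, Matrix.one_mulVec, ← hermForm_mulVec_left hF]
    exact hg u (Pi.single j 1)
  calc adjM hF (g : Matrix (Fin n) (Fin n) F)
      = adjM hF (g : Matrix (Fin n) (Fin n) F) *
          ((g : Matrix (Fin n) (Fin n) F) * ((g⁻¹ : GL (Fin n) F) : Matrix (Fin n) (Fin n) F)) := by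
        rw [← Units.val_mul, mul_inv_cancel, Units.val_one, mul_one]
    _ = _ := by rw [← mul_assoc, h1, one_mul]

/-- Conjugation by a unitary element commutes with the adjoint. -/
theorem adjM_conj (hF : Fintype.card F = q ^ 2) {g : GL (Fin n) F} (hg : g ∈ GU n F q)
    (A : Matrix (Fin n) (Fin n) F) :
    adjM hF ((g : Matrix (Fin n) (Fin n) F) * A * ((g⁻¹ : GL (Fin n) F) : Matrix (Fin n) (Fin n) F)) =
      (g : Matrix (Fin n) (Fin n) F) * adjM hF A *
        ((g⁻¹ : GL (Fin n) F) : Matrix (Fin n) (Fin n) F) := by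
  rw [adjM_mul, adjM_mul, adjM_of_mem_GU hF hg, adjM_of_mem_GU hF (inv_mem hg), inv_inv, mul_assoc]

/-- The orthogonal of a subspace kept by a unitary element is kept by it. -/
theorem maps_hPerp {σ : F ≃+* F} {f : (Fin n → F) → (Fin n → F) → F} (hf : IsUnitaryForm σ f)
    {g : GL (Fin n) F}
    (hg : ∀ u v, f ((g : Matrix (Fin n) (Fin n) F) *ᵥ u) ((g : Matrix (Fin n) (Fin n) F) *ᵥ v) = f u v)
    {W : Submodule F (Fin n → F)} (hW : g ∈ subspaceStabilizer W) :
    ∀ x ∈ hPerp hf W, (g : Matrix (Fin n) (Fin n) F) *ᵥ x ∈ hPerp hf W := by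
  intro x hx w hw
  have hw' : ((g⁻¹ : GL (Fin n) F) : Matrix (Fin n) (Fin n) F) *ᵥ w ∈ W :=
    maps_of_mem_subspaceStabilizer (inv_mem hW) hw
  have h := hg x (((g⁻¹ : GL (Fin n) F) : Matrix (Fin n) (Fin n) F) *ᵥ w)
  rw [Matrix.mulVec_mulVec _ (g : Matrix (Fin n) (Fin n) F), ← Units.val_mul, mul_inv_cancel,
    Units.val_one, Matrix.one_mulVec] at h
  rw [h]
  exact hx _ hw'

/-- A subgroup of the unitary group keeping a proper non-zero subspace lies in a class member. -/
theorem exists_member_of_invariant (hF : Fintype.card F = q ^ 2) {H : Subgroup (GL (Fin n) F)}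
    (hH : H ≤ GU n F q) {W : Submodule F (Fin n → F)} (hW : W ≠ ⊥) (hWt : W ≠ ⊤)
    (hinv : H ≤ subspaceStabilizer W) :
    ∃ M : Subgroup (GL (Fin n) F), UClass n q M ∧ H ≤ M := by
  classical
  have hf := isUnitaryForm_hermForm hF n
  set U := hPerp hf W with hU
  have hUinv : H ≤ subspaceStabilizer U := fun g hg =>
    mem_subspaceStabilizer_of_maps (maps_hPerp hf (hH hg) (hinv hg))
  by_cases hR : W ⊓ U = ⊥
  · -- non-degenerate
    have hnd : IsNondegenerateOn (hermForm n F q) W := by
      intro w hw hw0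
      have hwU : w ∉ U := fun h => hw0 ((Submodule.mem_bot F).1 (hR ▸ Submodule.mem_inf.2 ⟨hw, h⟩))
      rw [hU, mem_hPerp] at hwU
      push Not at hwU
      obtain ⟨x, hx, hne⟩ := hwU
      exact ⟨⟨x, hx, fun h => hne (herm_eq_zero_comm hf h)⟩, ⟨x, hx, hne⟩⟩
    have hdim : n ≤ Module.finrank F U + Module.finrank F W :=
      finrank_le_finrank_hPerp_add hf W
    have hsum := Submodule.finrank_sup_add_finrank_inf_eq W U
    rw [hR, finrank_bot, add_zero] at hsum
    have htot : Module.finrank F (W ⊔ U : Submodule F (Fin n → F)) ≤ n :=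
      (Submodule.finrank_le _).trans (le_of_eq (Module.finrank_fin_fun F))
    have hWU : W ⊔ U = ⊤ := Submodule.eq_top_of_finrank_eq (by
      rw [Module.finrank_fin_fun]; omega)
    have hU0 : U ≠ ⊥ := fun h => hWt (by rw [← hWU, h, sup_bot_eq])
    have hUnd : IsNondegenerateOn (hermForm n F q) U := by
      intro u hu hu0
      by_contra hcon
      have hall : ∀ x ∈ U, hermForm n F q u x = 0 := by
        intro x hx
        by_contra hne
        exact hcon ⟨⟨x, hx, fun h => hne (herm_eq_zero_comm hf h)⟩, ⟨x, hx, hne⟩⟩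
      obtain ⟨-, ⟨y, hy⟩⟩ := hf.nondegenerate u hu0
      obtain ⟨a, ha, b, hb, rfl⟩ := Submodule.mem_sup.1 (hWU.ge (Submodule.mem_top (x := y)))
      rw [herm_add_right hf, hall b hb, add_zero] at hy
      exact hy (hu a ha)
    rcases lt_trichotomy (2 * Module.finrank F W) n with hlt | heq | hgt
    · exact ⟨_, Or.inl (Or.inr (Or.inl ⟨W, hW, hnd, hlt, rfl⟩)), le_inf hinv hH⟩
    · let D : Fin 2 → Submodule F (Fin n → F) := ![W, U]
      have hD : IsMDecomposition (Module.finrank F W) D := by
        refine ⟨le_rfl, Nat.pos_of_ne_zero fun h => hW (Submodule.finrank_eq_zero.1 h),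
          fun i => ?_, ?_, ?_⟩
        · fin_cases i
          · rfl
          · show Module.finrank F U = Module.finrank F W
            rw [hWU, finrank_top, Module.finrank_fin_fun] at hsum
            omega
        · rw [iSupIndep_pair (i := 0) (j := 1) (by decide) (fun k => by fin_cases k <;> simp)]
          exact disjoint_iff.2 hR
        · refine eq_top_iff.2 (hWU ▸ sup_le (le_iSup D 0) (le_iSup D 1))
      refine ⟨_, Or.inl (Or.inr (Or.inr (Or.inl ⟨2, _, D, ⟨hD, fun i => ?_, fun i j hij => ?_⟩,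
        rfl⟩))), le_inf (fun g hg => ?_) hH⟩
      · fin_cases i
        exacts [hnd, hUnd]
      · fin_cases i <;> fin_cases j
        · exact absurd rfl hij
        · exact fun a ha b hb => hPerp_comm hf hb ha
        · exact fun a ha b hb => ha b hb
        · exact absurd rfl hij
      · refine ⟨1, fun i => ?_⟩
        have hmap : ∀ X : Submodule F (Fin n → F), g ∈ subspaceStabilizer X →
            X.map (Matrix.toLin' (g : Matrix (Fin n) (Fin n) F)) = X := by
          intro X hX
          apply le_antisymm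
          · rintro _ ⟨x, hx, rfl⟩
            exact maps_of_mem_subspaceStabilizer hX hx
          · intro y hy
            refine ⟨((g⁻¹ : GL (Fin n) F) : Matrix (Fin n) (Fin n) F) *ᵥ y,
              maps_of_mem_subspaceStabilizer (inv_mem hX) hy, ?_⟩
            rw [Matrix.toLin'_apply, Matrix.mulVec_mulVec, ← Units.val_mul, mul_inv_cancel,
              Units.val_one, Matrix.one_mulVec]
        fin_cases i
        exacts [hmap W (hinv hg), hmap U (hUinv hg)]
    · refine ⟨_, Or.inl (Or.inr (Or.inl ⟨U, hU0, hUnd, ?_, rfl⟩)), le_inf hUinv hH⟩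
      omega
  · refine ⟨_, Or.inl (Or.inl ⟨W ⊓ U, hR, fun u hu v hv => ?_, rfl⟩), le_inf (fun g hg => ?_) hH⟩
    · exact hu.2 v hv.1
    · exact mem_subspaceStabilizer_of_maps fun x hx =>
        ⟨maps_of_mem_subspaceStabilizer (hinv hg) hx.1,
          maps_of_mem_subspaceStabilizer (hUinv hg) hx.2⟩

end CfsgLib.AschU
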