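import Cfsg.Agent.Lib.AschU.SUGroup
import Cfsg.Agent.Lib.AschU.Setup

/-!
Stabilisers of finite sets of lines, used to show that some small candidates are not maximal.
-/

set_option autoImplicit false
set_option linter.unusedSectionVars false

namespace CfsgLib.AschU

open Cfsg Cfsg.Geo CfsgLib.MaxSub Matrix
open scoped MatrixGroups

variable {F : Type*} [Field F] [Fintype F] {n q : ℕ}

/-- The stabiliser of a set of subspaces. -/
def lineStab (S : Set (Submodule F (Fin n → F))) : Subgroup (GL (Fin n) F) where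
  carrier := {g | Submodule.map (Matrix.toLin' (g : Matrix (Fin n) (Fin n) F)) '' S = S}
  one_mem' := by
    show Submodule.map _ '' S = S
    simp
  mul_mem' {a b} ha hb := by
    show Submodule.map _ '' S = S
    conv_rhs => rw [← ha, ← hb, Set.image_image]
    refine Set.image_congr fun W _ => ?_
    rw [Units.val_mul, Matrix.toLin'_mul, Submodule.map_comp]
  inv_mem' {a} ha := by
    show Submodule.map _ '' S = S
    conv_lhs => rw [← ha, Set.image_image]
    conv_rhs => rw [← Set.image_id S]
    refine Set.image_congr fun W _ => ?_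
    rw [← Submodule.map_comp, ← Matrix.toLin'_mul, ← Units.val_mul, inv_mul_cancel, Units.val_one,
      Matrix.toLin'_one, Submodule.map_id, id]

/-- The lines through a family of vectors. -/
def lineSet {κ : Type*} (v : κ → Fin n → F) : Set (Submodule F (Fin n → F)) :=
  Set.range fun i => Submodule.span F {v i}

theorem map_line (g : GL (Fin n) F) (x : Fin n → F) :
    (Submodule.span F {x}).map (Matrix.toLin' (g : Matrix (Fin n) (Fin n) F)) =
      Submodule.span F {(g : Matrix (Fin n) (Fin n) F) *ᵥ x} := by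
  rw [Submodule.map_span, Set.image_singleton, Matrix.toLin'_apply]

theorem mem_lineStab {κ : Type*} [Finite κ] {v : κ → Fin n → F} {g : GL (Fin n) F}
    (h : ∀ i, ∃ (j : κ) (a : F), a ≠ 0 ∧ (g : Matrix (Fin n) (Fin n) F) *ᵥ v i = a • v j) :
    g ∈ lineStab (lineSet v) := by
  have hfin : (lineSet v).Finite := Set.finite_range _
  have hmaps : Set.MapsTo (Submodule.map (Matrix.toLin' (g : Matrix (Fin n) (Fin n) F)))
      (lineSet v) (lineSet v) := by
    rintro _ ⟨i, rfl⟩
    obtain ⟨j, a, ha, he⟩ := h i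
    refine ⟨j, ?_⟩
    show Submodule.span F {v j} = _
    rw [map_line, he, Submodule.span_singleton_smul_eq (isUnit_iff_ne_zero.2 ha)]
  have hinj : Function.Injective
      (Submodule.map (Matrix.toLin' (g : Matrix (Fin n) (Fin n) F))) := by
    refine Submodule.map_injective_of_injective fun x y hxy => ?_
    have := congrArg (((g⁻¹ : GL (Fin n) F) : Matrix (Fin n) (Fin n) F) *ᵥ ·) hxy
    simpa [inv_mulVec_mulVec] using this
  exact ((hfin.injOn_iff_bijOn_of_mapsTo hmaps).1 hinj.injOn).image_eq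

theorem notMem_lineStab {κ : Type*} {v : κ → Fin n → F} {g : GL (Fin n) F} (i : κ)
    (h : ∀ (j : κ) (a : F), (g : Matrix (Fin n) (Fin n) F) *ᵥ v i ≠ a • v j) :
    g ∉ lineStab (lineSet v) := by
  intro hg
  obtain ⟨j, hj⟩ : (Submodule.span F {v i}).map (Matrix.toLin' (g : Matrix (Fin n) (Fin n) F)) ∈
      lineSet v := by
    rw [← show _ = lineSet v from hg]
    exact ⟨_, ⟨i, rfl⟩, rfl⟩
  have hmem : (g : Matrix (Fin n) (Fin n) F) *ᵥ v i ∈ Submodule.span F {v j} := by
    rw [show Submodule.span F {v j} = _ from hj, map_line]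
    exact Submodule.mem_span_singleton_self _
  obtain ⟨a, ha⟩ := Submodule.mem_span_singleton.1 hmem
  exact h j a ha.symm

/-- A maximal subgroup is not strictly contained in a subgroup missing an element. -/
theorem false_of_between {H L : Subgroup (GL (Fin n) F)} (hH : IsMaximalIn (suGL n q F) H)
    (hle : H ≤ L) {g g' : GL (Fin n) F} (hg : g ∈ suGL n q F) (hgL : g ∈ L) (hgH : g ∉ H)
    (hg' : g' ∈ suGL n q F) (hg'L : g' ∉ L) : False := by
  rcases hH.2 (L ⊓ suGL n q F) (le_inf hle hH.1.le) inf_le_right with h | h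
  · exact hgH (h ▸ ⟨hgL, hg⟩)
  · exact hg'L (h.ge hg').1

theorem conj_mem_suGL {g x : GL (Fin n) F} (hg : g ∈ GU n F q) (hx : x ∈ suGL n q F) :
    g * x * g⁻¹ ∈ suGL n q F := by
  refine ⟨(GU n F q).mul_mem ((GU n F q).mul_mem hg hx.1) ((GU n F q).inv_mem hg), ?_⟩
  show Matrix.GeneralLinearGroup.det (g * x * g⁻¹) = 1
  rw [map_mul, map_mul, map_inv, show Matrix.GeneralLinearGroup.det x = 1 from hx.2, mul_one,
    mul_inv_cancel]

theorem map_conj_suGL {g : GL (Fin n) F} (hg : g ∈ GU n F q) :
    (suGL n q F).map (MulAut.conj g).toMonoidHom = suGL n q F := by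
  refine le_antisymm ?_ fun x hx => ?_
  · rintro _ ⟨x, hx, rfl⟩
    exact conj_mem_suGL hg hx
  · refine ⟨g⁻¹ * x * g, ?_, ?_⟩
    · simpa using conj_mem_suGL (inv_mem hg) hx
    · show g * (g⁻¹ * x * g) * g⁻¹ = x
      group

/-- A unitary conjugate of a maximal subgroup is maximal. -/
theorem isMaximalIn_conj {H : Subgroup (GL (Fin n) F)} (hH : IsMaximalIn (suGL n q F) H)
    {g : GL (Fin n) F} (hg : g ∈ GU n F q) :
    IsMaximalIn (suGL n q F) (H.map (MulAut.conj g).toMonoidHom) := by
  set φ := (MulAut.conj g).toMonoidHom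
  have hinj : Function.Injective φ := (MulAut.conj g).injective
  have hS : (suGL n q F).map φ = suGL n q F := map_conj_suGL hg
  refine ⟨lt_of_le_of_ne ((Subgroup.map_mono hH.1.le).trans hS.le) fun h => hH.1.ne ?_,
    fun M hM1 hM2 => ?_⟩
  · exact Subgroup.map_injective hinj (h.trans hS.symm)
  have hM : (M.comap φ).map φ = M :=
    Subgroup.map_comap_eq_self_of_surjective (MulAut.conj g).surjective M
  have h1 : H ≤ M.comap φ := Subgroup.map_le_iff_le_comap.1 hM1
  have h2 : M.comap φ ≤ suGL n q F := by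
    rw [← Subgroup.map_le_map_iff_of_injective hinj, hM, hS]; exact hM2
  rcases hH.2 _ h1 h2 with h | h
  · left; rw [← hM, h]
  · right; rw [← hM, h, hS]

/-- A matrix whose adjoint is a left inverse is unitary. -/
theorem mem_GU_of_adjM (hF : Fintype.card F = q ^ 2) {g : GL (Fin n) F}
    (h : adjM hF (g : Matrix (Fin n) (Fin n) F) * (g : Matrix (Fin n) (Fin n) F) = 1) :
    g ∈ GU n F q := by
  intro u v
  show hermForm n F q ((g : Matrix (Fin n) (Fin n) F) *ᵥ u)
    ((g : Matrix (Fin n) (Fin n) F) *ᵥ v) = hermForm n F q u v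
  rw [hermForm_mulVec_left hF, Matrix.mulVec_mulVec, h, Matrix.one_mulVec]

theorem det_eq_one_of_pow {g : GL (Fin n) F} {m : ℕ} (hg : g ^ m = 1)
    (hm : m.Coprime (Fintype.card F - 1)) : Matrix.GeneralLinearGroup.det g = 1 := by
  have h1 : Matrix.GeneralLinearGroup.det g ^ m = 1 := by rw [← map_pow, hg, map_one]
  have h2 : Matrix.GeneralLinearGroup.det g ^ (Fintype.card F - 1) = 1 := Units.ext (by
    rw [Units.val_pow_eq_pow_val, Units.val_one]
    exact FiniteField.pow_card_sub_one_eq_one _ (Units.ne_zero _))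
  have h3 := pow_gcd_eq_one.2 ⟨h1, h2⟩
  rwa [Nat.Coprime.gcd_eq_one hm, pow_one] at h3

end CfsgLib.AschU
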