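import Cfsg.Agent.Lib.AschU.Residual

/-!
The symplectic-type case of the unitary structure theorem: class 6, or a subfield member.
-/

set_option autoImplicit false

namespace CfsgLib.AschU

open Cfsg Cfsg.Geo CfsgLib.MaxSub CfsgLib.Aschbacher Matrix
open scoped MatrixGroups

variable {F : Type*} [Field F] [Fintype F] {n q : ℕ}

theorem le_subgroupNormalizer {G R : Subgroup (GL (Fin n) F)} (hR : Normalized G R) :
    G ≤ subgroupNormalizer R := by
  intro g hg
  rw [subgroupNormalizer, Subgroup.mem_normalizer_iff]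
  refine fun x => ⟨fun hx => hR g hg x hx, fun hx => ?_⟩
  have := hR g⁻¹ (G.inv_mem hg) _ hx
  simpa [mul_assoc] using this

theorem member_of_sympType (hF : Fintype.card F = q ^ 2) (hn : 2 ≤ n)
    {H R : Subgroup (GL (Fin n) F)} {r m : ℕ} (hH : H ≤ GU n F q)
    (hRsim : R ≤ similarityGroup (hermForm n F q))
    (hR : Normalized (H ⊔ scalars (Fin n) F) R) (hdata : IsSympData r m R)
    (hreal : ∀ F₀ : Subfield F, Nat.card (Subgroup.center R) ∣ Nat.card F₀ - 1 →
      RealisableOver F₀ (matrixSet R)) :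
    ∃ M : Subgroup (GL (Fin n) F), UClass n q M ∧ H ≤ M := by
  classical
  have : Nonempty (Fin n) := ⟨⟨0, by omega⟩⟩
  have hr := hdata.symplecticType.prime
  have hnrm : n = r ^ m := by simpa using hdata.card_index
  obtain ⟨p, hp⟩ := CharP.exists F
  have hpp : Fact p.Prime := ⟨CharP.char_is_prime F p⟩
  obtain ⟨e, -, he⟩ := FiniteField.card F p
  have hrp : r ≠ p := fun h => hdata.cast_ne_zero (by rw [h, CharP.cast_eq_zero])
  set z := Nat.card (Subgroup.center R) with hz
  have hzF : z ∣ Fintype.card F - 1 := by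
    rw [hz, hdata.card_center, ← Nat.card_eq_fintype_card]; exact Nat.gcd_dvd_right _ _
  have hev : Even (e : ℕ) := by
    obtain ⟨l, -, hql⟩ := (Nat.dvd_prime_pow hpp.out).1
      (show q ∣ p ^ (e : ℕ) by rw [← he, hF]; exact dvd_pow_self _ two_ne_zero)
    refine ⟨l, Nat.pow_right_injective hpp.out.two_le ?_⟩
    show p ^ (e : ℕ) = p ^ (l + l)
    rw [← he, hF, hql, ← pow_mul, mul_two]
  by_cases hmin : ∀ d : ℕ, 0 < d → d < (e : ℕ) → ¬ z ∣ p ^ d - 1
  · have hmf : IsMinimalFieldFor z p e F := ⟨hpp.out, hp, he, he ▸ hzF, hmin⟩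
    refine ⟨subgroupNormalizer R ⊓ GU n F q, Or.inl (Or.inr (Or.inr (Or.inr (Or.inr (Or.inr
      (Or.inr (Or.inr ⟨r, R, p, e, m, hdata.symplecticType, absIrred_of_alg_top hdata.alg_top,
        hRsim, hrp, hmf, ?_, hnrm, rfl⟩))))))), le_inf (le_sup_left.trans (le_subgroupNormalizer hR)) hH⟩
    rcases hdata.center_cases with ⟨hodd, hc⟩ | ⟨h2, hc⟩
    · exact Or.inl ⟨hodd, hc, hdata.one_le, by rw [hdata.card_eq, hc]; ring⟩
    · have hpodd : p % 2 = 1 := Nat.odd_iff.1 (hpp.out.odd_of_ne_two (h2 ▸ hrp).symm)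
      rcases hc with hc | hc
      · exfalso
        refine hmin 1 one_pos ?_ ?_
        · have := e.pos
          rcases hev with ⟨l, hl⟩
          omega
        · rw [pow_one, show z = 2 from hc]; omega
      · refine Or.inr ⟨h2, ?_, hc, by rw [hdata.card_eq, hc, h2]; ring⟩
        have h4 : 4 ∣ p ^ 2 - 1 := by
          obtain ⟨l, hl⟩ : ∃ l, p = 2 * l + 1 := ⟨p / 2, by omega⟩
          subst hl
          exact ⟨l * l + l, by rw [show (2 * l + 1) ^ 2 = 4 * (l * l + l) + 1 by ring, Nat.add_sub_cancel]⟩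
        have hle : (e : ℕ) ≤ 2 := by
          by_contra hlt
          exact hmin 2 two_pos (by omega) (by rw [show z = 4 from hc]; exact h4)
        rcases hev with ⟨l, hl⟩
        have := e.pos
        omega
  · push Not at hmin
    obtain ⟨d, hd0, hde, hd⟩ := hmin
    set d' := Nat.gcd d (e : ℕ) with hd'
    have hdvd : z ∣ p ^ d' - 1 := by
      rw [hd', ← Nat.pow_sub_one_gcd_pow_sub_one]
      exact Nat.dvd_gcd hd (he ▸ hzF)
    have hd'0 : 0 < d' := Nat.gcd_pos_of_pos_left _ hd0
    have hd'e : d' < (e : ℕ) := lt_of_le_of_lt (Nat.gcd_le_left _ hd0) hde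
    obtain ⟨k, hk⟩ : d' ∣ (e : ℕ) := Nat.gcd_dvd_right _ _
    obtain ⟨F₀, hF₀, hmem⟩ := exists_subfield_card (F := F) (Q := p ^ d')
      (Nat.one_lt_pow hd'0.ne' hpp.out.one_lt) (k := k) (by rw [he, hk, pow_mul])
    have h₀ : F₀ ≠ ⊤ := by
      intro htop
      have : p ^ d' = p ^ (e : ℕ) := by
        rw [← hF₀, htop, Nat.card_congr Subfield.topEquiv.toEquiv, Nat.card_eq_fintype_card, he]
      exact hd'e.ne (Nat.pow_right_injective hpp.out.two_le this)
    have hN : Normalized (H ⊔ scalars (Fin n) F) R := hR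
    obtain ⟨F₁, s, B, hle, hs, hcard, hGB, hrat⟩ := le_subfield_of_realisable hN hdata.alg_top h₀
      (hreal F₀ (hF₀ ▸ hdvd))
    refine member_of_rational hF hn hs hcard (absIrred_of_alg_top hdata.alg_top).1 hdata.alg_top hrat
      (fun x hx => ?_) (le_sup_left.trans hGB) hH
    obtain ⟨c, hc⟩ := hRsim hx
    refine ⟨c, hle ((hmem _).2 ?_), hc⟩
    have hpow : ∀ (k : ℕ) u v, hermForm n F q (((x ^ k : GL (Fin n) F) : Matrix (Fin n) (Fin n) F) *ᵥ u)
        (((x ^ k : GL (Fin n) F) : Matrix (Fin n) (Fin n) F) *ᵥ v) =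
          (c : F) ^ k * hermForm n F q u v := by
      intro k
      induction k with
      | zero => simp
      | succ k ih =>
        intro u v
        rw [pow_succ', Units.val_mul, ← Matrix.mulVec_mulVec, ← Matrix.mulVec_mulVec, hc, ih,
          pow_succ', mul_assoc]
    obtain ⟨u, v, huv⟩ := isNondegenerateForm_ne_zero (isUnitaryForm_hermForm hF n).nondegenerate
    have h1 : (c : F) ^ (r * Nat.gcd 2 r) = 1 := by
      have := hpow (r * Nat.gcd 2 r) u v
      rw [hdata.pow_eq_one x hx] at this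
      simp only [Units.val_one, Matrix.one_mulVec] at this
      exact mul_right_cancel₀ huv (this.symm.trans (one_mul _).symm)
    have h2 : (c : F) ^ (Fintype.card F - 1) = 1 := FiniteField.pow_card_sub_one_eq_one _ c.ne_zero
    have h3 : (c : F) ^ z = 1 := by
      rw [hz, hdata.card_center, Nat.card_eq_fintype_card]
      exact pow_gcd_eq_one.2 ⟨h1, h2⟩
    obtain ⟨l, hl⟩ := hdvd
    have h4 : p ^ d' = z * l + 1 := by
      have := Nat.one_le_pow d' p hpp.out.pos
      omega
    rw [h4, pow_succ, pow_mul, h3, one_pow, one_mul]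

end CfsgLib.AschU
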