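import Cfsg.Agent.Lib.AschU.Tensor

/-!
A unitary group stabilising a tensor power of two-dimensional spaces is rational over the subfield of
order `q`: the symplectic forms of the factors give the twist.
-/

set_option autoImplicit false

namespace CfsgLib.AschU

open Cfsg Cfsg.Geo CfsgLib.MaxSub CfsgLib.Aschbacher CfsgLib.KnownC Matrix
open scoped MatrixGroups

variable {F : Type*} [Field F]

/-- The alternating matrix in dimension two. -/
def altTwo : Matrix (Fin 2) (Fin 2) F := !![0, 1; -1, 0]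

theorem altTwo_congr (a : Matrix (Fin 2) (Fin 2) F) :
    aᵀ * altTwo * a = a.det • (altTwo : Matrix (Fin 2) (Fin 2) F) := by
  ext i j
  fin_cases i <;> fin_cases j <;>
    simp [altTwo, Matrix.mul_apply, Fin.sum_univ_two, Matrix.det_fin_two] <;> ring

theorem altTwo_transpose : (altTwo : Matrix (Fin 2) (Fin 2) F)ᵀ = (-1 : F) • altTwo := by
  ext i j
  fin_cases i <;> fin_cases j <;> simp [altTwo]

theorem altTwo_sq : (altTwo : Matrix (Fin 2) (Fin 2) F) * altTwo = (-1 : F) • 1 := by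
  ext i j
  fin_cases i <;> fin_cases j <;> simp [altTwo, Matrix.mul_apply, Fin.sum_univ_two]

/-- The tensor power of the alternating matrix. -/
def altPow (t : ℕ) : Matrix (Fin t → Fin 2) (Fin t → Fin 2) F := pureMat fun _ => altTwo

theorem altPow_transpose (t : ℕ) :
    (altPow t : Matrix (Fin t → Fin 2) (Fin t → Fin 2) F)ᵀ = (-1 : F) ^ t • altPow t := by
  have h : (altPow t : Matrix (Fin t → Fin 2) (Fin t → Fin 2) F)ᵀ =
      pureMat fun _ => (altTwo : Matrix (Fin 2) (Fin 2) F)ᵀ := by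
    ext p q
    simp [altPow, pureMat]
  rw [h, altTwo_transpose, pureMat_smul, Finset.prod_const, Finset.card_univ, Fintype.card_fin]
  rfl

theorem altPow_sq (t : ℕ) :
    (altPow t : Matrix (Fin t → Fin 2) (Fin t → Fin 2) F) * altPow t = (-1 : F) ^ t • 1 := by
  rw [altPow, pureMat_mul, altTwo_sq, pureMat_smul, pureMat_one, Finset.prod_const, Finset.card_univ,
    Fintype.card_fin]

theorem altPow_diag {t : ℕ} (ht : 0 < t) (p : Fin t → Fin 2) :
    (altPow t : Matrix (Fin t → Fin 2) (Fin t → Fin 2) F) p p = 0 := by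
  refine Finset.prod_eq_zero (Finset.mem_univ (⟨0, ht⟩ : Fin t)) ?_
  rcases Fin.exists_fin_two.1 ⟨p ⟨0, ht⟩, rfl⟩ with h | h <;> simp [altTwo, h]

theorem altPow_map (σ : F ≃+* F) (t : ℕ) :
    (altPow t : Matrix (Fin t → Fin 2) (Fin t → Fin 2) F).map σ = altPow t := by
  ext p q
  simp only [altPow, pureMat, Matrix.map_apply, Matrix.of_apply, map_prod]
  refine Finset.prod_congr rfl fun j _ => ?_
  generalize p j = a
  generalize q j = b
  fin_cases a <;> fin_cases b <;> simp [altTwo]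

/-- Every element of the tensor wreath group of two-dimensional spaces is a similitude of that matrix. -/
theorem altPow_similitude {t : ℕ} {g : GL (Fin t → Fin 2) F}
    (hg : g ∈ tensorWreathStandard 2 t F) :
    ∃ c : F, c ≠ 0 ∧ (g : Matrix (Fin t → Fin 2) (Fin t → Fin 2) F)ᵀ * altPow t *
      (g : Matrix (Fin t → Fin 2) (Fin t → Fin 2) F) = c • altPow t := by
  induction hg using Subgroup.closure_induction with
  | mem g hg =>
    rcases hg with ⟨gs, hgs⟩ | ⟨π, hπ⟩
    · refine ⟨∏ j, (gs j : Matrix (Fin 2) (Fin 2) F).det, Finset.prod_ne_zero_iff.2 fun j _ =>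
        ((Matrix.isUnit_iff_isUnit_det _).1 (gs j).isUnit).ne_zero, ?_⟩
      have e : (g : Matrix (Fin t → Fin 2) (Fin t → Fin 2) F) =
          pureMat fun j => (gs j : Matrix (Fin 2) (Fin 2) F) := Matrix.ext hgs
      have et : (g : Matrix (Fin t → Fin 2) (Fin t → Fin 2) F)ᵀ =
          pureMat fun j => (gs j : Matrix (Fin 2) (Fin 2) F)ᵀ := by
        rw [e]; ext p q; simp [pureMat]
      rw [et, e, altPow, pureMat_mul, pureMat_mul,
        show (fun j => (gs j : Matrix (Fin 2) (Fin 2) F)ᵀ * altTwo * (gs j : Matrix (Fin 2) (Fin 2) F))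
          = fun j => (gs j : Matrix (Fin 2) (Fin 2) F).det • (altTwo : Matrix (Fin 2) (Fin 2) F)
          from funext fun j => altTwo_congr _,
        pureMat_smul]
    · refine ⟨1, one_ne_zero, ?_⟩
      have e : (g : Matrix (Fin t → Fin 2) (Fin t → Fin 2) F) = permMat π := Matrix.ext hπ
      have et : (g : Matrix (Fin t → Fin 2) (Fin t → Fin 2) F)ᵀ = permMat π.symm := by
        rw [e]; ext p q
        simp only [permMat, Matrix.transpose_apply, Matrix.of_apply]
        refine if_congr ⟨fun h => ?_, fun h => ?_⟩ rfl rfl <;> · rw [h]; funext j; simp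
      rw [et, e, one_smul, altPow, mul_assoc, pureMat_mul_permMat π (fun _ => altTwo), ← mul_assoc]
      have h1 : permMat π.symm * permMat π = (1 : Matrix (Fin t → Fin 2) (Fin t → Fin 2) F) := by
        simpa using permMat_mul_inv (F := F) (κ := Fin 2) π.symm
      rw [h1, one_mul]
  | one => exact ⟨1, one_ne_zero, by simp⟩
  | mul a b _ _ ha hb =>
    obtain ⟨c, hc0, hc⟩ := ha
    obtain ⟨d, hd0, hd⟩ := hb
    refine ⟨c * d, mul_ne_zero hc0 hd0, ?_⟩
    calc _ = (b : Matrix (Fin t → Fin 2) (Fin t → Fin 2) F)ᵀ *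
          ((a : Matrix (Fin t → Fin 2) (Fin t → Fin 2) F)ᵀ * altPow t *
            (a : Matrix (Fin t → Fin 2) (Fin t → Fin 2) F)) *
          (b : Matrix (Fin t → Fin 2) (Fin t → Fin 2) F) := by
          rw [Units.val_mul, Matrix.transpose_mul]; simp only [mul_assoc]
      _ = _ := by rw [hc, Matrix.mul_smul, Matrix.smul_mul, hd, smul_smul]
  | inv a _ ha =>
    obtain ⟨c, hc0, hc⟩ := ha
    refine ⟨c⁻¹, inv_ne_zero hc0, ?_⟩
    have h := congrArg (fun z => ((a⁻¹ : GL (Fin t → Fin 2) F) :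
      Matrix (Fin t → Fin 2) (Fin t → Fin 2) F)ᵀ * z *
      ((a⁻¹ : GL (Fin t → Fin 2) F) : Matrix (Fin t → Fin 2) (Fin t → Fin 2) F)) hc
    simp only [mul_assoc, Units.mul_inv, mul_one] at h
    rw [← mul_assoc (((a⁻¹ : GL (Fin t → Fin 2) F) : Matrix (Fin t → Fin 2) (Fin t → Fin 2) F)ᵀ),
      ← Matrix.transpose_mul, Units.mul_inv, Matrix.transpose_one, one_mul, Matrix.smul_mul,
      Matrix.mul_smul, ← mul_assoc] at h
    conv_rhs => rw [h, smul_smul, inv_mul_cancel₀ hc0, one_smul]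

variable [Fintype F] {n q : ℕ}

theorem mem_GU_of_conj (hF : Fintype.card F = q ^ 2) {P g : GL (Fin n) F}
    (hP : P ∈ similarityGroup (hermForm n F q)) (hg : g ∈ GU n F q) : P⁻¹ * g * P ∈ GU n F q := by
  obtain ⟨c, hc⟩ := hP
  intro u v
  refine mul_left_cancel₀ c.ne_zero ?_
  rw [← hc, ← hc, Units.coeHom_apply, Matrix.mulVec_mulVec, Matrix.mulVec_mulVec, ← Units.val_mul,
    show P * (P⁻¹ * g * P) = g * P by group, Units.val_mul, ← Matrix.mulVec_mulVec,
    ← Matrix.mulVec_mulVec]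
  exact hg _ _

/-- A matrix that is a multiple of its twist is a multiple of a rational matrix. -/
theorem exists_rat_of_twist (hF : Fintype.card F = q ^ 2) {F₁ : Subfield F}
    (hmem : ∀ x : F, x ∈ F₁ ↔ x ^ q = x) {z : Matrix (Fin n) (Fin n) F} (hz : z ≠ 0) {ν : F}
    (h : z.map (qConj hF) = ν • z) :
    ∃ (μ : F) (z₀ : Matrix (Fin n) (Fin n) F), μ ≠ 0 ∧ RatMat F₁ z₀ ∧ z = μ • z₀ := by
  obtain ⟨i, j, hij⟩ := ne_zero_entry hz
  refine ⟨z i j, (z i j)⁻¹ • z, hij, fun a b => ?_, by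
    rw [smul_smul, mul_inv_cancel₀ hij, one_smul]⟩
  rw [hmem, ← qConj_apply hF, Matrix.smul_apply, smul_eq_mul, map_mul, map_inv₀]
  have e : ∀ a b, qConj hF (z a b) = ν * z a b := fun a b => congrFun (congrFun h a) b
  have hν : ν ≠ 0 := by
    rintro rfl
    exact hij ((map_eq_zero _).1 ((e i j).trans (zero_mul _)))
  rw [e, e]
  field_simp

theorem member_of_twoTensor (hF : Fintype.card F = q ^ 2) (hn : 2 ≤ n) {t : ℕ} (ht : 0 < t)
    (e : Fin n ≃ (Fin t → Fin 2)) {P : GL (Fin n) F}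
    (hP : P ∈ similarityGroup (hermForm n F q)) {H : Subgroup (GL (Fin n) F)} (hH : H ≤ GU n F q)
    (hle : H ≤ tensorWreathSubgroup 2 t e P) :
    ∃ M : Subgroup (GL (Fin n) F), UClass n q M ∧ H ≤ M := by
  classical
  set σ := qConj hF
  set R := Matrix.reindexAlgEquiv F F e.symm
  set J : Matrix (Fin n) (Fin n) F := R (altPow t) with hJ
  have hJJ : J * J = (-1 : F) ^ t • 1 := by rw [hJ, ← map_mul, altPow_sq, map_smul, map_one]
  have hJt : Jᵀ = (-1 : F) ^ t • J := by
    rw [hJ, ← map_smul, ← altPow_transpose]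
    ext i j
    simp [R]
  have hJσ : J.map σ = J := by
    ext i j
    simpa [hJ, R] using congrFun (congrFun (altPow_map σ t) (e i)) (e j)
  obtain ⟨Ju, hJu⟩ : IsUnit J := by
    refine ⟨⟨J, (-1 : F) ^ t • J, ?_, ?_⟩, rfl⟩ <;>
      simp [Matrix.mul_smul, Matrix.smul_mul, hJJ, smul_smul, ← mul_pow]
  let sg : GL (Fin n) F →* GL (Fin n) F := GeneralLinearGroup.map (σ : F →+* F)
  have hsgJ : sg Ju = Ju := Units.ext (by
    show (Ju : Matrix (Fin n) (Fin n) F).map σ = _
    rw [hJu, hJσ])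
  obtain ⟨h, c, hc⟩ := exists_descent_scalar (by omega) σ Ju⁻¹ (by
    rw [orderOf_qConj hF, normProd_succ, normProd_succ, normProd_zero, map_one, mul_one]
    change Ju⁻¹ * sg Ju⁻¹ ∈ _
    rw [map_inv, hsgJ, ← _root_.mul_inv_rev]
    refine inv_mem ?_
    rw [GeneralLinearGroup.center_eq_range_scalar]
    refine ⟨(-1 : Fˣ) ^ t, Units.ext ?_⟩
    rw [Units.val_mul, hJu, hJJ]
    show Matrix.scalar (Fin n) _ = _
    simp [Matrix.smul_one_eq_diagonal])
  have hsh : (h : Matrix (Fin n) (Fin n) F).map σ =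
      (c : F) • (J * (h : Matrix (Fin n) (Fin n) F)) := by
    have h1 : (sg h : GL (Fin n) F) = Ju * (GeneralLinearGroup.scalar (Fin n) c * h) := by
      rw [← hc]; exact (mul_inv_cancel_left Ju _).symm
    have h2 := congrArg Units.val h1
    rw [Units.val_mul, Units.val_mul, hJu] at h2
    refine h2.trans ?_
    rw [show ((GeneralLinearGroup.scalar (Fin n) c : GL (Fin n) F) : Matrix (Fin n) (Fin n) F) =
      (c : F) • 1 from (Matrix.smul_one_eq_diagonal (c : F)).symm, Matrix.smul_mul, one_mul,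
      Matrix.mul_smul]
  obtain ⟨F₁, hF₁, hmem⟩ := exists_subfield_card (one_lt_q hF) hF
  have : Nonempty (Fin n) := ⟨⟨0, by omega⟩⟩
  have hcard : Fintype.card F = Nat.card F₁ ^ 2 := by rw [hF₁, hF]
  have hHB : H ≤ subfieldSubgroup F₁ (P * h) := by
    intro g hg
    obtain ⟨_, ⟨k, hk, rfl⟩, hgk⟩ := hle hg
    set g' : GL (Fin n) F := P⁻¹ * g * P with hg'
    have hg'k : (g' : Matrix (Fin n) (Fin n) F) =
        R (k : Matrix (Fin t → Fin 2) (Fin t → Fin 2) F) := by
      rw [hg', ← hgk]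
      simp [MulAut.conj_apply, mul_assoc]
      rfl
    have hgU : (g' : Matrix (Fin n) (Fin n) F)ᵀ * (g' : Matrix (Fin n) (Fin n) F).map σ = 1 := by
      have h1 := gramU_of_similitude hF (g := g') (c := 1) (fun u v => by
        rw [one_mul]; exact mem_GU_of_conj hF hP (hH hg) u v)
      rwa [one_smul] at h1
    obtain ⟨l, hl0, hl⟩ := altPow_similitude hk
    have hgJ : (g' : Matrix (Fin n) (Fin n) F)ᵀ * J * (g' : Matrix (Fin n) (Fin n) F) = l • J := by
      rw [hg'k, hJ, ← map_smul, ← hl, map_mul, map_mul]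
      congr 2
    have hu : IsUnit (g' : Matrix (Fin n) (Fin n) F)ᵀ := by
      rw [Matrix.isUnit_iff_isUnit_det, Matrix.det_transpose, ← Matrix.isUnit_iff_isUnit_det]
      exact g'.isUnit
    have hσg : (g' : Matrix (Fin n) (Fin n) F).map σ * J =
        l⁻¹ • (J * (g' : Matrix (Fin n) (Fin n) F)) := by
      refine hu.mul_left_cancel ?_
      rw [← mul_assoc, hgU, one_mul, Matrix.mul_smul, ← mul_assoc, hgJ, smul_smul,
        inv_mul_cancel₀ hl0, one_smul]
    set z : GL (Fin n) F := h⁻¹ * g' * h with hz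
    have hhz : (h : Matrix (Fin n) (Fin n) F) * (z : Matrix (Fin n) (Fin n) F) =
        (g' : Matrix (Fin n) (Fin n) F) * (h : Matrix (Fin n) (Fin n) F) := by
      simp [hz, mul_assoc]
    have hσz : (z : Matrix (Fin n) (Fin n) F).map σ = l⁻¹ • (z : Matrix (Fin n) (Fin n) F) := by
      have h1 := congrArg (fun A : Matrix (Fin n) (Fin n) F => A.map σ) hhz
      simp only [Matrix.map_mul, hsh, Matrix.smul_mul, Matrix.mul_smul, ← mul_assoc, hσg] at h1
      have h2 := smul_right_injective _ c.ne_zero h1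
      refine ((hJu ▸ Ju.isUnit : IsUnit J).mul h.isUnit).mul_left_cancel ?_
      rw [h2, Matrix.mul_smul, mul_assoc, mul_assoc, ← hhz]
    obtain ⟨μ, z₀, hμ, hz₀, hzz⟩ := exists_rat_of_twist hF hmem z.ne_zero hσz
    have hz₀u : IsUnit (Matrix.of fun i j => (⟨z₀ i j, hz₀ i j⟩ : F₁) : Matrix (Fin n) (Fin n) F₁) := by
      rw [Matrix.isUnit_iff_isUnit_det, isUnit_iff_ne_zero]
      intro h0
      have hd := congrArg (F₁.subtype) h0
      rw [RingHom.map_det, map_zero] at hd
      have hdz := (Matrix.isUnit_iff_isUnit_det _).1 z.isUnit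
      rw [hzz, Matrix.det_smul, show z₀.det = 0 from hd, mul_zero] at hdz
      exact not_isUnit_zero hdz
    let sc : GL (Fin n) F := GeneralLinearGroup.scalar (Fin n) (Units.mk0 μ hμ)
    refine ⟨GeneralLinearGroup.map (F₁.subtype : F₁ →+* F) hz₀u.unit * sc,
      Subgroup.mul_mem_sup ⟨_, rfl⟩ ⟨Units.mk0 μ hμ, rfl⟩, ?_⟩
    have hzeq : GeneralLinearGroup.map (F₁.subtype : F₁ →+* F) hz₀u.unit * sc = z := by
      refine Units.ext (Matrix.ext fun i j => ?_)
      rw [Units.val_mul, show ((sc : GL (Fin n) F) : Matrix (Fin n) (Fin n) F) = μ • 1 from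
        (Matrix.smul_one_eq_diagonal μ).symm, Matrix.mul_smul, mul_one, hzz]
      rfl
    rw [hzeq, hz, hg']
    simp [MulAut.conj_apply, mul_assoc]
  obtain ⟨cP, hcP⟩ := hP
  set D : Matrix (Fin n) (Fin n) F :=
    (h : Matrix (Fin n) (Fin n) F)ᵀ * J * (h : Matrix (Fin n) (Fin n) F) with hD
  have hσD : D.map σ = ((c : F) * (c : F)) • D := by
    rw [hD, Matrix.map_mul, Matrix.map_mul, Matrix.transpose_map, hsh, hJσ, Matrix.transpose_smul,
      Matrix.transpose_mul, hJt]
    simp only [Matrix.smul_mul, Matrix.mul_smul, smul_smul, mul_assoc]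
    rw [← mul_assoc J J, hJJ, Matrix.smul_mul, one_mul, Matrix.mul_smul, smul_smul]
    congr 1
    have hsq : (-1 : F) ^ t * (-1 : F) ^ t = 1 := by rw [← mul_pow]; simp
    linear_combination ((c : F) * (c : F)) * hsq
  have hD0 : D ≠ 0 := by
    refine IsUnit.ne_zero (M₀ := Matrix (Fin n) (Fin n) F) ?_
    rw [hD]
    refine (IsUnit.mul ?_ (hJu ▸ Ju.isUnit)).mul h.isUnit
    rw [Matrix.isUnit_iff_isUnit_det, Matrix.det_transpose, ← Matrix.isUnit_iff_isUnit_det]
    exact h.isUnit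
  have : Nonempty (Fin n) := ⟨⟨0, by omega⟩⟩
  obtain ⟨μ, D₀, hμ, hD₀, hDD⟩ := exists_rat_of_twist hF hmem hD0 hσD
  refine member_of_rational_gram hF hn Nat.prime_two hcard (B := P * h)
    (γ := (cP : F) * (c : F) * μ) (C₀ := D₀) (mul_ne_zero (mul_ne_zero cP.ne_zero c.ne_zero) hμ)
    hD₀ ?_ ?_ hHB hH
  · have hgP : gramU hF (P : Matrix (Fin n) (Fin n) F) = (cP : F) • 1 := gramU_of_similitude hF hcP
    calc gramU hF ((P * h : GL (Fin n) F) : Matrix (Fin n) (Fin n) F)
        = (h : Matrix (Fin n) (Fin n) F)ᵀ * gramU hF (P : Matrix (Fin n) (Fin n) F) *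
            (h : Matrix (Fin n) (Fin n) F).map σ := by
          rw [gramU, gramU, Units.val_mul, Matrix.transpose_mul, Matrix.map_mul]
          simp only [mul_assoc]
          rfl
      _ = ((cP : F) * (c : F)) • D := by
          rw [hgP, hsh, hD]
          simp only [Matrix.mul_smul, Matrix.smul_mul, mul_one, smul_smul, mul_assoc]
          rw [mul_comm]
      _ = _ := by rw [hDD, smul_smul]
  · intro _ h2 _ u
    have hε : (-1 : F) ^ t = 1 := by
      rw [neg_eq_of_add_eq_zero_left (show (1 : F) + 1 = 0 by rw [one_add_one_eq_two, h2]), one_pow]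
    have hsym : ∀ a b : Fin n → F, a ⬝ᵥ (J *ᵥ b) = b ⬝ᵥ (J *ᵥ a) := fun a b => by
      rw [Matrix.dotProduct_mulVec, dotProduct_comm, ← Matrix.mulVec_transpose, hJt, hε, one_smul]
    let Qd : (Fin n → F) →+ F := AddMonoidHom.mk' (fun w => w ⬝ᵥ (J *ᵥ w)) fun a b => by
      simp only [Matrix.mulVec_add, dotProduct_add, add_dotProduct, hsym a b]
      linear_combination (b ⬝ᵥ (J *ᵥ a)) * h2
    have hQ : ∀ w, w ⬝ᵥ (J *ᵥ w) = 0 := fun w => by
      show Qd w = 0
      conv_lhs => rw [← Finset.univ_sum_single w]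
      rw [map_sum]
      refine Finset.sum_eq_zero fun a _ => ?_
      show Pi.single a (w a) ⬝ᵥ (J *ᵥ Pi.single a (w a)) = 0
      simp [Matrix.mulVec_single, single_dotProduct, hJ, R, altPow_diag ht]
    have h3 : μ * (u ⬝ᵥ (D₀ *ᵥ u)) = 0 := by
      rw [← smul_eq_mul, ← dotProduct_smul, ← Matrix.smul_mulVec, ← hDD, hD, ← Matrix.mulVec_mulVec,
        ← Matrix.mulVec_mulVec, Matrix.dotProduct_mulVec u, Matrix.vecMul_transpose]
      exact hQ _
    exact (mul_eq_zero.1 h3).resolve_left hμ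

end CfsgLib.AschU
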