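import Cfsg.Agent.Lib.AschU.HeisThree
import Cfsg.Agent.Lib.AschU.TwoTensor
import Cfsg.Agent.Lib.AschU.SympType

/-!
A unitary group over four elements stabilising a tensor power of three-dimensional spaces normalises
the extraspecial group of exponent three: class six.
-/

set_option autoImplicit false

namespace CfsgLib.AschU

open Cfsg Cfsg.Geo CfsgLib.MaxSub CfsgLib.Aschbacher Matrix Heis3 Fin.CommRing
open scoped MatrixGroups

section Mon

variable {F : Type*} [Field F] {ω : F} {t : ℕ}

/-- The monomial matrix as an invertible matrix. -/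
noncomputable def monU (hω : ω ^ 2 + ω + 1 = 0) (v : V t) : GL (Fin t → Fin 3) F :=
  ⟨mon ω v, mon ω (vinv v), by rw [mon_mul hω, vmul_vinv, mon_one],
    by rw [mon_mul hω, vinv_vmul, mon_one]⟩

theorem monU_mul (hω : ω ^ 2 + ω + 1 = 0) (u v : V t) :
    monU hω u * monU hω v = monU hω (vmul u v) := Units.ext (mon_mul hω u v)

theorem permMat_mul_mon (π : Equiv.Perm (Fin t)) (v : V t) :
    permMat π * mon ω v = mon ω (v.1, v.2.1 ∘ π.symm, v.2.2 ∘ π.symm) *
      (permMat π : Matrix (Fin t → Fin 3) (Fin t → Fin 3) F) := by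
  ext p q
  rw [permMat_mul_apply, mul_permMat_apply]
  simp only [mon, Matrix.of_apply]
  refine if_congr ⟨fun h => funext fun j => ?_, fun h => funext fun j => ?_⟩ ?_ rfl
  · simpa using congrFun h (π.symm j)
  · simpa using congrFun h (π j)
  · congr 2
    exact (Equiv.sum_comp π.symm fun j => v.2.2 j * q j).symm

theorem pureMat_mon1 (hω : ω ^ 2 + ω + 1 = 0) (x a b : Fin t → Fin 3) :
    pureMat (fun j => mon1 ω (x j) (a j) (b j)) = mon ω (∑ j, x j, a, b) :=
  pureMat_mon hω x a b

theorem pureMat_mul_mon (hω : ω ^ 2 + ω + 1 = 0) {gs : Fin t → Matrix (Fin 3) (Fin 3) F}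
    (hgs : ∀ j, Moves ω (gs j)) (ht : 0 < t) (v : V t) :
    ∃ v', pureMat gs * mon ω v = mon ω v' * pureMat gs := by
  let i₀ : Fin t := ⟨0, ht⟩
  let x : Fin t → Fin 3 := fun j => if j = i₀ then v.1 else 0
  choose c a b hj using fun j => hgs j (x j) (v.2.1 j) (v.2.2 j)
  refine ⟨(∑ j, c j, a, b), ?_⟩
  have hv : v = (∑ j, x j, v.2.1, v.2.2) := by
    refine Prod.ext ?_ rfl
    simp [x]
  rw [hv, ← pureMat_mon1 hω, ← pureMat_mon1 hω, pureMat_mul, pureMat_mul]
  exact congrArg pureMat (funext hj)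

theorem sum_w (hω : ω ^ 2 + ω + 1 = 0) (d : Fin 3) :
    ∑ x : Fin 3, w ω (x * d) = if d = 0 then 3 else 0 := by
  rw [Fin.sum_univ_three]
  rcases fin3_cases d with rfl | rfl | rfl
  · simp [w_zero]; norm_num
  · simp only [zero_mul, one_mul, mul_one]
    rw [if_neg (by decide), w_zero]
    simp only [w]
    norm_num
    linear_combination hω
  · rw [if_neg (by decide), show (0 : Fin 3) * 2 = 0 by decide, show (1 : Fin 3) * 2 = 2 by decide,
      show (2 : Fin 3) * 2 = 1 by decide, w_zero]
    simp only [w]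
    norm_num
    linear_combination hω

theorem single_mem_adjoin (hω : ω ^ 2 + ω + 1 = 0) (h2 : (2 : F) = 0)
    (A : Subalgebra F (Matrix (Fin t → Fin 3) (Fin t → Fin 3) F)) (hA : ∀ v, mon ω v ∈ A)
    (p q : Fin t → Fin 3) : Matrix.single p q (1 : F) ∈ A := by
  classical
  have h : Matrix.single p q (1 : F) = ∑ b : Fin t → Fin 3,
      w ω (-∑ j, b j * q j) • mon ω ((0, p - q, b) : V t) := by
    ext r s
    rw [Matrix.sum_apply]
    simp only [Matrix.smul_apply, smul_eq_mul, mon, Matrix.of_apply, mul_ite, mul_zero, zero_add]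
    by_cases hr : r = s + (p - q)
    · simp only [if_pos hr, ← w_add hω]
      simp only [← Finset.sum_neg_distrib, ← Finset.sum_add_distrib]
      simp only [w_sum hω]
      rw [← Fintype.prod_sum (fun j x => w ω (-(x * q j) + x * s j))]
      have e : ∀ j, ∑ x : Fin 3, w ω (-(x * q j) + x * s j) = if s j = q j then 1 else 0 := by
        intro j
        have : ∀ x : Fin 3, -(x * q j) + x * s j = x * (s j - q j) := fun x => by ring
        simp only [this, sum_w hω, sub_eq_zero]
        split
        · linear_combination h2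
        · rfl
      simp only [e, Matrix.single_apply]
      by_cases hs : s = q
      · subst hs
        rw [add_sub_cancel] at hr
        simp [hr]
      · obtain ⟨j, hj⟩ := Function.ne_iff.1 hs
        rw [if_neg (fun h => hs h.2.symm), Finset.prod_eq_zero (Finset.mem_univ j) (if_neg hj)]
    · simp only [if_neg hr, Finset.sum_const_zero, Matrix.single_apply]
      exact if_neg fun h => hr (by rw [← h.1, ← h.2, add_sub_cancel])
  rw [h]
  exact sum_mem fun b _ => Subalgebra.smul_mem _ (hA _) _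

theorem exists_perm_pure {k : GL (Fin t → Fin 3) F} (hk : k ∈ tensorWreathStandard 3 t F) :
    ∃ (π : Equiv.Perm (Fin t)) (gs : Fin t → GL (Fin 3) F),
      (k : Matrix (Fin t → Fin 3) (Fin t → Fin 3) F) =
        permMat π * pureMat fun j => (gs j : Matrix (Fin 3) (Fin 3) F) := by
  have hperm1 : (permMat 1 : Matrix (Fin t → Fin 3) (Fin t → Fin 3) F) = 1 := by
    ext p q; simp [permMat, Matrix.one_apply, eq_comm]
  have hpermMul : ∀ π ρ : Equiv.Perm (Fin t),
      (permMat π : Matrix (Fin t → Fin 3) (Fin t → Fin 3) F) * permMat ρ = permMat (π * ρ) := by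
    intro π ρ
    ext p q
    rw [permMat_mul_apply]
    rfl
  induction hk using Subgroup.closure_induction with
  | mem g hg =>
    rcases hg with ⟨gs, hgs⟩ | ⟨π, hπ⟩
    · exact ⟨1, gs, by rw [hperm1, one_mul]; exact Matrix.ext hgs⟩
    · refine ⟨π, fun _ => 1, ?_⟩
      rw [show (fun _ : Fin t => ((1 : GL (Fin 3) F) : Matrix (Fin 3) (Fin 3) F)) = fun _ => 1 from rfl,
        pureMat_one, mul_one]
      exact Matrix.ext hπ
  | one => exact ⟨1, fun _ => 1, by
      rw [hperm1, one_mul, show (fun _ : Fin t => ((1 : GL (Fin 3) F) : Matrix (Fin 3) (Fin 3) F)) =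
        fun _ => 1 from rfl, pureMat_one]; rfl⟩
  | mul a b _ _ ha hb =>
    obtain ⟨π, g, hg⟩ := ha
    obtain ⟨ρ, h, hh⟩ := hb
    refine ⟨π * ρ, fun j => g (ρ j) * h j, ?_⟩
    rw [Units.val_mul, hg, hh, ← hpermMul, mul_assoc, mul_assoc]
    congr 1
    rw [← mul_assoc]
    have e := pureMat_mul_permMat ρ (fun j => (g (ρ j) : Matrix (Fin 3) (Fin 3) F))
    simp only [Equiv.apply_symm_apply] at e
    rw [e, mul_assoc, pureMat_mul]
    rfl
  | inv a _ ha =>
    obtain ⟨π, g, hg⟩ := ha
    refine ⟨π⁻¹, fun j => (g (π⁻¹ j))⁻¹, ?_⟩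
    refine Units.inv_eq_of_mul_eq_one_right ?_
    rw [hg]
    have e := pureMat_mul_permMat π⁻¹ (fun j => ((g (π⁻¹ j))⁻¹ : GL (Fin 3) F).1)
    rw [← e, mul_assoc, ← mul_assoc (pureMat _) (pureMat _), pureMat_mul,
      show (fun j => (g j : Matrix (Fin 3) (Fin 3) F) *
        ((g (π⁻¹ (π⁻¹.symm j)))⁻¹ : GL (Fin 3) F).1) = fun _ => 1 from funext fun j => by simp,
      pureMat_one, one_mul, hpermMul, mul_inv_cancel, hperm1]

end Mon

variable {F : Type*} [Field F] [Fintype F] {n q : ℕ}

theorem member_of_threeTwo (hF : Fintype.card F = q ^ 2) (hq : q = 2) (hn : 2 ≤ n) {t : ℕ}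
    (ht : 0 < t) (e : Fin n ≃ (Fin t → Fin 3)) {P : GL (Fin n) F}
    (hP : P ∈ similarityGroup (hermForm n F q)) {H : Subgroup (GL (Fin n) F)} (hH : H ≤ GU n F q)
    (hle : H ≤ tensorWreathSubgroup 3 t e P) :
    ∃ M : Subgroup (GL (Fin n) F), UClass n q M ∧ H ≤ M := by
  classical
  subst hq
  have hn3 : n = 3 ^ t := by simpa using Fintype.card_congr e
  have h4 : Fintype.card F = 4 := by rw [hF]; norm_num
  obtain ⟨p, hp⟩ := CharP.exists F
  have hpp : Fact p.Prime := ⟨CharP.char_is_prime F p⟩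
  obtain rfl : p = 2 := by
    obtain ⟨a, -, ha⟩ := FiniteField.card F p
    refine (Nat.prime_dvd_prime_iff_eq hpp.out Nat.prime_two).1 (hpp.out.dvd_of_dvd_pow (n := 2) ?_)
    rw [show 2 ^ 2 = p ^ (a : ℕ) by rw [← ha, h4]; norm_num]
    exact dvd_pow_self _ a.pos.ne'
  have h2 : (2 : F) = 0 := CharP.cast_eq_zero F 2
  obtain ⟨ω, hω⟩ : ∃ ω : F, ω ^ 2 + ω + 1 = 0 := by
    obtain ⟨x, hx0, hx1⟩ : ∃ x : F, x ≠ 0 ∧ x ≠ 1 := by
      obtain ⟨x, -, hx⟩ := Finset.exists_mem_notMem_of_card_lt_card
        (s := ({0, 1} : Finset F)) (t := Finset.univ)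
        (Finset.card_le_two.trans_lt (by rw [Finset.card_univ, h4]; norm_num))
      exact ⟨x, fun h => hx (by simp [h]), fun h => hx (by simp [h])⟩
    have h3 : x ^ 3 = 1 := by
      have := FiniteField.pow_card_sub_one_eq_one x hx0
      rwa [h4] at this
    exact ⟨x, (mul_eq_zero.1 (show (x - 1) * (x ^ 2 + x + 1) = 0 by linear_combination h3)).resolve_left
      (sub_ne_zero.2 hx1)⟩
  have : Nonempty (Fin n) := ⟨⟨0, by omega⟩⟩
  -- the group
  let toG : GL (Fin t → Fin 3) F →* GL (Fin n) F :=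
    (MulAut.conj P).toMonoidHom.comp (glReindex e.symm).toMonoidHom
  let ρ : V t → GL (Fin n) F := fun v => toG (monU hω v)
  have hρmul : ∀ u v, ρ u * ρ v = ρ (vmul u v) := fun u v => by
    simp only [ρ, ← map_mul, monU_mul]
  have hρone : ρ vone = 1 := by
    simp only [ρ]
    rw [show monU hω (vone : V t) = 1 from Units.ext mon_one, map_one]
  have htoG : Function.Injective toG := fun a b h =>
    (glReindex e.symm).injective ((MulAut.conj P).injective h)
  have hρinj : Function.Injective ρ := fun u v h =>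
    mon_injective hω h2 (congrArg Units.val (htoG h))
  let R : Subgroup (GL (Fin n) F) :=
    { carrier := Set.range ρ
      one_mem' := ⟨vone, hρone⟩
      mul_mem' := by rintro _ _ ⟨u, rfl⟩ ⟨v, rfl⟩; exact ⟨vmul u v, (hρmul u v).symm⟩
      inv_mem' := by
        rintro _ ⟨v, rfl⟩
        exact ⟨vinv v, eq_inv_of_mul_eq_one_left (by rw [hρmul, vinv_vmul, hρone])⟩ }
  let eR : V t ≃ R := Equiv.ofBijective (fun v => ⟨ρ v, v, rfl⟩)
    ⟨fun u v h => hρinj (congrArg Subtype.val h), fun x => by
      obtain ⟨v, hv⟩ := x.2; exact ⟨v, Subtype.ext hv⟩⟩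
  have heR : ∀ u v, eR u * eR v = eR (vmul u v) := fun u v => Subtype.ext (hρmul u v)
  have heR1 : eR vone = 1 := Subtype.ext hρone
  have hcardR : Nat.card R = 3 ^ (1 + 2 * t) := by
    rw [← Nat.card_congr eR]
    simp only [V, Nat.card_eq_fintype_card, Fintype.card_prod, Fintype.card_fin, Fintype.card_fun]
    rw [two_mul, pow_add, pow_add, pow_one]
  have hZ : ∀ v, eR v ∈ Subgroup.center R ↔ v.2.1 = 0 ∧ v.2.2 = 0 := by
    intro v
    rw [Subgroup.mem_center_iff]
    constructor
    · refine fun h => central_of_commute v fun u => eR.injective ?_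
      rw [← heR, ← heR, h]
    · rintro ⟨ha, hb⟩ x
      obtain ⟨u, rfl⟩ := eR.surjective x
      rw [heR, heR]
      congr 1
      simp [vmul, ha, hb, add_comm]
  have hcardZ : Nat.card (Subgroup.center R) = 3 := by
    let f : Fin 3 → Subgroup.center R := fun c => ⟨eR (c, 0, 0), (hZ _).2 ⟨rfl, rfl⟩⟩
    have hf : Function.Bijective f := by
      refine ⟨fun a b h => ?_, fun x => ?_⟩
      · exact congrArg Prod.fst (eR.injective (congrArg Subtype.val h) : ((a, 0, 0) : V t) = (b, 0, 0))
      · obtain ⟨⟨c, a, b⟩, hv⟩ := eR.surjective x.1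
        obtain ⟨ha, hb⟩ := (hZ _).1 (hv.symm ▸ x.2)
        simp only at ha hb
        subst ha hb
        exact ⟨c, Subtype.ext hv⟩
    rw [← Nat.card_congr (Equiv.ofBijective f hf), Nat.card_eq_fintype_card, Fintype.card_fin]
  have h3p : Fact (Nat.Prime 3) := ⟨Nat.prime_three⟩
  have hst : IsSymplecticTypeGroup 3 R := by
    refine ⟨Nat.prime_three, IsPGroup.of_card hcardR, fun A hA hAc => ?_, ?_⟩
    · have hAZ : A ≤ Subgroup.center R := by
        intro x hx
        obtain ⟨v, rfl⟩ := eR.surjective x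
        refine (hZ v).2 (central_of_rot v fun j => eR.injective ?_)
        let φ : R ≃* R := MulEquiv.ofBijective
          (MonoidHom.mk' (fun y => eR (rot j (eR.symm y))) fun y z => by
            obtain ⟨a, rfl⟩ := eR.surjective y
            obtain ⟨b, rfl⟩ := eR.surjective z
            simp only [heR, Equiv.symm_apply_apply, rot_vmul])
          (eR.bijective.comp ((Finite.injective_iff_bijective.1 (rot_injective j)).comp eR.symm.bijective))
        have hmem : eR (rot j v) ∈ A := by
          have h1 := Subgroup.characteristic_iff_map_eq.1 hA φ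
          have h2 : φ (eR v) ∈ A := by rw [← h1]; exact ⟨eR v, hx, rfl⟩
          change eR (rot j (eR.symm (eR v))) ∈ A at h2
          rwa [Equiv.symm_apply_apply] at h2
        rw [← heR, ← heR]
        exact congrArg Subtype.val (hAc.is_comm.comm ⟨eR v, hx⟩ ⟨_, hmem⟩)
      have : IsCyclic (Subgroup.center R) := isCyclic_of_prime_card hcardZ
      exact isCyclic_of_injective (Subgroup.inclusion hAZ) (Subgroup.inclusion_injective hAZ)
    · rw [show Nat.gcd 2 3 = 1 by decide, mul_one]
      have hdvd : Monoid.exponent R ∣ 3 := Monoid.exponent_dvd_of_forall_pow_eq_one fun x => by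
        obtain ⟨v, rfl⟩ := eR.surjective x
        rw [pow_succ', sq, heR, heR, vmul_cube, heR1]
      rcases (Nat.dvd_prime Nat.prime_three).1 hdvd with h | h
      · exfalso
        have h1 := Monoid.pow_exponent_eq_one (eR ((1, 0, 0) : V t))
        rw [h, pow_one, ← heR1] at h1
        have h' := congrArg Prod.fst (eR.injective h1)
        simp [vone] at h'
      · exact h
  have hsim : R ≤ similarityGroup (hermForm n F 2) := by
    rintro _ ⟨v, rfl⟩
    have hQ : (glReindex e.symm (monU hω v) : GL (Fin n) F) ∈ similarityGroup (hermForm n F 2) := by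
      refine mem_similarityGroup_of_adjM hF (by omega) (ν := 1) ?_
      rw [one_smul]
      show adjG (qConj hF) (Matrix.reindexAlgEquiv F F e.symm (mon ω v)) *
        Matrix.reindexAlgEquiv F F e.symm (mon ω v) = 1
      rw [adjG_reindex, ← map_mul]
      suffices adjG (qConj hF) (mon ω v) * mon ω v = 1 by rw [this, map_one]
      ext r s
      rw [Matrix.mul_apply, Finset.sum_eq_single (s + v.2.1) (fun x _ hx => by simp [mon, hx]) (by simp)]
      simp only [adjG, Matrix.transpose_apply, Matrix.map_apply, mon, Matrix.of_apply, if_true]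
      by_cases h : r = s
      · subst h
        rw [if_pos rfl, Matrix.one_apply_eq, qConj_apply, ← pow_succ]
        simp only [w, ← pow_mul]
        rw [mul_comm, pow_mul, show ω ^ (2 + 1) = 1 from cube_eq_one hω, one_pow]
      · rw [if_neg (fun h' => h (add_right_cancel h').symm), map_zero, zero_mul,
          Matrix.one_apply_ne h]
    exact mul_mem (mul_mem hP hQ) (inv_mem hP)
  have halg : alg R = ⊤ := by
    let Φ : Matrix (Fin t → Fin 3) (Fin t → Fin 3) F →ₐ[F] Matrix (Fin n) (Fin n) F :=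
      (cj P).toAlgHom.comp (Matrix.reindexAlgEquiv F F e.symm).toAlgHom
    have hall : ∀ p q, Matrix.single p q (1 : F) ∈ (alg R).comap Φ :=
      single_mem_adjoin hω h2 _ fun v => Algebra.subset_adjoin ⟨ρ v, ⟨v, rfl⟩, rfl⟩
    refine eq_top_iff.2 fun z _ => ?_
    obtain ⟨y, rfl⟩ : ∃ y, Φ y = z := ((Matrix.reindexAlgEquiv F F e.symm).trans (cj P)).surjective z
    show y ∈ (alg R).comap Φ
    rw [Matrix.matrix_eq_sum_single y]
    refine sum_mem fun a _ => sum_mem fun b _ => ?_
    rw [← mul_one (y a b), ← smul_eq_mul, ← Matrix.smul_single]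
    exact Subalgebra.smul_mem _ (hall a b) _
  have hnorm : Normalized H R := by
    intro g hg _ ⟨v, hv⟩
    subst hv
    obtain ⟨_, ⟨k, hk, rfl⟩, hgk⟩ := hle hg
    have hgU : adjM hF (Matrix.reindexAlgEquiv F F e.symm (k : Matrix (Fin t → Fin 3) (Fin t → Fin 3) F)) *
        Matrix.reindexAlgEquiv F F e.symm (k : Matrix (Fin t → Fin 3) (Fin t → Fin 3) F) = 1 := by
      have h1 : P⁻¹ * g * P ∈ GU n F 2 := mem_GU_of_conj hF hP (hH hg)
      have h2 : ((P⁻¹ * g * P : GL (Fin n) F) : Matrix (Fin n) (Fin n) F) =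
          Matrix.reindexAlgEquiv F F e.symm (k : Matrix (Fin t → Fin 3) (Fin t → Fin 3) F) := by
        rw [← hgk]; simp [MulAut.conj_apply, mul_assoc]; rfl
      rw [← h2, adjM_of_mem_GU hF h1, ← Units.val_mul, inv_mul_cancel, Units.val_one]
    obtain ⟨π, gs, hgs⟩ := exists_perm_pure hk
    have hkU : adjG (qConj hF) (k : Matrix (Fin t → Fin 3) (Fin t → Fin 3) F) * (k : Matrix (Fin t → Fin 3) (Fin t → Fin 3) F) = 1 := by
      refine (Matrix.reindexAlgEquiv F F e.symm).injective ?_
      rw [map_mul, map_one, ← adjG_reindex]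
      exact hgU
    have hpadj : adjG (qConj hF) (permMat π : Matrix (Fin t → Fin 3) (Fin t → Fin 3) F) *
        permMat π = 1 := by
      have e1 : adjG (qConj hF) (permMat π : Matrix (Fin t → Fin 3) (Fin t → Fin 3) F) =
          permMat π.symm := by
        ext p q
        simp only [adjG, permMat, Matrix.transpose_apply, Matrix.map_apply, Matrix.of_apply]
        rw [apply_ite (qConj hF), map_one, map_zero]
        refine if_congr ⟨fun h => ?_, fun h => ?_⟩ rfl rfl <;> · rw [h]; funext j; simp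
      rw [e1]
      simpa using permMat_mul_inv (F := F) (κ := Fin 3) π.symm
    rw [hgs, adjG_mul, mul_assoc, ← mul_assoc (adjG _ (permMat π)), hpadj, one_mul, adjG_pureMat,
      pureMat_mul] at hkU
    have hmoves : ∀ j, Moves ω (gs j : Matrix (Fin 3) (Fin 3) F) := by
      intro j
      obtain ⟨c, hc⟩ := smul_of_pureMat_eq (a := fun _ : Fin t => (1 : Matrix (Fin 3) (Fin 3) F))
        (fun _ => one_ne_zero) (pureMat_one.trans hkU.symm) j
      have hc1 : c = 1 := by
        have hσc : qConj hF c = c := by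
          have h := congrArg (adjG (qConj hF)) hc
          rw [adjG_mul, adjG_adjG (qConj_qConj hF), adjG_smul, adjG_one, hc] at h
          simpa using (congrFun (congrFun h 0) 0).symm
        have hc0 : c ≠ 0 := by
          rintro rfl
          rw [zero_smul] at hc
          exact ((isUnit_adjG (qConj hF) (gs j).isUnit).mul (gs j).isUnit).ne_zero hc
        rw [qConj_apply, sq] at hσc
        exact mul_right_cancel₀ hc0 (hσc.trans (one_mul c).symm)
      rw [hc1, one_smul] at hc
      refine moves_unitary h4 hω h2 fun i l => ?_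
      have hc' : (gs j : Matrix (Fin 3) (Fin 3) F) * adjG (qConj hF) (gs j : Matrix (Fin 3) (Fin 3) F) = 1 :=
        mul_eq_one_comm.1 hc
      have h := congrFun (congrFun hc' i) l
      simpa [Matrix.mul_apply, adjG, qConj_apply, Matrix.one_apply] using h
    obtain ⟨v', hv'⟩ := pureMat_mul_mon hω hmoves ht v
    refine ⟨(v'.1, v'.2.1 ∘ π.symm, v'.2.2 ∘ π.symm), ?_⟩
    rw [← hgk]
    show toG (monU hω _) = toG k * toG (monU hω v) * (toG k)⁻¹
    rw [eq_mul_inv_iff_mul_eq, ← map_mul, ← map_mul]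
    congr 1
    refine Units.ext ?_
    show mon ω _ * (k : Matrix (Fin t → Fin 3) (Fin t → Fin 3) F) = (k : Matrix (Fin t → Fin 3) (Fin t → Fin 3) F) * mon ω v
    rw [hgs, ← mul_assoc, ← permMat_mul_mon, mul_assoc, mul_assoc, hv']
  refine ⟨subgroupNormalizer R ⊓ GU n F 2, Or.inl (Or.inr (Or.inr (Or.inr (Or.inr (Or.inr
    (Or.inr (Or.inr ⟨3, R, 2, 2, t, hst, absIrred_of_alg_top halg, hsim, by decide,
      ⟨Nat.prime_two, hp, by rw [h4]; norm_num, by rw [hcardZ]; norm_num,
        fun d hd hd2 => by obtain rfl : d = 1 := (by omega); rw [hcardZ]; norm_num⟩,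
      Or.inl ⟨by decide, hcardZ, ht, hcardR⟩, hn3, rfl⟩))))))),
    le_inf (le_subgroupNormalizer hnorm) hH⟩

end CfsgLib.AschU
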