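import Cfsg.Agent.Lib.AschU.SUGroup
import Cfsg.Agent.Lib.AschU.ThreeTwo
import Cfsg.Agent.Lib.MaxSub.Rational
import Cfsg.Agent.Lib.MaxSub.UFrameBlocks
import Cfsg.Agent.Lib.MaxSub.DecompCoord
import Cfsg.Agent.Lib.MaxSub.Sub

/-!
The geometric subgroups meet the special unitary group properly.
-/

set_option autoImplicit false
set_option linter.unusedSectionVars false

namespace CfsgLib.AschU

open Cfsg Cfsg.Geo CfsgLib.MaxSub CfsgLib.Aschbacher Matrix
open scoped MatrixGroups commutatorElement Kronecker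

variable {F : Type*} [Field F] [Fintype F] {n q : ℕ}

/-! ### subspaces and decompositions -/

theorem not_le_subspace (hF : Fintype.card F = q ^ 2) (hn : 2 ≤ n) {W : Submodule F (Fin n → F)}
    (h0 : W ≠ ⊥) (h1 : W ≠ ⊤) : ¬ suGL n q F ≤ subspaceStabilizer W := by
  intro hle
  have hf := isUnitaryForm_hermForm hF n
  obtain ⟨c, hc0, hc⟩ := exists_trace_zero hf
  have key : ∀ v, hermForm n F q v v = 0 → v ∈ W ∨ v ∈ hPerp hf W := by
    intro v hv
    by_cases hP : v ∈ hPerp hf W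
    · exact Or.inr hP
    left
    rw [mem_hPerp] at hP
    push Not at hP
    obtain ⟨x, hx, hvx⟩ := hP
    have hxv : hermForm n F q x v ≠ 0 := fun e => hvx (herm_eq_zero_comm hf e)
    obtain ⟨g, hg, -, -, hgm⟩ := exists_uTv hF hv hc
    have h := maps_of_mem_subspaceStabilizer (hle hg) hx
    rw [hgm, uTv_mulVec hf, Submodule.add_mem_iff_right _ hx,
      W.smul_mem_iff (mul_ne_zero hc0 hxv)] at h
    exact h
  by_cases hall : ∀ v, hermForm n F q v v = 0 → v ∈ W
  · exact h1 (span_isotropic hF hn hall)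
  push Not at hall
  obtain ⟨w, hw, hwW⟩ := hall
  have hwP := (key w hw).resolve_left hwW
  have hallP : ∀ v, hermForm n F q v v = 0 → v ∈ hPerp hf W := by
    intro v hv
    rcases key v hv with hvW | hvP
    swap
    · exact hvP
    by_contra hvP
    have hiso : hermForm n F q (v + w) (v + w) = 0 := by
      rw [hf.add_left, herm_add_right hf, herm_add_right hf, hv, hw, (mem_hPerp hf).1 hwP v hvW,
        hPerp_comm hf hwP hvW]
      simp
    rcases key _ hiso with h | h
    · exact hwW (by simpa using W.sub_mem h hvW)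
    · exact hvP (by simpa using (hPerp hf W).sub_mem h hwP)
  have htop := span_isotropic hF hn hallP
  obtain ⟨x, hx, hx0⟩ := W.exists_mem_ne_zero_of_ne_bot h0
  obtain ⟨⟨y, hy⟩, -⟩ := hf.nondegenerate x hx0
  exact hy ((mem_hPerp hf).1 (htop ▸ Submodule.mem_top : y ∈ hPerp hf W) x hx)

theorem ne_top_of_totallySingular (hF : Fintype.card F = q ^ 2) (hn : 0 < n)
    {W : Submodule F (Fin n → F)} (hW : IsTotallySingularFor (hermForm n F q) W) : W ≠ ⊤ := by
  intro h
  have hne : (Pi.single ⟨0, hn⟩ (1 : F) : Fin n → F) ≠ 0 := fun e =>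
    one_ne_zero (α := F) (by simpa using congrFun e ⟨0, hn⟩)
  obtain ⟨⟨x, hx⟩, -⟩ := (isUnitaryForm_hermForm hF n).nondegenerate _ hne
  exact hx (hW x (h ▸ Submodule.mem_top) _ (h ▸ Submodule.mem_top))

theorem decomp_card {t k : ℕ} {D : Fin t → Submodule F (Fin n → F)} (hD : IsMDecomposition k D) :
    t * k = n := by
  obtain ⟨ψ, -⟩ := Decomp.exists_coord hD
  have := ψ.finrank_eq
  rw [Module.finrank_fin_fun, Module.finrank_pi_fintype] at this
  simp only [Module.finrank_fin_fun, Finset.sum_const, Finset.card_univ, Fintype.card_fin,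
    smul_eq_mul] at this
  exact this.symm

theorem eq_of_mem_of_mem {t k : ℕ} {D : Fin t → Submodule F (Fin n → F)} (hD : IsMDecomposition k D)
    {i j : Fin t} {x : Fin n → F} (hx0 : x ≠ 0) (hi : x ∈ D i) (hj : x ∈ D j) : i = j :=
  by_contra fun hne => hx0 (Submodule.disjoint_def.1 (hD.indep.pairwiseDisjoint hne) x hi hj)

theorem decomp_ne_bot {t k : ℕ} {D : Fin t → Submodule F (Fin n → F)} (hD : IsMDecomposition k D)
    (i : Fin t) : D i ≠ ⊥ := fun h => by
  have := hD.finrank_eq i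
  rw [h, finrank_bot] at this
  exact hD.pos.ne this

theorem decomp_ne_top {t k : ℕ} {D : Fin t → Submodule F (Fin n → F)} (hD : IsMDecomposition k D)
    (i : Fin t) : D i ≠ ⊤ := fun h => by
  obtain ⟨j, hj⟩ : ∃ j, j ≠ i := Fintype.exists_ne_of_one_lt_card (by rw [Fintype.card_fin]; exact hD.two_le) i
  obtain ⟨x, hx, hx0⟩ := (D j).exists_mem_ne_zero_of_ne_bot (decomp_ne_bot hD j)
  exact hj (eq_of_mem_of_mem hD hx0 hx (h ▸ Submodule.mem_top))

theorem not_le_decomposition (hF : Fintype.card F = q ^ 2) (hn : 3 ≤ n) (h32 : ¬ (n = 3 ∧ q = 2))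
    {t k : ℕ} (hk : 2 ≤ k) {D : Fin t → Submodule F (Fin n → F)} (hD : IsMDecomposition k D) :
    ¬ suGL n q F ≤ decompositionStabilizer D := by
  intro hle
  have hf := isUnitaryForm_hermForm hF n
  let i₀ : Fin t := ⟨0, by have := hD.two_le; omega⟩
  refine not_le_subspace hF (by omega) (decomp_ne_bot hD i₀) (decomp_ne_top hD i₀)
    (suGL_le_of_uTv hF hn h32 fun g v c hg hgS => ?_)
  obtain ⟨hv, hc, hgm⟩ := hg
  obtain ⟨σ, hσ⟩ := hle hgS
  obtain ⟨x, hx, hx0⟩ := (D i₀ ⊓ LinearMap.ker (hLin hf v)).exists_mem_ne_zero_of_ne_bot fun h => by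
    have h1 := CfsgLib.MaxSub.finrank_le_inf_ker (D i₀) (hLin hf v)
    rw [h, hD.finrank_eq, finrank_bot] at h1
    omega
  have hgx : (g : Matrix (Fin n) (Fin n) F) *ᵥ x = x := by
    rw [hgm, uTv_mulVec hf, (mem_ker_hLin hf).1 hx.2, mul_zero, zero_smul, add_zero]
  have hσi : σ i₀ = i₀ := by
    refine eq_of_mem_of_mem hD hx0 ?_ hx.1
    rw [← hσ i₀]
    exact ⟨x, hx.1, by rw [Matrix.toLin'_apply, hgx]⟩
  refine mem_subspaceStabilizer_of_maps fun y hy => ?_
  conv => rw [← hσi, ← hσ i₀]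
  exact ⟨y, hy, Matrix.toLin'_apply _ _⟩

theorem mem_line_or_pair (hF : Fintype.card F = q ^ 2) {t : ℕ} {D : Fin t → Submodule F (Fin n → F)}
    (hD : IsMDecomposition 1 D) (hle : suGL n q F ≤ decompositionStabilizer D)
    {v : Fin n → F} (hv : hermForm n F q v v = 0) : ∃ i j, v ∈ D i ⊔ D j := by
  have hf := isUnitaryForm_hermForm hF n
  let i₀ : Fin t := ⟨0, by have := hD.two_le; omega⟩
  rcases eq_or_ne v 0 with rfl | hv0
  · exact ⟨i₀, i₀, zero_mem _⟩
  obtain ⟨c, hc0, hc⟩ := exists_trace_zero hf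
  obtain ⟨g, hg, -, -, hgm⟩ := exists_uTv hF hv hc
  obtain ⟨σ, hσ⟩ := hle hg
  obtain ⟨i, d, hd, hdv⟩ : ∃ i, ∃ d ∈ D i, hermForm n F q d v ≠ 0 := by
    by_contra h
    push Not at h
    obtain ⟨⟨x, hx⟩, -⟩ := hf.nondegenerate v hv0
    have htop : iSup D ≤ LinearMap.ker (hLin hf v) :=
      iSup_le fun i y hy => (mem_ker_hLin hf).2 (h i y hy)
    rw [hD.iSup_eq_top] at htop
    exact hx ((mem_ker_hLin hf).1 (htop Submodule.mem_top))
  refine ⟨i, σ i, ?_⟩
  have hgd : (g : Matrix (Fin n) (Fin n) F) *ᵥ d ∈ D (σ i) := by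
    rw [← hσ i]
    exact ⟨d, hd, Matrix.toLin'_apply _ _⟩
  have h2 : (c * hermForm n F q d v) • v ∈ D i ⊔ D (σ i) := by
    have h3 := sub_mem (Submodule.mem_sup_right (S := D i) hgd)
      (Submodule.mem_sup_left (T := D (σ i)) hd)
    rwa [hgm, uTv_mulVec hf, add_sub_cancel_left] at h3
  rwa [Submodule.smul_mem_iff _ (mul_ne_zero hc0 hdv)] at h2

theorem frame_vectors (hF : Fintype.card F = q ^ 2) {t : ℕ} {D : Fin t → Submodule F (Fin n → F)}
    (hD : IsNondegenerateMDecomposition (hermForm n F q) 1 D) :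
    ∃ d : Fin t → Fin n → F, (∀ i, d i ∈ D i) ∧ (∀ i, hermForm n F q (d i) (d i) ≠ 0) ∧
      ∀ i j, i ≠ j → hermForm n F q (d i) (d j) = 0 := by
  have hf := isUnitaryForm_hermForm hF n
  have : ∀ i, ∃ d ∈ D i, hermForm n F q d d ≠ 0 := by
    intro i
    obtain ⟨d, hd, hd0⟩ := (D i).exists_mem_ne_zero_of_ne_bot (decomp_ne_bot hD.decomp i)
    refine ⟨d, hd, fun h => ?_⟩
    obtain ⟨x, hx, hxd⟩ := (hD.nondegenerate i d hd hd0).1
    obtain ⟨a, ha⟩ := exists_smul_eq_of_finrank_eq_one (hD.decomp.finrank_eq i)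
      (x := (⟨d, hd⟩ : D i)) (fun e => hd0 (congrArg Subtype.val e)) ⟨x, hx⟩
    have hax : a • d = x := congrArg Subtype.val ha
    exact hxd (by rw [← hax, hf.smul_left, h, mul_zero])
  choose d hd hdd using this
  exact ⟨d, hd, hdd, fun i j hij => hD.orthogonal i j hij _ (hd i) _ (hd j)⟩

theorem not_le_frame (hF : Fintype.card F = q ^ 2) (hn : 3 ≤ n) (h32 : ¬ (n = 3 ∧ q = 2))
    {t : ℕ} {D : Fin t → Submodule F (Fin n → F)}
    (hD : IsNondegenerateMDecomposition (hermForm n F q) 1 D) :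
    ¬ suGL n q F ≤ decompositionStabilizer D := by
  classical
  intro hle
  have hf := isUnitaryForm_hermForm hF n
  obtain ⟨d, hd, hdd, hdo⟩ := frame_vectors hF hD
  have htn : t = n := by rw [← decomp_card hD.decomp, mul_one]
  set a := fun i => hermForm n F q (d i) (d i)
  have hafix : ∀ i, qConj hF (a i) = a i := fun i => herm_self_fixed hf _
  suffices H : ∃ (v : Fin n → F) (l₀ l₁ l₂ : Fin t), l₀ ≠ l₁ ∧ l₀ ≠ l₂ ∧ l₁ ≠ l₂ ∧
      hermForm n F q v v = 0 ∧ hermForm n F q v (d l₀) ≠ 0 ∧ hermForm n F q v (d l₁) ≠ 0 ∧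
      hermForm n F q v (d l₂) ≠ 0 by
    obtain ⟨v, l₀, l₁, l₂, h01, h02, h12, hv, hv0, hv1, hv2⟩ := H
    obtain ⟨i, j, hij⟩ := mem_line_or_pair hF hD.decomp hle hv
    obtain ⟨x, hx, y, hy, rfl⟩ := Submodule.mem_sup.1 hij
    have hz : ∀ l, l ≠ i → l ≠ j → hermForm n F q (x + y) (d l) = 0 := fun l hi hj => by
      rw [hf.add_left, hD.orthogonal i l (Ne.symm hi) x hx _ (hd l),
        hD.orthogonal j l (Ne.symm hj) y hy _ (hd l), add_zero]
    by_cases e0 : l₀ = i ∨ l₀ = j
    · by_cases e1 : l₁ = i ∨ l₁ = j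
      · refine hv2 (hz l₂ ?_ ?_)
        · rintro rfl
          rcases e0 with e | e
          · exact h02 e
          rcases e1 with e' | e'
          · exact h12 e'
          · exact h01 (e.trans e'.symm)
        · rintro rfl
          rcases e0 with e | e
          swap
          · exact h02 e
          rcases e1 with e' | e'
          · exact h01 (e.trans e'.symm)
          · exact h12 e'
      · push Not at e1
        exact hv1 (hz l₁ e1.1 e1.2)
    · push Not at e0
      exact hv0 (hz l₀ e0.1 e0.2)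
  have hval : ∀ i j, i ≠ j → ∀ s : F, s * qConj hF s = -(a i / a j) →
      hermForm n F q (d i + s • d j) (d i + s • d j) = 0 := fun i j hij s hs => by
    rw [herm_add_smul_self hf s (hdo j i hij.symm), hs, neg_mul, div_mul_cancel₀ _ (hdd j),
      add_neg_cancel]
  have hnorm : ∀ i j, ∃ s : F, s * qConj hF s = -(a i / a j) := fun i j =>
    exists_norm_eq hf (by rw [map_neg, map_div₀, hafix, hafix])
  let l₀ : Fin t := ⟨0, by omega⟩
  let l₁ : Fin t := ⟨1, by omega⟩
  let l₂ : Fin t := ⟨2, by omega⟩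
  have h01 : l₀ ≠ l₁ := by simp [l₀, l₁]
  have h02 : l₀ ≠ l₂ := by simp [l₀, l₂]
  have h12 : l₁ ≠ l₂ := by simp [l₁, l₂]
  by_cases h4 : 4 ≤ n
  · let l₃ : Fin t := ⟨3, by omega⟩
    have h03 : l₀ ≠ l₃ := by simp [l₀, l₃]
    have h13 : l₁ ≠ l₃ := by simp [l₁, l₃]
    have h23 : l₂ ≠ l₃ := by simp [l₂, l₃]
    obtain ⟨s, hs⟩ := hnorm l₀ l₁
    obtain ⟨r, hr⟩ := hnorm l₂ l₃
    have hs0 : s ≠ 0 := by
      rintro rfl
      rw [zero_mul, eq_comm, neg_eq_zero, div_eq_zero_iff] at hs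
      exact hs.elim (hdd l₀) (hdd l₁)
    refine ⟨(d l₀ + s • d l₁) + (d l₂ + r • d l₃), l₀, l₁, l₂, h01, h02, h12, ?_, ?_, ?_, ?_⟩
    · have e1 := hval l₀ l₁ h01 s hs
      have e2 := hval l₂ l₃ h23 r hr
      simp only [hf.add_left, herm_add_right hf, hf.smul_left, herm_smul_right hf,
        hdo l₀ l₂ h02, hdo l₀ l₃ h03, hdo l₁ l₂ h12, hdo l₁ l₃ h13, hdo l₂ l₀ h02.symm,
        hdo l₃ l₀ h03.symm, hdo l₂ l₁ h12.symm, hdo l₃ l₁ h13.symm, mul_zero, add_zero,
        zero_add] at e1 e2 ⊢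
      linear_combination e1 + e2
    · simpa [hf.add_left, hf.smul_left, hdo l₁ l₀ h01.symm, hdo l₂ l₀ h02.symm, hdo l₃ l₀ h03.symm]
        using hdd l₀
    · simpa [hf.add_left, hf.smul_left, hdo l₀ l₁ h01, hdo l₂ l₁ h12.symm, hdo l₃ l₁ h13.symm, hs0]
        using hdd l₁
    · simpa [hf.add_left, hf.smul_left, hdo l₀ l₂ h02, hdo l₁ l₂ h12, hdo l₃ l₂ h23.symm]
        using hdd l₂
  · have hq : 3 ≤ q := by
      have := one_lt_q hF
      omega
    obtain ⟨ρ, hρ, hρ0, hρ1⟩ := UFrame.exists_norm_ne hF hq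
    obtain ⟨s, hs⟩ := exists_norm_eq hf (e := ρ * a l₀ / a l₁) (by
      rw [map_div₀, map_mul, hρ, hafix, hafix])
    obtain ⟨r, hr⟩ := exists_norm_eq hf (e := -((1 + ρ) * a l₀ / a l₂)) (by
      rw [map_neg, map_div₀, map_mul, map_add, map_one, hρ, hafix, hafix])
    have hs0 : s ≠ 0 := by
      rintro rfl
      rw [zero_mul, eq_comm, div_eq_zero_iff, mul_eq_zero] at hs
      rcases hs with (h | h) | h
      exacts [hρ0 h, hdd l₀ h, hdd l₁ h]
    have hr0 : r ≠ 0 := by
      rintro rfl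
      rw [zero_mul, eq_comm, neg_eq_zero, div_eq_zero_iff, mul_eq_zero, add_comm] at hr
      rcases hr with (h | h) | h
      exacts [hρ1 h, hdd l₀ h, hdd l₂ h]
    refine ⟨d l₀ + s • d l₁ + r • d l₂, l₀, l₁, l₂, h01, h02, h12, ?_, ?_, ?_, ?_⟩
    · simp only [hf.add_left, herm_add_right hf, hf.smul_left, herm_smul_right hf,
        hdo l₀ l₂ h02, hdo l₁ l₂ h12, hdo l₂ l₀ h02.symm, hdo l₂ l₁ h12.symm, hdo l₀ l₁ h01,
        hdo l₁ l₀ h01.symm, mul_zero, add_zero, zero_add]
      have e1 : a l₁ * (s * qConj hF s) = ρ * a l₀ := by rw [hs, mul_div_cancel₀ _ (hdd l₁)]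
      have e2 : a l₂ * (r * qConj hF r) = -((1 + ρ) * a l₀) := by
        rw [hr, mul_neg, mul_div_cancel₀ _ (hdd l₂)]
      simp only [a] at e1 e2
      linear_combination e1 + e2
    · simpa [hf.add_left, hf.smul_left, hdo l₁ l₀ h01.symm, hdo l₂ l₀ h02.symm] using hdd l₀
    · simpa [hf.add_left, hf.smul_left, hdo l₀ l₁ h01, hdo l₂ l₁ h12.symm, hs0] using hdd l₁
    · simpa [hf.add_left, hf.smul_left, hdo l₀ l₂ h02, hdo l₁ l₂ h12, hr0] using hdd l₂

/-! ### field normalisers -/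

theorem commutator_suGL_top (hF : Fintype.card F = q ^ 2) (hn : 3 ≤ n) (h32 : ¬ (n = 3 ∧ q = 2)) :
    commutator ↥(suGL n q F) = ⊤ := by
  refine Subgroup.map_injective (suGL n q F).subtype_injective ?_
  rw [Subgroup.map_subtype_commutator, ← MonoidHom.range_eq_map, Subgroup.range_subtype,
    perfect_suGL hF hn h32]

theorem not_le_field (hF : Fintype.card F = q ^ 2) (hn : 3 ≤ n) (h32 : ¬ (n = 3 ∧ q = 2))
    {r : ℕ} (hr : 2 ≤ r) {K : Subalgebra F (Matrix (Fin n) (Fin n) F)} (hK : IsFieldSubalgebra r K) :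
    ¬ suGL n q F ≤ subalgebraNormalizer K := by
  intro hle
  have : Nonempty (Fin n) := ⟨⟨0, by omega⟩⟩
  have hfield : IsField K :=
    ⟨⟨0, 1, zero_ne_one⟩, fun x y => Subtype.ext (hK.comm x x.2 y y.2), fun {x} hx => by
      obtain ⟨y, hy, hxy⟩ := hK.inv x x.2 fun h => hx (Subtype.ext h)
      exact ⟨⟨y, hy⟩, Subtype.ext hxy⟩⟩
  let : Field K := hfield.toField
  let φ : (g : GL (Fin n) F) → g ∈ suGL n q F → (K ≃ₐ[F] K) := fun g hg =>
    { toFun := fun k => ⟨(g : Matrix (Fin n) (Fin n) F) * k *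
        ((g⁻¹ : GL (Fin n) F) : Matrix (Fin n) (Fin n) F), (hle hg k).1 k.2⟩
      invFun := fun k => ⟨((g⁻¹ : GL (Fin n) F) : Matrix (Fin n) (Fin n) F) * k *
        (g : Matrix (Fin n) (Fin n) F), (hle hg _).2 (by simp [mul_assoc])⟩
      left_inv := fun k => Subtype.ext (by simp [mul_assoc])
      right_inv := fun k => Subtype.ext (by simp [mul_assoc])
      map_mul' := fun x y => Subtype.ext (by simp [mul_assoc])
      map_add' := fun x y => Subtype.ext (by simp [mul_add, add_mul])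
      commutes' := fun c => Subtype.ext (by simp [Algebra.algebraMap_eq_smul_one]) }
  let Φ : ↥(suGL n q F) →* (K ≃ₐ[F] K) :=
    MonoidHom.mk' (fun g => φ g.1 g.2) fun g h => AlgEquiv.ext fun k => Subtype.ext
      (by simp [φ, mul_assoc, Matrix.mul_inv_rev])
  let : CommGroup (K ≃ₐ[F] K) := IsCyclic.commGroup
  have hker : Φ.ker = ⊤ := by
    rw [eq_top_iff, ← commutator_suGL_top hF hn h32]
    exact Abelianization.commutator_subset_ker Φ
  have hle' : K ≤ ⊥ := fun M hM => by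
    obtain ⟨c, rfl⟩ := scalar_of_commute_suGL hF (n := n) (by omega) (y := M) fun g hg => by
      have h1 : Φ ⟨g, hg⟩ = 1 := by
        rw [← MonoidHom.mem_ker, hker]; trivial
      have h2 : (g : Matrix (Fin n) (Fin n) F) * M *
          ((g⁻¹ : GL (Fin n) F) : Matrix (Fin n) (Fin n) F) = M :=
        congrArg (fun k : K ≃ₐ[F] K => (k ⟨M, hM⟩ : Matrix (Fin n) (Fin n) F)) h1
      have h3 := congrArg (· * (g : Matrix (Fin n) (Fin n) F)) h2
      simpa [mul_assoc] using h3
    exact Algebra.mem_bot.2 ⟨c, Algebra.algebraMap_eq_smul_one c⟩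
  have := Submodule.finrank_mono (R := F) (Subalgebra.toSubmodule.monotone hle')
  rw [Subalgebra.finrank_toSubmodule, Subalgebra.finrank_toSubmodule, hK.finrank_eq,
    Subalgebra.finrank_bot] at this
  omega

/-! ### tensor stabilisers -/

theorem tv_eq_one_of_kron {n₁ n₂ : ℕ} (h1 : 2 ≤ n₁) (h2 : 2 ≤ n₂) (a : GL (Fin n₁) F)
    (b : GL (Fin n₂) F) (u χ : Fin n₁ × Fin n₂ → F)
    (h : (a : Matrix (Fin n₁) (Fin n₁) F) ⊗ₖ (b : Matrix (Fin n₂) (Fin n₂) F) = tvMat u χ) :
    tvMat u χ = 1 := by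
  classical
  have hent : ∀ i k j l, (a : Matrix (Fin n₁) (Fin n₁) F) i j * (b : Matrix (Fin n₂) (Fin n₂) F) k l =
      (if (i, k) = (j, l) then 1 else 0) + u (i, k) * χ (j, l) := by
    intro i k j l
    have h1 := congrFun (congrFun h (i, k)) (j, l)
    simpa [tvMat, Matrix.one_apply, vecMulVec_apply] using h1
  -- an invertible matrix of size at least two is not of rank one
  have hrk : ∀ {m : ℕ}, 2 ≤ m → ∀ (M : GL (Fin m) F) (X Y : Fin m → F),
      ¬ ∀ k l, (M : Matrix (Fin m) (Fin m) F) k l = X k * Y l := by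
    intro m hm M X Y hXY
    obtain ⟨k, k', hkk⟩ := Fintype.exists_pair_of_one_lt_card (α := Fin m) (by rw [Fintype.card_fin]; exact hm)
    have hM : ∀ k s, ((M : Matrix (Fin m) (Fin m) F) *
        ((M⁻¹ : GL (Fin m) F) : Matrix (Fin m) (Fin m) F)) k s =
        X k * ∑ l, Y l * ((M⁻¹ : GL (Fin m) F) : Matrix (Fin m) (Fin m) F) l s := fun k s => by
      rw [Matrix.mul_apply, Finset.mul_sum]
      exact Finset.sum_congr rfl fun l _ => by rw [hXY, mul_assoc]
    rw [← Units.val_mul, mul_inv_cancel, Units.val_one] at hM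
    have e1 := hM k k
    have e2 := hM k' k'
    have e3 := hM k k'
    rw [Matrix.one_apply_eq] at e1 e2
    rw [Matrix.one_apply_ne hkk] at e3
    rcases mul_eq_zero.1 e3.symm with e | e
    · rw [e, zero_mul] at e1; exact one_ne_zero e1
    · rw [e, mul_zero] at e2; exact one_ne_zero e2
  have hoff_a : ∀ i j, i ≠ j → (a : Matrix (Fin n₁) (Fin n₁) F) i j = 0 := by
    intro i j hij
    by_contra hne
    refine hrk h2 b (fun k => u (i, k) / (a : Matrix (Fin n₁) (Fin n₁) F) i j) (fun l => χ (j, l))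
      fun k l => ?_
    have := hent i k j l
    rw [if_neg (by simp [hij]), zero_add] at this
    rw [div_mul_eq_mul_div, eq_div_iff hne, mul_comm, this]
  have hoff_b : ∀ k l, k ≠ l → (b : Matrix (Fin n₂) (Fin n₂) F) k l = 0 := by
    intro k l hkl
    by_contra hne
    refine hrk h1 a (fun i => u (i, k) / (b : Matrix (Fin n₂) (Fin n₂) F) k l) (fun j => χ (j, l))
      fun i j => ?_
    have := hent i k j l
    rw [if_neg (by simp [hkl]), zero_add] at this
    rw [div_mul_eq_mul_div, eq_div_iff hne, this]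
  have hpq : ∀ p p' : Fin n₁ × Fin n₂, p ≠ p' → u p * χ p' = 0 := by
    rintro ⟨i, k⟩ ⟨j, l⟩ hne
    have := hent i k j l
    rw [if_neg hne, zero_add] at this
    rw [← this]
    by_cases hij : i = j
    · rw [hoff_b k l (fun hkl => hne (by rw [hij, hkl])), mul_zero]
    · rw [hoff_a i j hij, zero_mul]
  have hdiag : ∀ p, u p * χ p = 0 := by
    rintro ⟨i₀, k₀⟩
    by_contra hne
    obtain ⟨i₁, hi⟩ := Fintype.exists_ne_of_one_lt_card (by rw [Fintype.card_fin]; exact h1 : 1 < Fintype.card (Fin n₁)) i₀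
    obtain ⟨k₁, hk⟩ := Fintype.exists_ne_of_one_lt_card (by rw [Fintype.card_fin]; exact h2 : 1 < Fintype.card (Fin n₂)) k₀
    have hother : ∀ i k, (i, k) ≠ (i₀, k₀) →
        (a : Matrix (Fin n₁) (Fin n₁) F) i i * (b : Matrix (Fin n₂) (Fin n₂) F) k k = 1 := by
      intro i k hik
      have hu : u (i, k) = 0 := (mul_eq_zero.1 (hpq _ _ hik)).resolve_right (right_ne_zero_of_mul hne)
      rw [hent, if_pos rfl, hu, zero_mul, add_zero]
    have e11 := hother i₁ k₁ (by simp [hi])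
    have e01 := hother i₀ k₁ (by simp [hk])
    have e10 := hother i₁ k₀ (by simp [hi])
    have e00 := hent i₀ k₀ i₀ k₀
    rw [if_pos rfl] at e00
    refine hne ?_
    have : (a : Matrix (Fin n₁) (Fin n₁) F) i₀ i₀ * (b : Matrix (Fin n₂) (Fin n₂) F) k₀ k₀ = 1 := by
      calc _ = ((a : Matrix (Fin n₁) (Fin n₁) F) i₀ i₀ * (b : Matrix (Fin n₂) (Fin n₂) F) k₀ k₀) *
            ((a : Matrix (Fin n₁) (Fin n₁) F) i₁ i₁ * (b : Matrix (Fin n₂) (Fin n₂) F) k₁ k₁) := by
              rw [e11, mul_one]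
        _ = ((a : Matrix (Fin n₁) (Fin n₁) F) i₀ i₀ * (b : Matrix (Fin n₂) (Fin n₂) F) k₁ k₁) *
            ((a : Matrix (Fin n₁) (Fin n₁) F) i₁ i₁ * (b : Matrix (Fin n₂) (Fin n₂) F) k₀ k₀) := by ring
        _ = 1 := by rw [e01, e10, one_mul]
    rw [this] at e00
    exact add_left_cancel (e00.symm.trans (add_zero 1).symm)
  rw [tvMat, add_eq_left]
  ext p p'
  rw [vecMulVec_apply, Matrix.zero_apply]
  by_cases hp : p = p'
  · subst hp; exact hdiag p
  · exact hpq p p' hp

theorem glReindex_tv {κ : Type} [Fintype κ] [DecidableEq κ] (e : Fin n ≃ κ) (k : GL κ F)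
    {u χ : Fin n → F}
    (h : (glReindex e.symm k : Matrix (Fin n) (Fin n) F) = tvMat u χ) :
    (k : Matrix κ κ F) = tvMat (u ∘ e.symm) (χ ∘ e.symm) := by
  ext i j
  have h1 := congrFun (congrFun h (e.symm i)) (e.symm j)
  have h2 : (glReindex e.symm k : Matrix (Fin n) (Fin n) F) (e.symm i) (e.symm j) =
      (k : Matrix κ κ F) i j := by
    show (k : Matrix κ κ F) (e.symm.symm (e.symm i)) (e.symm.symm (e.symm j)) = _
    simp
  rw [← h2, h1]
  simp [tvMat, Matrix.one_apply, vecMulVec_apply]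

theorem not_le_tensor (hF : Fintype.card F = q ^ 2) (hn : 2 ≤ n) {n₁ n₂ : ℕ} (h1 : 2 ≤ n₁)
    (h2 : 2 ≤ n₂) (e : Fin n ≃ Fin n₁ × Fin n₂) (P : GL (Fin n) F) :
    ¬ suGL n q F ≤ tensorProductSubgroup n₁ n₂ e P := by
  classical
  intro hle
  have hf := isUnitaryForm_hermForm hF n
  obtain ⟨c, hc0, hc⟩ := exists_trace_zero hf
  obtain ⟨v, -, hv0, hv⟩ := exists_isotropic hf (U := ⊤)
    (by rw [finrank_top, Module.finrank_fin_fun]; exact hn)
  obtain ⟨g, hg, -, -, hgm⟩ := exists_uTv hF hv hc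
  obtain ⟨_, ⟨k, ⟨a, b, hk⟩, rfl⟩, hgk⟩ := hle hg
  change P * glReindex e.symm k * P⁻¹ = g at hgk
  have hK : glReindex e.symm k = P⁻¹ * g * P := by rw [← hgk]; group
  have hKm := congrArg Units.val hK
  rw [Units.val_mul, Units.val_mul, hgm,
    mul_tvMat_mul _ _ _ _ (by rw [← Units.val_mul, inv_mul_cancel, Units.val_one])] at hKm
  have hk1 := glReindex_tv e k hKm
  have hk2 : k = 1 := Units.ext (by
    rw [hk1, Units.val_one]
    exact tv_eq_one_of_kron h1 h2 a b _ _ (hk.symm.trans hk1))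
  have hg1 : g = 1 := by rw [← hgk, hk2, map_one, mul_one, mul_inv_cancel]
  obtain ⟨x, hx⟩ := (hf.nondegenerate v hv0).1
  have h := congrArg (fun M : Matrix (Fin n) (Fin n) F => M *ᵥ x) hgm
  simp only [hg1, Units.val_one, Matrix.one_mulVec, uTv_mulVec hf, left_eq_add, smul_eq_zero,
    mul_eq_zero] at h
  rcases h with (h | h) | h
  exacts [hc0 h, hx h, hv0 h]

theorem not_le_wreath (hF : Fintype.card F = q ^ 2) (hn : 3 ≤ n) (h32 : ¬ (n = 3 ∧ q = 2))
    (e : Fin n ≃ (Fin 2 → Fin 3)) (P : GL (Fin n) F) :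
    ¬ suGL n q F ≤ tensorWreathSubgroup 3 2 e P := by
  classical
  intro hle
  refine not_le_tensor hF (n := n) (by omega) (n₁ := 3) (n₂ := 3) (by norm_num) (by norm_num)
    (e.trans (piFinTwoEquiv fun _ => Fin 3)) P ?_
  set T := tensorProductSubgroup 3 3 (e.trans (piFinTwoEquiv fun _ => Fin 3)) P
  have hsq : ∀ g ∈ tensorWreathSubgroup 3 2 e P, g * g ∈ T := by
    rintro _ ⟨_, ⟨k, hk, rfl⟩, rfl⟩
    obtain ⟨π, gs, hkm⟩ := exists_perm_pure hk
    rw [← map_mul, ← map_mul]
    refine ⟨_, ⟨glReindex (piFinTwoEquiv fun _ => Fin 3) (k * k),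
      ⟨gs (π 0) * gs 0, gs (π 1) * gs 1, ?_⟩, rfl⟩, ?_⟩
    · have hππ : π * π = 1 := (show ∀ π : Equiv.Perm (Fin 2), π * π = 1 by decide) π
      have e' := pureMat_mul_permMat π (fun j => (gs (π j) : Matrix (Fin 3) (Fin 3) F))
      simp only [Equiv.apply_symm_apply] at e'
      have hk2 : ((k * k : GL (Fin 2 → Fin 3) F) : Matrix (Fin 2 → Fin 3) (Fin 2 → Fin 3) F) =
          pureMat fun j => (gs (π j) : Matrix (Fin 3) (Fin 3) F) * (gs j : Matrix (Fin 3) (Fin 3) F) := by
        rw [Units.val_mul, hkm, mul_assoc, ← mul_assoc (pureMat _) (permMat π), e', mul_assoc,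
          pureMat_mul, ← mul_assoc]
        have : (permMat π : Matrix (Fin 2 → Fin 3) (Fin 2 → Fin 3) F) * permMat π = 1 := by
          ext x y
          rw [permMat_mul_apply]
          simp only [permMat, Matrix.one_apply]
          have hx : (x ∘ π) ∘ π = x := by
            funext j
            show x (π (π j)) = x j
            rw [show π (π j) = (π * π) j from rfl, hππ]; rfl
          simp [hx, eq_comm]
        rw [this, one_mul]
      ext ⟨i, j⟩ ⟨i', j'⟩
      show ((k * k : GL (Fin 2 → Fin 3) F) : Matrix (Fin 2 → Fin 3) (Fin 2 → Fin 3) F) _ _ = _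
      rw [hk2]
      simp [pureMat, Fin.prod_univ_two]
    · congr 1
      ext i j
      have hψ : ∀ f : Fin 2 → Fin 3, ![f 0, f 1] = f := fun f => by
        funext j
        fin_cases j <;> rfl
      simp [glReindex, Function.comp_def, hψ, Matrix.mul_apply, ← Equiv.sum_comp e]
  rw [← perfect_suGL hF hn h32, Subgroup.commutator_le]
  intro a ha b hb
  have : ⁅a, b⁆ = a * a * ((a⁻¹ * b) * (a⁻¹ * b)) * (b⁻¹ * b⁻¹) := by
    rw [commutatorElement_def]; group
  rw [this]
  exact T.mul_mem (T.mul_mem (hsq _ (hle ha))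
    (hsq _ (hle (mul_mem (inv_mem ha) hb)))) (hsq _ (hle (inv_mem hb)))

/-! ### normalisers of r-groups -/

theorem not_le_normalizer (hF : Fintype.card F = q ^ 2) (hn : 3 ≤ n) (h32 : ¬ (n = 3 ∧ q = 2))
    {r : ℕ} {R : Subgroup (GL (Fin n) F)} (hR : IsPGroup r R) (hr : r.Prime)
    (hRsim : R ≤ similarityGroup (hermForm n F q)) (habs : ActsIrreducibly (matrixSet R)) :
    ¬ suGL n q F ≤ subgroupNormalizer R := by
  classical
  intro hle
  have hf := isUnitaryForm_hermForm hF n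
  have hnorm : ∀ g ∈ suGL n q F, ∀ x ∈ R, g * x * g⁻¹ ∈ R := fun g hg x hx =>
    (Subgroup.mem_normalizer_iff.1 (hle hg) x).1 hx
  have hcomm : ∀ g ∈ suGL n q F, ∀ x ∈ R, g * x * g⁻¹ * x⁻¹ ∈ R ⊓ suGL n q F := by
    intro g hg x hx
    refine ⟨R.mul_mem (hnorm g hg x hx) (R.inv_mem hx), ?_, ?_⟩
    · show ∀ u v : Fin n → F, hermForm n F q ((g * x * g⁻¹ * x⁻¹ : GL (Fin n) F).val *ᵥ u)
          ((g * x * g⁻¹ * x⁻¹ : GL (Fin n) F).val *ᵥ v) = hermForm n F q u v
      intro u v
      obtain ⟨s, hs⟩ := hRsim hx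
      rw [show g * x * g⁻¹ * x⁻¹ = g * (x * g⁻¹ * x⁻¹) by group]
      simp only [Units.val_mul, ← Matrix.mulVec_mulVec]
      have h1 : ∀ u v : Fin n → F, hermForm n F q ((g : Matrix (Fin n) (Fin n) F) *ᵥ u)
          ((g : Matrix (Fin n) (Fin n) F) *ᵥ v) = hermForm n F q u v := hg.1
      have h2 : ∀ u v : Fin n → F, hermForm n F q (((g⁻¹ : GL (Fin n) F) : Matrix (Fin n) (Fin n) F) *ᵥ u)
          (((g⁻¹ : GL (Fin n) F) : Matrix (Fin n) (Fin n) F) *ᵥ v) = hermForm n F q u v := ((suGL n q F).inv_mem hg).1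
      rw [h1, hs, h2, ← hs, mulVec_mulVec_inv, mulVec_mulVec_inv]
    · show Matrix.GeneralLinearGroup.det _ = 1
      rw [map_mul, map_mul, map_mul, map_inv, map_inv]
      rw [mul_comm (Matrix.GeneralLinearGroup.det g), mul_inv_cancel_right, mul_inv_cancel]
  have hN : R ⊓ suGL n q F ≤ scalars (Fin n) F := by
    rcases normal_suGL hF hn h32 (N := R ⊓ suGL n q F) inf_le_right (fun g hg x hx =>
      ⟨hnorm g hg x hx.1, (suGL n q F).mul_mem ((suGL n q F).mul_mem hg hx.2) ((suGL n q F).inv_mem hg)⟩) with h | h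
    · exact h
    exfalso
    have hSR : suGL n q F ≤ R := inf_eq_right.1 h
    have : Fact r.Prime := ⟨hr⟩
    have hS : IsPGroup r ↥(suGL n q F) := hR.to_le hSR
    have := hS.isNilpotent
    obtain ⟨m, hm⟩ := (inferInstance : Group.IsSolvable ↥(suGL n q F)).solvable
    have htop : ∀ m, derivedSeries ↥(suGL n q F) m = ⊤ := by
      intro m
      induction m with
      | zero => exact derivedSeries_zero _
      | succ m ih => rw [derivedSeries_succ, ih, ← commutator_def, commutator_suGL_top hF hn h32]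
    rw [htop] at hm
    obtain ⟨c, hc0, hc⟩ := exists_trace_zero hf
    obtain ⟨v, -, hv0, hv⟩ := exists_isotropic hf (U := ⊤)
      (by rw [finrank_top, Module.finrank_fin_fun]; omega)
    obtain ⟨g, hg, -, -, hgm⟩ := exists_uTv hF hv hc
    have hg0 : (⟨g, hg⟩ : ↥(suGL n q F)) = 1 :=
      Subgroup.mem_bot.1 (hm.le (Subgroup.mem_top (⟨g, hg⟩ : ↥(suGL n q F))))
    have hg1 : g = 1 := congrArg (fun z : ↥(suGL n q F) => (z : GL (Fin n) F)) hg0
    obtain ⟨x, hx⟩ := (hf.nondegenerate v hv0).1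
    have h := congrArg (fun M : Matrix (Fin n) (Fin n) F => M *ᵥ x) hgm
    simp only [hg1, Units.val_one, Matrix.one_mulVec, uTv_mulVec hf, left_eq_add, smul_eq_zero,
      mul_eq_zero] at h
    rcases h with (h | h) | h
    exacts [hc0 h, hx h, hv0 h]
  have hcent : ∀ z ∈ scalars (Fin n) F, ∀ y : GL (Fin n) F, z * y = y * z := fun z hz y => by
    obtain ⟨c, hc⟩ := (mem_scalars_iff z).1 hz
    exact Units.ext (by simp [hc])
  have hfix : ∀ x ∈ R, ∀ a ∈ suGL n q F, ∀ b ∈ suGL n q F,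
      ⁅a, b⁆ * x = x * ⁅a, b⁆ := by
    intro x hx a ha b hb
    obtain ⟨za, hza, ea⟩ : ∃ z ∈ scalars (Fin n) F, a⁻¹ * x * a = z * x :=
      ⟨_, hN (hcomm a⁻¹ (inv_mem ha) x hx), by group⟩
    obtain ⟨zb, hzb, eb⟩ : ∃ z ∈ scalars (Fin n) F, b⁻¹ * x * b = z * x :=
      ⟨_, hN (hcomm b⁻¹ (inv_mem hb) x hx), by group⟩
    have eab : (b * a)⁻¹ * x * (b * a) = (a * b)⁻¹ * x * (a * b) := by
      calc (b * a)⁻¹ * x * (b * a) = a⁻¹ * (b⁻¹ * x * b) * a := by group
        _ = zb * (a⁻¹ * x * a) := by rw [eb, ← mul_assoc a⁻¹, ← hcent zb hzb a⁻¹]; group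
        _ = za * (zb * x) := by rw [ea, ← mul_assoc, hcent zb hzb za, mul_assoc]
        _ = za * (b⁻¹ * x * b) := by rw [eb]
        _ = b⁻¹ * (za * x) * b := by rw [← mul_assoc b⁻¹, ← hcent za hza b⁻¹]; group
        _ = b⁻¹ * (a⁻¹ * x * a) * b := by rw [ea]
        _ = _ := by group
    calc ⁅a, b⁆ * x = (a * b) * ((b * a)⁻¹ * x * (b * a)) * (b * a)⁻¹ := by
          rw [commutatorElement_def]; group
      _ = (a * b) * ((a * b)⁻¹ * x * (a * b)) * (b * a)⁻¹ := by rw [eab]
      _ = x * ⁅a, b⁆ := by rw [commutatorElement_def]; group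
  have hsc : ∀ x ∈ R, ∃ c : F, (x : Matrix (Fin n) (Fin n) F) = c • 1 := by
    intro x hx
    refine scalar_of_commute_suGL hF (n := n) (by omega) fun g hg => ?_
    have : suGL n q F ≤ Subgroup.centralizer {x} := by
      rw [← perfect_suGL hF hn h32, Subgroup.commutator_le]
      intro a ha b hb
      rw [Subgroup.mem_centralizer_singleton_iff]
      exact hfix x hx a ha b hb
    have h := Subgroup.mem_centralizer_singleton_iff.1 (this hg)
    rw [← Units.val_mul, ← Units.val_mul, h]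
  let W : Submodule F (Fin n → F) := Submodule.span F {Pi.single ⟨0, by omega⟩ 1}
  have hW : ∀ s ∈ matrixSet R, W.map (Matrix.toLin' s) ≤ W := by
    rintro _ ⟨x, hx, rfl⟩ _ ⟨w, hw, rfl⟩
    obtain ⟨c, hc⟩ := hsc x hx
    show Matrix.toLin' (x : Matrix (Fin n) (Fin n) F) w ∈ W
    rw [hc, Matrix.toLin'_apply, Matrix.smul_mulVec, Matrix.one_mulVec]
    exact W.smul_mem c hw
  rcases habs W hW with h | h
  · have := congrFun (Submodule.span_singleton_eq_bot.1 h) ⟨0, by omega⟩
    simp at this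
  · have h1 := finrank_span_singleton (K := F)
      (v := (Pi.single ⟨0, by omega⟩ 1 : Fin n → F)) (fun e => by
        simpa using congrFun e ⟨0, by omega⟩)
    change Module.finrank F W = 1 at h1
    rw [h, finrank_top, Module.finrank_fin_fun] at h1
    omega

/-! ### subfield groups -/

theorem ratPair {F₀ : Subfield F} {u u' : Fin n → F} (hu : RatVec F₀ u) (hu' : RatVec F₀ u')
    (hind : ∀ a b : F, a • u + b • u' = 0 → a = 0 ∧ b = 0) {x z : F}
    (h : RatVec F₀ (x • u + z • u')) : x ∈ F₀ ∧ z ∈ F₀ := by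
  obtain ⟨i, j, hD⟩ : ∃ i j, u i * u' j - u j * u' i ≠ 0 := by
    by_contra hall
    push Not at hall
    obtain ⟨i, hi⟩ : ∃ i, u i ≠ 0 := by
      by_contra h0
      push Not at h0
      exact one_ne_zero (hind 1 0 (by funext i; simp [h0 i])).1
    exact hi (hind (-u' i) (u i) (funext fun j => by
      simpa [sub_eq_neg_add, mul_comm] using hall i j)).2
  set D := u i * u' j - u j * u' i with hDdef
  have hDm : D ∈ F₀ := sub_mem (mul_mem (hu i) (hu' j)) (mul_mem (hu j) (hu' i))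
  have hx : x * D = (x • u + z • u') i * u' j - (x • u + z • u') j * u' i := by
    simp only [hDdef, Pi.add_apply, Pi.smul_apply, smul_eq_mul]; ring
  have hz : z * D = u i * (x • u + z • u') j - u j * (x • u + z • u') i := by
    simp only [hDdef, Pi.add_apply, Pi.smul_apply, smul_eq_mul]; ring
  constructor
  · rw [eq_div_iff hD |>.2 hx]
    exact div_mem (sub_mem (mul_mem (h i) (hu' j)) (mul_mem (h j) (hu' i))) hDm
  · rw [eq_div_iff hD |>.2 hz]
    exact div_mem (sub_mem (mul_mem (hu i) (h j)) (mul_mem (hu j) (h i))) hDm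

theorem exists_rat_multiple (hn : 3 ≤ n) {F₀ : Subfield F} {l : F} (hl : l ≠ 0) {u χ : Fin n → F}
    (hχ : χ ≠ 0) (hu : u ≠ 0) (h : RatMat F₀ (l • tvMat u χ)) :
    ∃ a : F, a ≠ 0 ∧ RatVec F₀ (a • u) := by
  classical
  have hent : ∀ i j, l * ((if i = j then 1 else 0) + u i * χ j) ∈ F₀ := fun i j => by
    simpa [tvMat, Matrix.one_apply, vecMulVec_apply] using h i j
  by_cases hoff : ∃ i j, i ≠ j ∧ u i * χ j ≠ 0
  · obtain ⟨i, j, hij, hne⟩ := hoff
    obtain ⟨k, -, hk⟩ := Finset.exists_mem_notMem_of_card_lt_card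
      (s := ({i, j} : Finset (Fin n))) (t := Finset.univ)
      (lt_of_le_of_lt Finset.card_le_two (by rw [Finset.card_univ, Fintype.card_fin]; omega))
    simp only [Finset.mem_insert, Finset.mem_singleton, not_or] at hk
    have e1 := hent i j
    rw [if_neg hij, zero_add] at e1
    have e2 := hent k k
    rw [if_pos rfl] at e2
    have e3 := hent i k
    rw [if_neg (Ne.symm hk.1), zero_add] at e3
    have e4 := hent k j
    rw [if_neg hk.2, zero_add] at e4
    have hne' : l * (u i * χ j) ≠ 0 := mul_ne_zero hl hne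
    have hlm : l ∈ F₀ := by
      rw [show l = l * (1 + u k * χ k) -
        (l * (u i * χ k)) * (l * (u k * χ j)) / (l * (u i * χ j)) by
          rw [show (l * (u i * χ k)) * (l * (u k * χ j)) = (l * (u k * χ k)) * (l * (u i * χ j)) by ring,
            mul_div_cancel_right₀ _ hne']
          ring]
      exact sub_mem e2 (div_mem (mul_mem e3 e4) e1)
    refine ⟨χ j, right_ne_zero_of_mul hne, fun a => ?_⟩
    show χ j * u a ∈ F₀
    rw [show χ j * u a = l * ((if a = j then 1 else 0) + u a * χ j) / l - (if a = j then 1 else 0) by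
      rw [mul_div_cancel_left₀ _ hl]; ring]
    refine sub_mem (div_mem (hent a j) hlm) ?_
    split_ifs
    exacts [one_mem _, zero_mem _]
  · push Not at hoff
    obtain ⟨i, hi⟩ : ∃ i, u i ≠ 0 := Function.ne_iff.1 hu
    obtain ⟨j, hj⟩ : ∃ j, χ j ≠ 0 := Function.ne_iff.1 hχ
    have hij : i = j := by
      by_contra hne
      exact mul_ne_zero hi hj (hoff i j hne)
    subst hij
    refine ⟨(u i)⁻¹, inv_ne_zero hi, fun a => ?_⟩
    show (u i)⁻¹ * u a ∈ F₀
    by_cases hai : a = i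
    · rw [hai, inv_mul_cancel₀ hi]; exact one_mem _
    · rw [(mul_eq_zero.1 (hoff a i hai)).resolve_right hj, mul_zero]; exact zero_mem _

theorem exists_anisotropic_perp (hF : Fintype.card F = q ^ 2) (hn : 3 ≤ n) {v w : Fin n → F}
    (hv : hermForm n F q v v = 0) (hw : hermForm n F q w w = 0) (hwv : hermForm n F q w v = 1) :
    ∃ z, hermForm n F q z v = 0 ∧ hermForm n F q z w = 0 ∧ hermForm n F q z z ≠ 0 := by
  have hf := isUnitaryForm_hermForm hF n
  have hvw : hermForm n F q v w = 1 := by rw [hf.herm, hwv, map_one]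
  set U := LinearMap.ker (hLin hf v) ⊓ LinearMap.ker (hLin hf w)
  have hU : U ≠ ⊥ := fun e => by
    have h1 := CfsgLib.MaxSub.finrank_le_inf_ker (LinearMap.ker (hLin hf v)) (hLin hf w)
    have h2 := CfsgLib.MaxSub.finrank_le_inf_ker ⊤ (hLin hf v)
    rw [top_inf_eq, finrank_top, Module.finrank_fin_fun] at h2
    change _ ≤ Module.finrank F U + 1 at h1
    rw [e, finrank_bot] at h1
    omega
  by_contra hall
  push Not at hall
  have hall' : ∀ z ∈ U, hermForm n F q z z = 0 := fun z hz =>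
    hall z ((mem_ker_hLin hf).1 hz.1) ((mem_ker_hLin hf).1 hz.2)
  obtain ⟨z, hz, hz0⟩ := U.exists_mem_ne_zero_of_ne_bot hU
  have hzU : ∀ x ∈ U, hermForm n F q x z = 0 := by
    intro x hx
    by_contra hxz
    obtain ⟨s, hs⟩ := exists_trace_ne hf
    have h := hall' ((s / hermForm n F q x z) • x + z) (add_mem (U.smul_mem _ hx) hz)
    simp only [hf.add_left, hf.smul_left, herm_add_right hf, herm_smul_right hf,
      hall' x hx, hall' z hz, mul_zero, zero_add, add_zero] at h
    rw [div_mul_cancel₀ _ hxz, hf.herm z x, ← map_mul, div_mul_cancel₀ _ hxz] at h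
    exact hs h
  obtain ⟨⟨x, hx⟩, -⟩ := hf.nondegenerate z hz0
  refine hx ?_
  set y := x - hermForm n F q x w • v - hermForm n F q x v • w
  have hy : y ∈ U := ⟨(mem_ker_hLin hf).2 (by
      simp [y, sub_eq_add_neg, ← neg_smul, hf.add_left, hf.smul_left, hv, hwv]),
    (mem_ker_hLin hf).2 (by simp [y, sub_eq_add_neg, ← neg_smul, hf.add_left, hf.smul_left, hw, hvw])⟩
  have h := hzU y hy
  simpa [y, sub_eq_add_neg, ← neg_smul, hf.add_left, hf.smul_left,
    herm_eq_zero_comm hf ((mem_ker_hLin hf).1 hz.1),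
    herm_eq_zero_comm hf ((mem_ker_hLin hf).1 hz.2)] using h

theorem not_le_subfield (hF : Fintype.card F = q ^ 2) (hn : 3 ≤ n)
    {F₀ : Subfield F} (hF₀ : F₀ ≠ ⊤) (P : GL (Fin n) F) :
    ¬ suGL n q F ≤ subfieldSubgroup F₀ P := by
  classical
  intro hle
  have hf := isUnitaryForm_hermForm hF n
  have : Nonempty (Fin n) := ⟨⟨0, by omega⟩⟩
  obtain ⟨c, hc0, hc⟩ := exists_trace_zero hf
  set σ := qConj hF
  set Q : Matrix (Fin n) (Fin n) F := ((P⁻¹ : GL (Fin n) F) : Matrix (Fin n) (Fin n) F)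
  have hQinj : ∀ {x : Fin n → F}, Q *ᵥ x = 0 → x = 0 := fun {x} h => by
    have := congrArg ((P : Matrix (Fin n) (Fin n) F) *ᵥ ·) h
    simpa [Q, Matrix.mulVec_zero, mulVec_mulVec_inv] using this
  -- every isotropic line is rational
  have hrat : ∀ v, v ≠ 0 → hermForm n F q v v = 0 → ∃ a : F, a ≠ 0 ∧ RatVec F₀ (a • (Q *ᵥ v)) := by
    intro v hv0 hv
    obtain ⟨g, hg, -, -, hgm⟩ := exists_uTv hF hv hc
    obtain ⟨k, hk, hgk⟩ := hle hg
    change P * k * P⁻¹ = g at hgk
    have hk' : k ∈ subfieldSubgroup F₀ (1 : GL (Fin n) F) := by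
      rw [subfieldSubgroup, map_one]; exact ⟨k, hk, rfl⟩
    obtain ⟨l, hl, hlk⟩ := (mem_subfieldSubgroup_one k).1 hk'
    have hkm : (k : Matrix (Fin n) (Fin n) F) =
        tvMat (Q *ᵥ v) ((c • hDual (hermForm n F q) v) ᵥ* (P : Matrix (Fin n) (Fin n) F)) := by
      have : k = P⁻¹ * g * P := by rw [← hgk]; group
      rw [this, Units.val_mul, Units.val_mul, hgm,
        mul_tvMat_mul _ _ _ _ (by rw [← Units.val_mul, inv_mul_cancel, Units.val_one])]
    rw [hkm] at hlk
    refine exists_rat_multiple hn hl ?_ (fun e => hv0 (hQinj e)) hlk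
    intro e
    obtain ⟨⟨x, hx⟩, -⟩ := hf.nondegenerate v hv0
    have h := congrArg (fun φ => φ ⬝ᵥ (Q *ᵥ x)) e
    simp only [zero_dotProduct, ← Matrix.dotProduct_mulVec, Q, mulVec_mulVec_inv, smul_dotProduct,
      hDual_dot hf, smul_eq_mul, mul_eq_zero] at h
    exact h.elim hc0 hx
  choose! α hα0 hαr using hrat
  -- the pair invariant
  have hpair : ∀ v w, hermForm n F q v v = 0 → hermForm n F q w w = 0 → hermForm n F q w v ≠ 0 →
      ∀ d : F, d + σ d = 0 → d * α v / (hermForm n F q w v * α w) ∈ F₀ := by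
    intro v w hv hw hwv d hd
    have hv0 : v ≠ 0 := by rintro rfl; exact hwv (herm_zero_right hf w)
    have hw0 : w ≠ 0 := by rintro rfl; exact hwv (herm_zero_left hf v)
    set h := hermForm n F q w v
    set b := d / h
    have hbh : b * h = d := div_mul_cancel₀ _ hwv
    have hbh' : σ b * σ h = σ d := by rw [← map_mul, hbh]
    set y := v + b • w
    have hy : hermForm n F q y y = 0 := by
      simp only [y, hf.add_left, hf.smul_left, herm_add_right hf, herm_smul_right hf, hv, hw,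
        hf.herm v w]
      linear_combination hd + hbh + hbh'
    have hy0 : y ≠ 0 := by
      intro e
      have := congrArg (fun x => hermForm n F q x w) e
      simp only [y, hf.add_left, hf.smul_left, hw, mul_zero, add_zero, herm_zero_left hf] at this
      exact hwv (herm_eq_zero_comm hf this)
    set u := α v • (Q *ᵥ v)
    set u' := α w • (Q *ᵥ w)
    have hind : ∀ a b' : F, a • u + b' • u' = 0 → a = 0 ∧ b' = 0 := by
      intro a b' hab
      have h0 : Q *ᵥ ((a * α v) • v + (b' * α w) • w) = 0 := by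
        rw [Matrix.mulVec_add, Matrix.mulVec_smul, Matrix.mulVec_smul, mul_smul, mul_smul]
        exact hab
      have h1 := hQinj h0
      have h2 := congrArg (fun x => hermForm n F q x v) h1
      simp only [hf.add_left, hf.smul_left, hv, mul_zero, zero_add, herm_zero_left hf,
        mul_eq_zero] at h2
      have hb' : b' = 0 := (h2.resolve_right hwv).resolve_right (hα0 w hw0 hw)
      have h3 := congrArg (fun x => hermForm n F q x w) h1
      simp only [hf.add_left, hf.smul_left, hw, mul_zero, add_zero, herm_zero_left hf,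
        mul_eq_zero] at h3
      exact ⟨(h3.resolve_right fun e => hwv (herm_eq_zero_comm hf e)).resolve_right (hα0 v hv0 hv), hb'⟩
    have hyr := hαr y hy0 hy
    have he : α y • (Q *ᵥ y) = (α y / α v) • u + (α y * b / α w) • u' := by
      simp only [y, u, u', Matrix.mulVec_add, Matrix.mulVec_smul, smul_add, smul_smul,
        div_mul_cancel₀ _ (hα0 v hv0 hv), div_mul_cancel₀ _ (hα0 w hw0 hw)]
    rw [he] at hyr
    obtain ⟨hx, hz⟩ := ratPair (hαr v hv0 hv) (hαr w hw0 hw) hind hyr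
    have := div_mem hz hx
    convert this using 1
    have := hα0 y hy0 hy
    have := hα0 v hv0 hv
    have := hα0 w hw0 hw
    simp only [b]
    field_simp
  -- an isotropic pair
  obtain ⟨v, -, hv0, hv⟩ := exists_isotropic hf (U := ⊤)
    (by rw [finrank_top, Module.finrank_fin_fun]; omega)
  obtain ⟨⟨z₀, hz₀⟩, -⟩ := hf.nondegenerate v hv0
  obtain ⟨t, ht⟩ := exists_shift hf hv hz₀
  set w₀ := z₀ + t • v
  have hw₀ : hermForm n F q w₀ v ≠ 0 := by
    rw [hf.add_left, hf.smul_left, hv, mul_zero, add_zero]; exact hz₀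
  set w := (hermForm n F q w₀ v)⁻¹ • w₀
  have hw : hermForm n F q w w = 0 := by rw [hf.smul_left, herm_smul_right hf, ht]; ring
  have hwv : hermForm n F q w v = 1 := by rw [hf.smul_left, inv_mul_cancel₀ hw₀]
  have hwv0 : hermForm n F q w v ≠ 0 := by rw [hwv]; exact one_ne_zero
  have hvw : hermForm n F q v w = 1 := by rw [hf.herm, hwv, map_one]
  have hw0 : w ≠ 0 := by rintro e; exact hwv0 (by rw [e, herm_zero_left hf])
  -- the fixed field lies in `F₀`
  have hfix : ∀ x, σ x = x → x ∈ F₀ := by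
    intro x hx
    have h1 := hpair v w hv hw hwv0 c hc
    have h2 := hpair v w hv hw hwv0 (x * c) (by rw [map_mul, hx, ← mul_add, hc, mul_zero])
    have hne : c * α v / (hermForm n F q w v * α w) ≠ 0 :=
      div_ne_zero (mul_ne_zero hc0 (hα0 v hv0 hv)) (mul_ne_zero hwv0 (hα0 w hw0 hw))
    have := div_mem h2 h1
    convert this using 1
    rw [mul_assoc x, mul_div_assoc x, mul_div_cancel_right₀ x hne]
  have hfix' : ∀ x ∈ F₀, σ x = x := by
    by_contra hne
    push Not at hne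
    obtain ⟨s, hs, hsσ⟩ := hne
    refine hF₀ (eq_top_iff.2 fun x _ => ?_)
    have hd : s - σ s ≠ 0 := sub_ne_zero.2 (Ne.symm hsσ)
    set r := (x - σ x) / (s - σ s) with hr
    have hσσ : ∀ a, σ (σ a) = a := hf.involutive
    have hr1 : σ r = r := by
      rw [hr, map_div₀, map_sub, map_sub, hσσ, hσσ, ← neg_div_neg_eq, neg_sub, neg_sub]
    have h2 : σ (x - r * s) = x - r * s := by
      rw [map_sub, map_mul, hr1]
      have : r * (s - σ s) = x - σ x := div_mul_cancel₀ _ hd
      linear_combination this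
    have := add_mem (hfix _ h2) (mul_mem (hfix r hr1) hs)
    simpa using this
  have hpair' : ∀ v w, hermForm n F q v v = 0 → hermForm n F q w w = 0 →
      hermForm n F q w v ≠ 0 →
      σ (α v / (hermForm n F q w v * α w)) = -(α v / (hermForm n F q w v * α w)) := by
    intro v w hv hw hwv
    have h := hfix' _ (hpair v w hv hw hwv c hc)
    rw [mul_div_assoc, map_mul, show σ c = -c by linear_combination hc] at h
    exact mul_left_cancel₀ hc0 (by linear_combination -h)
  -- a triangle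
  obtain ⟨z, hzv, hzw, hzz⟩ := exists_anisotropic_perp hF hn hv hw hwv
  obtain ⟨b, hb⟩ := exists_trace_eq hf (a := -hermForm n F q z z)
    (by rw [map_neg, herm_self_fixed hf])
  set y := v + b • w + z
  have hvz : hermForm n F q v z = 0 := herm_eq_zero_comm hf hzv
  have hwz : hermForm n F q w z = 0 := herm_eq_zero_comm hf hzw
  have hy : hermForm n F q y y = 0 := by
    simp only [y, hf.add_left, hf.smul_left, herm_add_right hf, herm_smul_right hf, hv, hw, hwv,
      hvw, hvz, hwz, hzv, hzw]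
    linear_combination hb
  have hyw : hermForm n F q y w = 1 := by
    simp [y, hf.add_left, hf.smul_left, hw, hvw, hzw]
  have hvy : hermForm n F q v y = σ b := by
    simp [y, herm_add_right hf, herm_smul_right hf, hv, hvw, hvz]
  have hb0 : σ b ≠ 0 := fun e => hzz (by
    have hb' : b = 0 := σ.map_eq_zero_iff.1 e
    rw [hb', map_zero, add_zero, eq_comm, neg_eq_zero] at hb
    exact hb)
  have hy0 : y ≠ 0 := fun e => by
    rw [e, herm_zero_left hf] at hyw
    exact zero_ne_one hyw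
  have e1 := hpair' v w hv hw hwv0
  have e2 := hpair' w y hw hy (by rw [hyw]; exact one_ne_zero)
  have e3 := hpair' y v hy hv (by rw [hvy]; exact hb0)
  rw [hwv, one_mul] at e1
  rw [hyw, one_mul] at e2
  rw [hvy] at e3
  have a1 := hα0 v hv0 hv
  have a2 := hα0 w hw0 hw
  have a3 := hα0 y hy0 hy
  set A := α v / α w
  set B := α w / α y
  set C := α y / (σ b * α v)
  have hprod : A * B * C = (σ b)⁻¹ := by simp only [A, B, C]; field_simp
  have h4 : σ (A * B * C) = -(A * B * C) := by rw [map_mul, map_mul, e1, e2, e3]; ring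
  rw [hprod, map_inv₀, show σ (σ b) = b from hf.involutive b] at h4
  have h5 : b = -σ b := inv_injective (by rw [inv_neg]; exact h4)
  refine hzz (neg_eq_zero.1 ?_)
  rw [← hb]
  linear_combination h5

end CfsgLib.AschU
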