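import Cfsg.Agent.Lib.AschU.Main
import Cfsg.Agent.Lib.AschU.Classes
import Cfsg.Agent.Lib.AschU.Proper
import Cfsg.Agent.Lib.AschU.Frames
import Cfsg.Agent.Lib.Aschbacher.Linear

/-!
The maximal subgroups of the special unitary groups of small dimension: the common list.
-/

set_option autoImplicit false
set_option linter.unusedSectionVars false

namespace CfsgLib.AschU

open Cfsg Cfsg.Geo CfsgLib.MaxSub Matrix
open scoped MatrixGroups

variable {F : Type*} [Field F] [Fintype F] {n q : ℕ}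

/-- The shapes of geometric maximal subgroups of `SU_n(q)`, `n < 16`, with the generic exclusions. -/
inductive SUShape (n q : ℕ) (H : Subgroup (GL (Fin n) F)) : Prop
  | ts (W : Submodule F (Fin n → F)) (h0 : W ≠ ⊥) (hW : IsTotallySingularFor (hermForm n F q) W)
      (hH : H = subspaceStabilizer W ⊓ suGL n q F)
  | nd (W : Submodule F (Fin n → F)) (h0 : W ≠ ⊥) (hW : IsNondegenerateOn (hermForm n F q) W)
      (h2 : 2 * Module.finrank F W < n) (hH : H = subspaceStabilizer W ⊓ suGL n q F)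
  | decomp (t k : ℕ) (D : Fin t → Submodule F (Fin n → F))
      (hD : IsNondegenerateMDecomposition (hermForm n F q) k D) (htk : t * k = n)
      (hk : ¬ (k = 2 ∧ q = 2)) (hH : H = decompositionStabilizer D ⊓ suGL n q F)
  | halves (k : ℕ) (D : Fin 2 → Submodule F (Fin n → F)) (hk : 2 * k = n)
      (hD : IsMDecomposition k D) (hT : ∀ i, IsTotallySingularFor (hermForm n F q) (D i))
      (hH : H = decompositionStabilizer D ⊓ suGL n q F)
  | subfieldOdd (F₀ : Subfield F) (r : ℕ) (P : GL (Fin n) F) (hr : r.Prime) (hr2 : Odd r)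
      (hF₀ : Fintype.card F = Nat.card F₀ ^ r)
      (hP : IsFormRationalStructure (hermForm n F q) F₀ 1 P)
      (hH : H = subfieldSubgroup F₀ P ⊓ suGL n q F)
  | subfieldOrth (F₀ : Subfield F) (P : GL (Fin n) F) (hq : Odd q)
      (hF₀ : Fintype.card F = Nat.card F₀ ^ 2)
      (hP : IsFormRationalStructure (hermForm n F q) F₀ 1 P)
      (hH : H = subfieldSubgroup F₀ P ⊓ suGL n q F)
  | subfieldSymp (F₀ : Subfield F) (P : GL (Fin n) F) (ζ : F) (hn : Even n)
      (hF₀ : Fintype.card F = Nat.card F₀ ^ 2) (h0 : ζ ≠ 0) (hζ : ζ + ζ ^ q = 0)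
      (hP : IsFormRationalStructure (hermForm n F q) F₀ ζ P)
      (halt : ∀ u : Fin n → F, (∀ i, u i ∈ F₀) →
        hermForm n F q ((P : Matrix (Fin n) (Fin n) F) *ᵥ u) ((P : Matrix (Fin n) (Fin n) F) *ᵥ u) = 0)
      (hH : H = subfieldSubgroup F₀ P ⊓ suGL n q F)
  | sympType (r p e k : ℕ) (R : Subgroup (GL (Fin n) F)) (hR : IsSymplecticTypeGroup r R)
      (habs : ActsAbsolutelyIrreducibly (matrixSet R)) (hsim : R ≤ similarityGroup (hermForm n F q))
      (hrp : r ≠ p) (hmin : IsMinimalFieldFor (Nat.card (Subgroup.center R)) p e F)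
      (hcases : (Odd r ∧ Nat.card (Subgroup.center R) = r ∧ 1 ≤ k ∧ Nat.card R = r ^ (1 + 2 * k)) ∨
        (r = 2 ∧ e = 2 ∧ Nat.card (Subgroup.center R) = 4 ∧ Nat.card R = 2 ^ (2 + 2 * k)))
      (hnk : n = r ^ k) (hH : H = subgroupNormalizer R ⊓ suGL n q F)
  | field (r : ℕ) (K : Subalgebra F (Matrix (Fin n) (Fin n) F)) (hr : r.Prime) (hr2 : Odd r)
      (hrn : r ∣ n) (hK : IsFieldSubalgebra r K) (hA : IsAdjointClosedFor (hermForm n F q) K)
      (hH : H = subalgebraNormalizer K ⊓ suGL n q F)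
  | tensor (n₁ n₂ : ℕ) (e : Fin n ≃ Fin n₁ × Fin n₂) (P : GL (Fin n) F)
      (f₁ : (Fin n₁ → F) → (Fin n₁ → F) → F) (f₂ : (Fin n₂ → F) → (Fin n₂ → F) → F)
      (h1 : 2 ≤ n₁) (h12 : n₁ < n₂) (hn : n₁ * n₂ = n) (hex : ¬ (n₁ = 2 ∧ q = 2))
      (hf₁ : IsUnitaryFormPow q f₁) (hf₂ : IsUnitaryFormPow q f₂)
      (hT : IsTensorFormStructure (fun x : F => x ^ q) (hermForm n F q) f₁ f₂ e P)
      (hH : H = tensorProductSubgroup n₁ n₂ e P ⊓ suGL n q F)
  | wreath (e : Fin n ≃ (Fin 2 → Fin 3)) (P : GL (Fin n) F) (f₁ : (Fin 3 → F) → (Fin 3 → F) → F)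
      (hq : q ≠ 2) (hn : n = 9) (hf₁ : IsUnitaryFormPow q f₁)
      (hT : IsTensorPowerFormStructure (fun x : F => x ^ q) (hermForm n F q) f₁ e P)
      (hH : H = tensorWreathSubgroup 3 2 e P ⊓ suGL n q F)

theorem subfield_ne_top {F₀ : Subfield F} {r : ℕ} (hr : 2 ≤ r)
    (h : Fintype.card F = Nat.card F₀ ^ r) : F₀ ≠ ⊤ := by
  rintro rfl
  have hc : Nat.card (⊤ : Subfield F) = Fintype.card F := by
    rw [← Nat.card_eq_fintype_card]
    exact Nat.card_congr Subfield.topEquiv.toEquiv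
  rw [hc] at h
  have h1 : 1 < Fintype.card F := Fintype.one_lt_card
  have h2 : Fintype.card F ^ 1 < Fintype.card F ^ r := Nat.pow_lt_pow_right h1 hr
  rw [pow_one, ← h] at h2
  exact lt_irrefl _ h2

theorem shape_or_residual (hF : Fintype.card F = q ^ 2) (hn : 3 ≤ n) (hn16 : n < 16)
    (h32 : ¬ (n = 3 ∧ q = 2)) {H : Subgroup (GL (Fin n) F)} (hH : IsMaximalIn (suGL n q F) H) :
    SUShape n q H ∨ InUnitaryResidualClass H := by
  have : Nonempty (Fin n) := ⟨⟨0, by omega⟩⟩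
  have hle : H ≤ suGL n q F := hH.1.le
  rcases member_or_residual hF (by omega) (hle.trans inf_le_left) with ⟨M, hM, hHM⟩ | h
  swap
  · exact Or.inr h
  left
  have key : ∀ X : Subgroup (GL (Fin n) F), H ≤ X → ¬ suGL n q F ≤ X → H = X ⊓ suGL n q F :=
    fun X h1 h2 => ((hH.2 _ (le_inf h1 hle) inf_le_right).resolve_right
      fun e => h2 (inf_eq_right.1 e)).symm
  rcases hM with (h | h | h | h | h | h | h | h) | h | h | h
  · obtain ⟨W, h0, hW, rfl⟩ := h
    exact .ts W h0 hW (key _ (hHM.trans inf_le_left)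
      (not_le_subspace hF (by omega) h0 (ne_top_of_totallySingular hF (by omega) hW)))
  · obtain ⟨W, h0, hW, h2, rfl⟩ := h
    refine .nd W h0 hW h2 (key _ (hHM.trans inf_le_left) (not_le_subspace hF (by omega) h0 ?_))
    rintro rfl
    rw [finrank_top, Module.finrank_fin_fun] at h2
    omega
  · obtain ⟨t, k, D, hD, rfl⟩ := h
    have htk := decomp_card hD.decomp
    by_cases hex : k = 2 ∧ q = 2
    · obtain ⟨rfl, hq⟩ := hex
      obtain ⟨D', hD', hle'⟩ := planes_refine hF hq hD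
      exact .decomp n 1 D' hD' (mul_one n) (fun h => absurd h.1 (by norm_num))
        (key _ (hHM.trans hle') (not_le_frame hF hn h32 hD'))
    refine .decomp t k D hD htk hex (key _ (hHM.trans inf_le_left) ?_)
    rcases Nat.lt_or_ge k 2 with hk | hk
    · obtain rfl : k = 1 := by have := hD.decomp.pos; omega
      exact not_le_frame hF hn h32 hD
    · exact not_le_decomposition hF hn h32 hk hD.decomp
  · obtain ⟨k, D, hk, hD, hT, rfl⟩ := h
    exact .halves k D hk hD hT (key _ (hHM.trans inf_le_left)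
      (not_le_decomposition hF hn h32 (by omega) hD))
  · obtain ⟨F₀, r, P, hr, hr2, hc, hP, rfl⟩ := h
    exact .subfieldOdd F₀ r P hr hr2 hc hP (key _ (hHM.trans inf_le_left)
      (not_le_subfield hF hn (subfield_ne_top hr.two_le hc) P))
  · obtain ⟨F₀, P, hq, hc, hP, rfl⟩ := h
    exact .subfieldOrth F₀ P hq hc hP (key _ (hHM.trans inf_le_left)
      (not_le_subfield hF hn (subfield_ne_top le_rfl hc) P))
  · obtain ⟨F₀, P, ζ, he, hc, h0, hζ, hP, halt, rfl⟩ := h
    exact .subfieldSymp F₀ P ζ he hc h0 hζ hP halt (key _ (hHM.trans inf_le_left)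
      (not_le_subfield hF hn (subfield_ne_top le_rfl hc) P))
  · obtain ⟨r, R, p, e, k, hR, habs, hsim, hrp, hmin, hcases, hnk, rfl⟩ := h
    exact .sympType r p e k R hR habs hsim hrp hmin hcases hnk (key _ (hHM.trans inf_le_left)
      (not_le_normalizer hF hn h32 hR.pGroup hR.prime hsim habs.1))
  · obtain ⟨r, K, hr, hr2, hK, hA, rfl⟩ := h
    have hrn : r ∣ n := by
      simpa using CfsgLib.Aschbacher.dvd_card_of_isFieldSubalgebra hK
    exact .field r K hr hr2 hrn hK hA (key _ (hHM.trans inf_le_left)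
      (not_le_field hF hn h32 hr.two_le hK))
  · obtain ⟨n₁, n₂, e, P, f₁, f₂, h1, h12, hf₁, hf₂, hT, rfl⟩ := h
    have hn12 : n₁ * n₂ = n := by simpa using (Fintype.card_congr e).symm
    by_cases hex : n₁ = 2 ∧ q = 2
    · obtain ⟨rfl, hq⟩ := hex
      obtain ⟨D, hD, hle'⟩ := tensor_refine hF hq (by omega) hf₁ hf₂ hT
      exact .decomp 2 n₂ D hD hn12 (fun h => by omega)
        (key _ (hHM.trans hle') (not_le_decomposition hF hn h32 (by omega) hD.decomp))
    exact .tensor n₁ n₂ e P f₁ f₂ h1 h12 hn12 hex hf₁ hf₂ hT (key _ (hHM.trans inf_le_left)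
      (not_le_tensor hF (by omega) h1 (by omega) e P))
  · obtain ⟨k, t, e, P, f₁, hk, ht, hex, hf₁, hT, rfl⟩ := h
    have hkt : k ^ t = n := by simpa using (Fintype.card_congr e).symm
    obtain rfl : t = 2 := by
      by_contra hne
      have h3 : 3 ^ 3 ≤ k ^ t := (Nat.pow_le_pow_left hk 3).trans
        (Nat.pow_le_pow_right (by omega) (by omega))
      omega
    obtain rfl : k = 3 := by nlinarith
    exact .wreath e P f₁ (fun h => hex ⟨h, rfl⟩) (by omega) hf₁ hT (key _ (hHM.trans inf_le_left)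
      (not_le_wreath hF hn h32 e P))

theorem pow_facts {r k : ℕ} (hr : r.Prime) (hk : n = r ^ k)
    (hn : 1 < n) : r ∣ n ∧ r ≤ n ∧ k < n := by
  have hk0 : k ≠ 0 := by rintro rfl; rw [pow_zero] at hk; omega
  have hdvd : r ∣ n := hk ▸ dvd_pow_self r hk0
  exact ⟨hdvd, Nat.le_of_dvd (by omega) hdvd,
    hk ▸ (Nat.lt_pow_self hr.one_lt : k < r ^ k)⟩

/-- the field parameters forced by minimality, odd case -/
theorem exists_odd_degree (hF : Fintype.card F = q ^ 2) {r p e : ℕ} (hr : r.Prime) (hrp : r ≠ p)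
    (hmin : IsMinimalFieldFor r p e F) :
    ∃ a, 0 < a ∧ q = p ^ a ∧ 2 * a ≤ r - 1 ∧ p % r < r ∧ (p % r) ^ (2 * a) % r = 1 ∧
      ∀ d, 0 < d → d < 2 * a → (p % r) ^ d % r ≠ 1 := by
  obtain ⟨hp, -, hc, hdvd, hlt⟩ := hmin
  obtain ⟨a, -, rfl⟩ := (Nat.dvd_prime_pow hp).1 (show q ∣ p ^ e by
    rw [← hc, hF]; exact dvd_pow_self q two_ne_zero)
  have he : e = 2 * a := Nat.pow_right_injective hp.two_le
    (show p ^ e = p ^ (2 * a) by rw [← hc, hF, ← pow_mul, mul_comm])
  subst he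
  have iff : ∀ d, r ∣ p ^ d - 1 ↔ (p % r) ^ d % r = 1 := fun d => by
    rw [← Nat.pow_mod, ← Nat.modEq_iff_dvd' (Nat.one_le_pow _ _ hp.pos), Nat.ModEq,
      Nat.one_mod_eq_one.2 hr.ne_one, eq_comm]
  have ha : 0 < a := by
    rcases Nat.eq_zero_or_pos a with rfl | h
    · have := Fintype.one_lt_card (α := F)
      simp [hc] at this
    · exact h
  refine ⟨a, ha, rfl, ?_, Nat.mod_lt _ hr.pos, (iff _).1 hdvd, fun d h1 h2 => mt (iff d).2 (hlt d h1 h2)⟩
  by_contra hlt'
  push Not at hlt'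
  refine hlt (r - 1) (by have := hr.two_le; omega) hlt' ?_
  have hcop : p.Coprime r := (Nat.coprime_primes hp hr).2 hrp.symm
  have h := Nat.ModEq.pow_totient hcop
  rw [Nat.totient_prime hr] at h
  exact (Nat.modEq_iff_dvd' (Nat.one_le_pow _ _ hp.pos)).1 h.symm

/-- the field parameters forced by minimality, two-group case -/
theorem prime_field_of_two (hF : Fintype.card F = q ^ 2) {p : ℕ} (hp2 : 2 ≠ p)
    (hmin : IsMinimalFieldFor 4 p 2 F) : q = p ∧ p % 4 = 3 := by
  obtain ⟨hp, -, hc, -, hlt⟩ := hmin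
  have hqp : q = p := Nat.pow_left_injective two_ne_zero (show q ^ 2 = p ^ 2 by rw [← hF, hc])
  refine ⟨hqp, ?_⟩
  have hodd := Nat.odd_iff.1 (hp.odd_of_ne_two hp2.symm)
  have h1 := hlt 1 one_pos one_lt_two
  rw [pow_one, Nat.dvd_iff_mod_eq_zero] at h1
  omega

/-- A group of odd exponent dividing `q + 1` in the similarity group consists of isometries. -/
theorem le_GU_of_exponent (hF : Fintype.card F = q ^ 2) (hn : 0 < n) {r : ℕ}
    {R : Subgroup (GL (Fin n) F)} (hR : R ≤ similarityGroup (hermForm n F q)) (hr : Odd r)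
    (hrq : r ∣ q + 1) (hexp : ∀ x ∈ R, x ^ r = 1) : R ≤ GU n F q := by
  intro x hx
  have hf := isUnitaryForm_hermForm hF n
  obtain ⟨c, hc⟩ := hR hx
  have hpow : ∀ m : ℕ, ∀ u v, hermForm n F q (((x ^ m : GL (Fin n) F) : Matrix (Fin n) (Fin n) F) *ᵥ u)
      (((x ^ m : GL (Fin n) F) : Matrix (Fin n) (Fin n) F) *ᵥ v) = (c : F) ^ m * hermForm n F q u v := by
    intro m
    induction m with
    | zero => intro u v; simp
    | succ m ih =>
      intro u v
      rw [pow_succ, Units.val_mul, ← Matrix.mulVec_mulVec, ← Matrix.mulVec_mulVec, ih, hc, pow_succ,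
        mul_assoc]
  obtain ⟨v, hv⟩ : ∃ v, hermForm n F q v v ≠ 0 := by
    obtain ⟨v, -, hv⟩ := exists_anisotropic hf (U := ⊤)
      (by rw [finrank_top, Module.finrank_fin_fun]; omega)
    exact ⟨v, hv⟩
  have h1 : (c : F) ^ r = 1 := by
    have h := hpow r v v
    rw [hexp x hx, Units.val_one, Matrix.one_mulVec] at h
    exact (mul_eq_right₀ hv).1 h.symm
  have h2 : (c : F) ^ q = c := by
    have h := hc v v
    have h' := congrArg (qConj hF) h
    rw [map_mul, herm_self_fixed hf, herm_self_fixed hf, h] at h'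
    rw [← qConj_apply hF]
    exact (mul_right_cancel₀ hv h').symm
  have h3 : (c : F) * c = 1 := by
    obtain ⟨w, hw⟩ := hrq
    have h : (c : F) ^ (q + 1) = 1 := by rw [hw, pow_mul, h1, one_pow]
    rwa [pow_succ, h2] at h
  have h4 : (c : F) = 1 := by
    obtain ⟨w, hw⟩ := hr
    rwa [hw, pow_succ, pow_mul, sq, h3, one_pow, one_mul] at h1
  intro u v
  have h := hc u v
  rw [h4, one_mul] at h
  exact h

end CfsgLib.AschU
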