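import Cfsg.Agent.Lib.AschU.TensorMember
import Cfsg.Agent.Lib.AschU.Decomp
import Cfsg.Agent.Lib.AschU.Field
import Cfsg.Agent.Lib.Aschbacher.Main
import Cfsg.Agent.Lib.Aschbacher.SympForms

/-!
The structure theorem for subgroups of the unitary groups.
-/

set_option autoImplicit false

namespace CfsgLib.AschU

open Cfsg Cfsg.Geo CfsgLib.MaxSub CfsgLib.Aschbacher Matrix
open scoped MatrixGroups

variable {F : Type*} [Field F] [Fintype F] {n q : ℕ}

theorem member_or_residual (hF : Fintype.card F = q ^ 2) (hn : 2 ≤ n)
    {H : Subgroup (GL (Fin n) F)} (hH : H ≤ GU n F q) :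
    (∃ M : Subgroup (GL (Fin n) F), UClass n q M ∧ H ≤ M) ∨ InUnitaryResidualClass H := by
  classical
  set G := H ⊔ scalars (Fin n) F with hGdef
  have hHG : H ≤ G := le_sup_left
  have hG : G ≤ similarityGroup (hermForm n F q) := sup_scalars_le_similarityGroup hF hH
  by_cases hirr : ActsIrreducibly (matrixSet G)
  · cases core (G := G) (by rw [Fintype.card_fin]; exact hn) hirr le_sup_right with
    | decomp L hLG hL t E hE => exact Or.inl (member_of_idemSystem hF hG hLG hE hHG hH)
    | field L hLG hL hinv hdim =>
      exact Or.inl (member_of_field hF (by omega) hG hLG hL hinv hdim hHG hH)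
    | tensor L hLG hL d m e P hd hm hA hle =>
      exact Or.inl (member_of_tensor hF hn hG hLG e P hd hm hA hle hHG hH)
    | wreath t d L hLG hperm htrans e P ht hd hA hle hperf =>
      exact Or.inl (member_of_wreath hF hn hG hLG e P ht hd hA hle hHG hH)
    | sympType r m R hRG hR hdata =>
      exact Or.inl (member_of_sympType hF hn hH (hRG.trans hG) hR hdata fun F₀ h => hdata.realisable h)
    | almostSimple P hP => exact member_or_residual_of_simple hF hn hH hP
  · left
    rw [actsIrreducibly_iff] at hirr
    push Not at hirr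
    obtain ⟨W, hW, h0, ht⟩ := hirr
    exact exists_member_of_invariant hF hH h0 ht fun g hg =>
      mem_subspaceStabilizer_of_maps fun x hx => hW g (hHG hg) x hx

end CfsgLib.AschU
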