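import Cfsg.Agent.Lib.AschU.LineStab
import Cfsg.Agent.Lib.AschU.Proper
import Cfsg.Agent.Lib.MaxSub.BlockMono

/-!
Moving an orthonormal family to the standard basis.
-/

set_option autoImplicit false
set_option linter.unusedSectionVars false

namespace CfsgLib.AschU

open Cfsg Cfsg.Geo CfsgLib.MaxSub Matrix
open scoped MatrixGroups

variable {F : Type*} [Field F] [Fintype F] {n q : ℕ}

/-- An orthonormal family is the image of the standard basis under a unitary element. -/
theorem exists_GU_of_orth (hF : Fintype.card F = q ^ 2) {d : Fin n → Fin n → F}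
    (h : ∀ i j, hermForm n F q (d i) (d j) = if i = j then 1 else 0) :
    ∃ g ∈ GU n F q, ∀ i, (g : Matrix (Fin n) (Fin n) F) *ᵥ Pi.single i 1 = d i := by
  classical
  let B : Matrix (Fin n) (Fin n) F := fun r c => d c r
  have hB : adjM hF B * B = 1 := by
    ext i j
    rw [Matrix.mul_apply, Matrix.one_apply]
    have h1 := h j i
    rw [hermForm_eq_dot hF] at h1
    rw [show (if i = j then (1 : F) else 0) = if j = i then 1 else 0 by simp [eq_comm], ← h1]
    exact Finset.sum_congr rfl fun k _ => by show qConj hF (d i k) * d j k = d j k * qConj hF (d i k); ring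
  refine ⟨⟨B, adjM hF B, mul_eq_one_comm.1 hB, hB⟩, mem_GU_of_adjM hF hB, fun i => ?_⟩
  funext r
  show (B *ᵥ Pi.single i 1) r = d i r
  rw [Matrix.mulVec_single_one]
  rfl

theorem monomial_of_mulVec {s : Matrix (Fin n) (Fin n) F} {σ : Equiv.Perm (Fin n)} {e : Fin n → F}
    (h : ∀ i, s *ᵥ Pi.single i 1 = e i • Pi.single (σ i) 1) : s = DecompMax.monMat σ e := by
  ext j i
  have := congrFun (h i) j
  rw [Matrix.mulVec_single_one] at this
  rw [show s j i = s.col i j from rfl, this]
  simp [DecompMax.monMat, Pi.single_apply]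

/-- A maximal subgroup keeping a frame has a conjugate consisting of monomial matrices. -/
theorem exists_monomial (hF : Fintype.card F = q ^ 2) (hn : 0 < n)
    {H : Subgroup (GL (Fin n) F)} (hH : IsMaximalIn (suGL n q F) H)
    {t : ℕ} {D : Fin t → Submodule F (Fin n → F)}
    (hD : IsNondegenerateMDecomposition (hermForm n F q) 1 D) (hle : H ≤ decompositionStabilizer D) :
    ∃ H' : Subgroup (GL (Fin n) F), IsMaximalIn (suGL n q F) H' ∧ ∀ s ∈ H',
      ∃ (σ : Equiv.Perm (Fin n)) (e : Fin n → F),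
        (s : Matrix (Fin n) (Fin n) F) = DecompMax.monMat σ e ∧
        (∀ i, e i * qConj hF (e i) = 1) ∧ ((Equiv.Perm.sign σ : ℤ) : F) * ∏ i, e i = 1 := by
  classical
  have hf := isUnitaryForm_hermForm hF n
  obtain rfl : t = n := by rw [← decomp_card hD.decomp, mul_one]
  obtain ⟨d, hd, hdd, hdo⟩ := frame_vectors hF hD
  choose c hc using fun i => exists_norm_eq hf (e := (hermForm t F q (d i) (d i))⁻¹)
    (by rw [map_inv₀, herm_self_fixed hf])
  have hc0 : ∀ i, c i ≠ 0 := fun i h => by
    have := hc i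
    rw [h, zero_mul, eq_comm, inv_eq_zero] at this
    exact hdd i this
  obtain ⟨g, hgU, hg⟩ := exists_GU_of_orth hF (d := fun i => c i • d i) fun i j => by
    rw [hf.smul_left, herm_smul_right hf]
    rcases eq_or_ne i j with rfl | hij
    · rw [if_pos rfl, ← mul_assoc, hc, inv_mul_cancel₀ (hdd i)]
    · rw [if_neg hij, hdo i j hij, mul_zero, mul_zero]
  refine ⟨H.map (MulAut.conj g⁻¹).toMonoidHom, isMaximalIn_conj hH (inv_mem hgU), ?_⟩
  rintro s hs
  have hsS := (isMaximalIn_conj hH (inv_mem hgU)).1.le hs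
  obtain ⟨h, hh, rfl⟩ := hs
  obtain ⟨σ, hσ⟩ := hle hh
  have hspan : ∀ i, D i = Submodule.span F {c i • d i} := fun i => by
    refine (Submodule.eq_of_le_of_finrank_eq ?_ ?_).symm
    · rw [Submodule.span_singleton_le_iff_mem]; exact (D i).smul_mem _ (hd i)
    · rw [hD.decomp.finrank_eq, finrank_span_singleton]
      exact fun e => hdd i (by
        rw [(smul_eq_zero.1 e).resolve_left (hc0 i), herm_zero_left hf])
  have hex : ∀ i, ∃ a : F, (h : Matrix (Fin t) (Fin t) F) *ᵥ (c i • d i) = a • (c (σ i) • d (σ i)) := by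
    intro i
    have : (h : Matrix (Fin t) (Fin t) F) *ᵥ (c i • d i) ∈ D (σ i) := by
      rw [← hσ i]
      exact ⟨_, (D i).smul_mem _ (hd i), Matrix.toLin'_apply _ _⟩
    rw [hspan, Submodule.mem_span_singleton] at this
    obtain ⟨a, ha⟩ := this
    exact ⟨a, ha.symm⟩
  choose e he using hex
  have hact : ∀ i, ((g⁻¹ * h * g : GL (Fin t) F) : Matrix (Fin t) (Fin t) F) *ᵥ Pi.single i 1 =
      e i • Pi.single (σ i) 1 := by
    intro i
    rw [Units.val_mul, Units.val_mul, ← Matrix.mulVec_mulVec, ← Matrix.mulVec_mulVec, hg, he,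
      Matrix.mulVec_smul, ← hg, inv_mulVec_mulVec]
  have hconj : (MulAut.conj g⁻¹).toMonoidHom h = g⁻¹ * h * g := by simp
  rw [hconj] at hsS ⊢
  have hmon := monomial_of_mulVec hact
  refine ⟨σ, e, hmon, fun i => ?_, ?_⟩
  · have := hsS.1 (Pi.single i 1) (Pi.single i 1)
    change hermForm t F q (((g⁻¹ * h * g : GL (Fin t) F) : Matrix (Fin t) (Fin t) F) *ᵥ Pi.single i 1)
      (((g⁻¹ * h * g : GL (Fin t) F) : Matrix (Fin t) (Fin t) F) *ᵥ Pi.single i 1) = _ at this
    rw [hact, hf.smul_left, herm_smul_right hf] at this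
    have h1 : ∀ j : Fin t, hermForm t F q (Pi.single j 1) (Pi.single j 1) = 1 := fun j => by
      rw [hermForm_eq_dot hF, single_dotProduct, one_mul]
      simp
    simpa [h1] using this
  · have := congrArg Units.val (show Matrix.GeneralLinearGroup.det (g⁻¹ * h * g) = 1 from hsS.2)
    rw [← DecompMax.det_monMat, ← hmon]
    rw [Units.val_one, Matrix.GeneralLinearGroup.val_det_apply] at this
    exact this

end CfsgLib.AschU
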