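import Cfsg.Agent.Lib.AschU.Adjoint
import Cfsg.Agent.Lib.Aschbacher.Centre
import Cfsg.Agent.Lib.MaxSub.Rational
import Cfsg.Agent.Lib.KnownA.AltRank

/-!
An absolutely irreducible group of similitudes that is rational over a proper subfield: the standard
unitary form is a multiple of a rational form, giving a member of the fifth class.
-/

set_option autoImplicit false

namespace CfsgLib.AschU

open Cfsg Cfsg.Geo CfsgLib.MaxSub CfsgLib.Aschbacher Matrix
open scoped MatrixGroups

variable {F : Type*} [Field F] [Fintype F] {n q : ℕ}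

/-- The Gram matrix of the standard form in the columns of `A`. -/
noncomputable def gramU (hF : Fintype.card F = q ^ 2) (A : Matrix (Fin n) (Fin n) F) :
    Matrix (Fin n) (Fin n) F :=
  Aᵀ * A.map (qConj hF)

theorem hermForm_mulVec_gramU (hF : Fintype.card F = q ^ 2) (A : Matrix (Fin n) (Fin n) F)
    (u v : Fin n → F) :
    hermForm n F q (A *ᵥ u) (A *ᵥ v) = u ⬝ᵥ (gramU hF A *ᵥ (qConj hF ∘ v)) := by
  rw [hermForm_eq_dot hF, gramU, ← Matrix.mulVec_mulVec]
  have h : qConj hF ∘ (A *ᵥ v) = A.map (qConj hF) *ᵥ (qConj hF ∘ v) := by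
    funext i
    simp [Matrix.mulVec, dotProduct, map_sum]
  rw [h, Matrix.dotProduct_mulVec u, Matrix.vecMul_transpose]

theorem gramU_herm (hF : Fintype.card F = q ^ 2) (A : Matrix (Fin n) (Fin n) F) :
    ((gramU hF A).map (qConj hF))ᵀ = gramU hF A := by
  rw [gramU, Matrix.map_mul, Matrix.transpose_mul, Matrix.transpose_map, Matrix.transpose_transpose,
    Matrix.map_map]
  congr 1
  ext i j
  simp [qConj_qConj]

/-- A similitude in matrix form. -/
theorem gramU_of_similitude (hF : Fintype.card F = q ^ 2) {g : GL (Fin n) F} {c : F}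
    (hc : ∀ u v, hermForm n F q ((g : Matrix (Fin n) (Fin n) F) *ᵥ u)
      ((g : Matrix (Fin n) (Fin n) F) *ᵥ v) = c * hermForm n F q u v) :
    gramU hF (g : Matrix (Fin n) (Fin n) F) = c • 1 := by
  ext i j
  have h := hc (Pi.single i 1) (Pi.single j 1)
  have h1 : qConj hF ∘ (Pi.single j (1 : F) : Fin n → F) = Pi.single j 1 := by
    funext k
    by_cases hk : k = j <;> simp [hk]
  rw [hermForm_mulVec_gramU hF, h1, hermForm_eq_dot hF, h1, single_dotProduct, single_dotProduct,
    Matrix.mulVec_single_one, Matrix.col_apply, one_mul, one_mul] at h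
  rw [Matrix.smul_apply, smul_eq_mul, Matrix.one_apply, h]
  by_cases hij : i = j <;> simp [hij]

theorem mem_subfield_of_pow_card {F₀ : Subfield F} {x : F} (hx : x ^ Nat.card F₀ = x) : x ∈ F₀ := by
  classical
  have := Fintype.ofFinite F₀
  rw [Nat.card_eq_fintype_card] at hx
  have hN : 1 < Fintype.card F₀ := Fintype.one_lt_card
  let poly : Polynomial F := Polynomial.X ^ Fintype.card F₀ - Polynomial.X
  have hp0 : poly ≠ 0 := FiniteField.X_pow_card_sub_X_ne_zero F hN
  let S : Finset F := Finset.univ.image (fun a : F₀ => (a : F))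
  have hS : S = poly.roots.toFinset := by
    refine Finset.eq_of_subset_of_card_le (fun y hy => ?_) ?_
    · obtain ⟨a, -, rfl⟩ := Finset.mem_image.1 hy
      rw [Multiset.mem_toFinset, Polynomial.mem_roots hp0]
      simp [poly, ← SubmonoidClass.coe_pow, FiniteField.pow_card]
    · rw [Finset.card_image_of_injective _ Subtype.val_injective, Finset.card_univ]
      refine (Multiset.toFinset_card_le _).trans ((Polynomial.card_roots' _).trans (le_of_eq ?_))
      exact FiniteField.X_pow_card_sub_X_natDegree_eq F hN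
  have : x ∈ S := by
    rw [hS, Multiset.mem_toFinset, Polynomial.mem_roots hp0]
    simp [poly, hx]
  obtain ⟨a, -, rfl⟩ := Finset.mem_image.1 this
  exact a.2

theorem pow_card_of_mem {F₀ : Subfield F} {x : F} (hx : x ∈ F₀) : x ^ Nat.card F₀ = x := by
  have := Fintype.ofFinite F₀
  rw [Nat.card_eq_fintype_card]
  exact congrArg Subtype.val (FiniteField.pow_card (⟨x, hx⟩ : F₀))

/-- The Gram matrix in a rational basis is a multiple of a rational matrix. -/
theorem exists_rational_gram (hF : Fintype.card F = q ^ 2) (hn : 0 < n) {F₀ : Subfield F}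
    {P : Subgroup (GL (Fin n) F)} {B : GL (Fin n) F} (halg : alg P = ⊤)
    (hrat : ∀ x ∈ P, RatMat F₀ (cj B⁻¹ (x : Matrix (Fin n) (Fin n) F)))
    (hmult : ∀ x ∈ P, ∃ c : F, c ∈ F₀ ∧ ∀ u v, hermForm n F q ((x : Matrix (Fin n) (Fin n) F) *ᵥ u)
      ((x : Matrix (Fin n) (Fin n) F) *ᵥ v) = c * hermForm n F q u v) :
    ∃ (γ : F) (C₀ : Matrix (Fin n) (Fin n) F), γ ≠ 0 ∧ RatMat F₀ C₀ ∧
      gramU hF (B : Matrix (Fin n) (Fin n) F) = γ • C₀ := by
  classical
  have : Nonempty (Fin n) := ⟨⟨0, hn⟩⟩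
  set σ := qConj hF
  set C := gramU hF (B : Matrix (Fin n) (Fin n) F) with hC
  have hCu : IsUnit C := by
    rw [hC, gramU]
    refine IsUnit.mul ?_ ?_
    · rw [Matrix.isUnit_iff_isUnit_det, Matrix.det_transpose, ← Matrix.isUnit_iff_isUnit_det]
      exact B.isUnit
    · exact B.isUnit.map (qConj hF).toRingHom.mapMatrix
  obtain ⟨i₀, j₀, hij⟩ : ∃ i j, C i j ≠ 0 := by
    by_contra h
    push Not at h
    exact hCu.ne_zero (Matrix.ext fun i j => h i j)
  let C₀ := (C i₀ j₀)⁻¹ • C
  have hCC : C = C i₀ j₀ • C₀ := by simp [C₀, smul_smul, mul_inv_cancel₀ hij]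
  refine ⟨C i₀ j₀, C₀, hij, ?_, hCC⟩
  -- the Frobenius of the subfield
  obtain ⟨p, hp⟩ := CharP.exists F
  have : Fact p.Prime := ⟨CharP.char_is_prime F p⟩
  obtain ⟨k, hk⟩ : ∃ k, Nat.card F₀ = p ^ k := by
    have := Fintype.ofFinite F₀
    have : CharP F₀ p := Subfield.charP F₀ p
    obtain ⟨k, -, hk⟩ := FiniteField.card F₀ p
    exact ⟨k, by rw [Nat.card_eq_fintype_card, hk]⟩
  let fr : F →+* F := iterateFrobenius F p k
  have hfr : ∀ x, fr x = x ^ Nat.card F₀ := fun x => by rw [hk]; exact iterateFrobenius_def ..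
  have hfrσ : ∀ x, fr (σ x) = σ (fr x) := fun x => by
    rw [hfr, hfr, map_pow]
  have hfix : ∀ {A : Matrix (Fin n) (Fin n) F}, RatMat F₀ A → A.map fr = A := fun {A} hA =>
    Matrix.ext fun i j => by rw [Matrix.map_apply, hfr, pow_card_of_mem (hA i j)]
  let C' := C₀.map fr
  -- both matrices are invariant
  have hinv : ∀ x ∈ P, ∀ c : F, c ∈ F₀ → (∀ u v, hermForm n F q ((x : Matrix (Fin n) (Fin n) F) *ᵥ u)
      ((x : Matrix (Fin n) (Fin n) F) *ᵥ v) = c * hermForm n F q u v) →
      let g := cj B⁻¹ (x : Matrix (Fin n) (Fin n) F)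
      gᵀ * C₀ * g.map σ = c • C₀ ∧ gᵀ * C' * g.map σ = c • C' := by
    intro x hx c hc0 hc g
    have hBg : (B : Matrix (Fin n) (Fin n) F) * g = (x : Matrix (Fin n) (Fin n) F) * B := by
      simp [g, cj_apply, ← mul_assoc]
    have h1 : gᵀ * C * g.map σ = c • C := by
      calc gᵀ * C * g.map σ = ((B : Matrix (Fin n) (Fin n) F) * g)ᵀ *
            ((B : Matrix (Fin n) (Fin n) F) * g).map σ := by
            rw [hC, gramU, Matrix.transpose_mul, Matrix.map_mul]; noncomm_ring
        _ = (B : Matrix (Fin n) (Fin n) F)ᵀ * gramU hF (x : Matrix (Fin n) (Fin n) F) *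
            (B : Matrix (Fin n) (Fin n) F).map σ := by
            rw [hBg, gramU, Matrix.transpose_mul, Matrix.map_mul]; noncomm_ring
        _ = c • C := by
            rw [gramU_of_similitude hF hc, Matrix.mul_smul, mul_one, Matrix.smul_mul, hC, gramU]
    have h0 : gᵀ * C₀ * g.map σ = c • C₀ := by
      simp only [C₀, Matrix.mul_smul, Matrix.smul_mul, h1]
      rw [smul_comm]
    refine ⟨h0, ?_⟩
    have h2 := congrArg (fun A : Matrix (Fin n) (Fin n) F => A.map fr) h0
    simp only [Matrix.map_mul, Matrix.map_smul' fr c C₀ (map_mul fr)] at h2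
    rw [Matrix.transpose_map, hfix (hrat x hx), Matrix.map_map,
      show (fr ∘ σ) = (σ ∘ fr) from funext hfrσ, ← Matrix.map_map, hfix (hrat x hx),
      hfr, pow_card_of_mem hc0] at h2
    exact h2
  obtain ⟨Cu, hCu'⟩ : IsUnit C₀ := by
    have : C₀ = ((C i₀ j₀)⁻¹ • (1 : Matrix (Fin n) (Fin n) F)) * C := by
      rw [Matrix.smul_mul, one_mul]
    rw [this]
    refine IsUnit.mul ?_ hCu
    rw [← Algebra.algebraMap_eq_smul_one]
    exact (inv_ne_zero hij).isUnit.map _
  let Ci : Matrix (Fin n) (Fin n) F := (Cu⁻¹ : GL (Fin n) F)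
  let X := Ci * C'
  have hcomm : ∀ x ∈ P, Commute X ((cj B⁻¹ (x : Matrix (Fin n) (Fin n) F)).map σ) := by
    intro x hx
    obtain ⟨c, hc0, hc⟩ := hmult x hx
    obtain ⟨h0, h1⟩ := hinv x hx c hc0 hc
    set g := cj B⁻¹ (x : Matrix (Fin n) (Fin n) F)
    obtain ⟨gt, hgt⟩ : IsUnit gᵀ := by
      rw [Matrix.isUnit_iff_isUnit_det, Matrix.det_transpose, ← Matrix.isUnit_iff_isUnit_det]
      exact x.isUnit.map (cj B⁻¹)
    let Ti : Matrix (Fin n) (Fin n) F := (gt⁻¹ : GL (Fin n) F)
    have a0 : C₀ * g.map σ = c • (Ti * C₀) := by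
      rw [← Matrix.mul_smul, ← h0, ← hgt]; simp [Ti, mul_assoc]
    have a1 : C' * g.map σ = c • (Ti * C') := by
      rw [← Matrix.mul_smul, ← h1, ← hgt]; simp [Ti, mul_assoc]
    have hCi : Ci * C₀ = 1 := by simp [Ci, ← hCu']
    have hCi' : C₀ * Ci = 1 := by simp [Ci, ← hCu']
    show X * g.map σ = g.map σ * X
    calc X * g.map σ = Ci * (C' * g.map σ) := mul_assoc _ _ _
      _ = Ci * (c • (Ti * C₀)) * X := by
        rw [a1]
        simp only [X, Matrix.mul_smul, Matrix.smul_mul, mul_assoc]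
        rw [← mul_assoc C₀ Ci C', hCi', one_mul]
      _ = g.map σ * X := by rw [← a0, ← mul_assoc Ci C₀, hCi, one_mul]
  -- so `X` is scalar
  let Y := cj B (X.map σ)
  have hY : ∀ z : Matrix (Fin n) (Fin n) F, Commute z Y := by
    intro z
    refine commute_alg (L := P) (fun x hx => ?_) (halg ▸ Algebra.mem_top)
    have h := congrArg (fun A : Matrix (Fin n) (Fin n) F => A.map σ) (hcomm x hx).eq
    simp only [Matrix.map_mul, Matrix.map_map] at h
    rw [show (σ ∘ σ : F → F) = id from funext (qConj_qConj hF), Matrix.map_id] at h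
    have h' := congrArg (cj B) h
    rw [map_mul, map_mul, cj_cj_inv] at h'
    exact h'.symm
  obtain ⟨a, ha⟩ := Matrix.mem_range_scalar_of_commute_single (M := Y) fun i j _ => hY _
  have hX : C' = σ a • C₀ := by
    have h1 : X.map σ = a • 1 := by
      have := congrArg (cj B⁻¹) ha
      rw [cj_inv_cj] at this
      rw [← this, Matrix.scalar_apply, ← Matrix.smul_one_eq_diagonal, map_smul, map_one]
    have h2 : X = σ a • 1 := by
      have h := congrArg (fun A : Matrix (Fin n) (Fin n) F => A.map σ) h1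
      simp only [Matrix.map_map, show (σ ∘ σ : F → F) = id from funext (qConj_qConj hF),
        Matrix.map_id] at h
      rw [h, Matrix.map_smul' _ _ _ (map_mul σ), Matrix.map_one _ (map_zero σ) (map_one σ)]
    calc C' = C₀ * X := by simp [X, Ci, ← mul_assoc, ← hCu']
      _ = σ a • C₀ := by rw [h2, Matrix.mul_smul, mul_one]
  have h00 : C₀ i₀ j₀ = 1 := by simp [C₀, hij]
  have ha1 : σ a = 1 := by
    have := congrFun (congrFun hX i₀) j₀
    simpa [C', h00] using this.symm
  intro i j
  refine mem_subfield_of_pow_card ?_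
  have := congrFun (congrFun hX i) j
  rw [ha1, one_smul] at this
  rwa [show C' i j = fr (C₀ i j) from rfl, hfr] at this

/-- The fifth class, from a rational multiple of the form. -/
theorem member_of_rational_gram (hF : Fintype.card F = q ^ 2) (hn : 2 ≤ n) {F₀ : Subfield F} {r : ℕ}
    (hr : r.Prime) (hcard : Fintype.card F = Nat.card F₀ ^ r) {B : GL (Fin n) F}
    {γ : F} {C₀ : Matrix (Fin n) (Fin n) F} (hγ : γ ≠ 0) (hC₀ : RatMat F₀ C₀)
    (hC : gramU hF (B : Matrix (Fin n) (Fin n) F) = γ • C₀)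
    (hvan : r = 2 → (2 : F) = 0 → C₀ᵀ = C₀ → ∀ u, u ⬝ᵥ (C₀ *ᵥ u) = 0)
    {H : Subgroup (GL (Fin n) F)} (hHB : H ≤ subfieldSubgroup F₀ B) (hH : H ≤ GU n F q) :
    ∃ M : Subgroup (GL (Fin n) F), UClass n q M ∧ H ≤ M := by
  classical
  have hf := isUnitaryForm_hermForm hF n
  set σ := qConj hF
  set C := gramU hF (B : Matrix (Fin n) (Fin n) F) with hCdef
  have hσ₀ : ∀ {x : F}, x ∈ F₀ → σ x ∈ F₀ := fun {x} hx => by
    rw [qConj_apply]; exact pow_mem hx q
  -- the symmetry of `C₀`
  obtain ⟨i₀, j₀, hij⟩ : ∃ i j, C₀ i j ≠ 0 := by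
    by_contra h
    push Not at h
    have h0 : C₀ = 0 := Matrix.ext fun i j => h i j
    have hu : IsUnit C := by
      rw [hCdef, gramU]
      refine IsUnit.mul ?_ ?_
      · rw [Matrix.isUnit_iff_isUnit_det, Matrix.det_transpose, ← Matrix.isUnit_iff_isUnit_det]
        exact B.isUnit
      · exact B.isUnit.map (qConj hF).toRingHom.mapMatrix
    have : Nonempty (Fin n) := ⟨⟨0, by omega⟩⟩
    exact hu.ne_zero (by rw [hC, h0, smul_zero])
  have hherm : ∀ i j, σ γ * σ (C₀ i j) = γ * C₀ j i := by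
    intro i j
    have := congrFun (congrFun (gramU_herm hF (B : Matrix (Fin n) (Fin n) F)) j) i
    rw [← hCdef, hC] at this
    simpa using this
  set μ := γ / σ γ with hμ
  have hμ0 : μ ≠ 0 := div_ne_zero hγ ((map_ne_zero _).2 hγ)
  have hsym : ∀ i j, σ (C₀ i j) = μ * C₀ j i := fun i j => by
    rw [hμ, div_mul_eq_mul_div, eq_div_iff ((map_ne_zero _).2 hγ), ← hherm, mul_comm]
  have hμF : μ ∈ F₀ := by
    by_cases h : C₀ j₀ i₀ = 0
    · have := hsym i₀ j₀
      rw [h, mul_zero] at this
      exact absurd ((map_eq_zero _).1 this) hij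
    · have e : μ = σ (C₀ i₀ j₀) / C₀ j₀ i₀ := by rw [hsym, mul_div_cancel_right₀ _ h]
      rw [e]
      exact div_mem (hσ₀ (hC₀ _ _)) (hC₀ _ _)
  have hμσ : μ * σ μ = 1 := by
    rw [hμ, map_div₀, qConj_qConj]
    have := (map_ne_zero σ).2 hγ
    field_simp
  have hval : ∀ u v : Fin n → F, hermForm n F q ((B : Matrix (Fin n) (Fin n) F) *ᵥ u)
      ((B : Matrix (Fin n) (Fin n) F) *ᵥ v) = γ * (u ⬝ᵥ (C₀ *ᵥ (σ ∘ v))) := by
    intro u v
    rw [hermForm_mulVec_gramU hF, ← hCdef, hC, Matrix.smul_mulVec, dotProduct_smul, smul_eq_mul]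
  have hratval : ∀ u v : Fin n → F, (∀ i, u i ∈ F₀) → (∀ i, v i ∈ F₀) →
      u ⬝ᵥ (C₀ *ᵥ (σ ∘ v)) ∈ F₀ :=
    fun u v hu hv => RatVec.dot hu (RatMat.mulVec hC₀ fun i => hσ₀ (hv i))
  rcases Nat.Prime.eq_two_or_odd' hr with rfl | hodd
  · -- index two
    have hq : Nat.card F₀ = q := Nat.pow_left_injective two_ne_zero (hcard.symm.trans hF)
    have hσid : ∀ {x : F}, x ∈ F₀ → σ x = x := fun {x} hx => by
      rw [qConj_apply, ← hq, pow_card_of_mem hx]
    have hμ2 : μ = 1 ∨ μ = -1 := by
      rw [hσid hμF] at hμσ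
      exact mul_self_eq_one_iff.1 hμσ
    have hC₀t : ∀ i j, C₀ i j = μ * C₀ j i := fun i j => by rw [← hσid (hC₀ i j), hsym]
    have hσμ : σ γ = μ⁻¹ * γ := by rw [hμ]; field_simp
    by_cases h2 : (2 : F) = 0
    · -- characteristic two
      have hneg : ∀ x : F, -x = x := fun x => neg_eq_of_add_eq_zero_left (by
        rw [← two_mul, h2, zero_mul])
      have hμ1 : μ = 1 := by rcases hμ2 with h | h <;> simp [h, hneg]
      have hγσ : σ γ = γ := by rw [hσμ, hμ1, inv_one, one_mul]
      have hγ0 : γ ∈ F₀ := mem_subfield_of_pow_card (by rw [hq, ← qConj_apply hF]; exact hγσ)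
      have hsy : C₀ᵀ = C₀ := Matrix.ext fun i j => by rw [Matrix.transpose_apply, hC₀t j i, hμ1, one_mul]
      have hvan : ∀ u, u ⬝ᵥ (C₀ *ᵥ u) = 0 := hvan rfl h2 hsy
      have heven : Even n := by
        have h := CfsgLib.KnownA.even_rank_of_alt_matrix C₀ hvan
        rwa [Matrix.rank_of_isUnit _ (?_ : IsUnit C₀), Fintype.card_fin] at h
        have hu : IsUnit C := by
          rw [hCdef, gramU]
          refine IsUnit.mul ?_ ?_
          · rw [Matrix.isUnit_iff_isUnit_det, Matrix.det_transpose, ← Matrix.isUnit_iff_isUnit_det]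
            exact B.isUnit
          · exact B.isUnit.map (qConj hF).toRingHom.mapMatrix
        rw [hC, Matrix.isUnit_iff_isUnit_det, Matrix.det_smul] at hu
        exact (Matrix.isUnit_iff_isUnit_det _).2 (isUnit_of_mul_isUnit_right hu)
      refine ⟨_, Or.inl (Or.inr (Or.inr (Or.inr (Or.inr (Or.inr (Or.inr (Or.inl
        ⟨F₀, B, 1, heven, hcard, one_ne_zero, ?_, fun u v hu hv => ?_, fun u hu => ?_, rfl⟩))))))),
        le_inf hHB hH⟩
      · rw [one_pow, ← two_mul, h2, zero_mul]
      · rw [one_mul, hval]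
        exact mul_mem hγ0 (hratval u v hu hv)
      · rw [hval, show (σ ∘ u) = u from funext fun i => hσid (hu i), hvan, mul_zero]
    · -- odd characteristic
      have hodd : Odd q := by
        by_contra hev
        rw [Nat.not_odd_iff_even] at hev
        obtain ⟨p, hp⟩ := CharP.exists F
        have := Fact.mk (CharP.char_is_prime F p)
        obtain ⟨e, -, he⟩ := FiniteField.card F p
        have h2p : 2 ∣ p ^ (e : ℕ) := he ▸ hF ▸ dvd_pow hev.two_dvd two_ne_zero
        have := (Nat.prime_dvd_prime_iff_eq Nat.prime_two Fact.out).1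
          (Nat.prime_two.dvd_of_dvd_pow h2p)
        subst this
        exact h2 CharTwo.two_eq_zero
      rcases hμ2 with hμ1 | hμ1
      · have hγσ : σ γ = γ := by rw [hσμ, hμ1, inv_one, one_mul]
        have hγ0 : γ ∈ F₀ := mem_subfield_of_pow_card (by rw [hq, ← qConj_apply hF]; exact hγσ)
        refine ⟨_, Or.inl (Or.inr (Or.inr (Or.inr (Or.inr (Or.inr (Or.inl
          ⟨F₀, B, hodd, hcard, fun u v hu hv => ?_, rfl⟩)))))), le_inf hHB hH⟩
        rw [one_mul, hval]
        exact mul_mem hγ0 (hratval u v hu hv)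
      · have hskew : C₀ᵀ = -C₀ := Matrix.ext fun i j => by
          rw [Matrix.transpose_apply, hC₀t j i, hμ1, Matrix.neg_apply, neg_one_mul]
        have hvan : ∀ u, u ⬝ᵥ (C₀ *ᵥ u) = 0 := by
          intro u
          have h : u ⬝ᵥ (C₀ *ᵥ u) = -(u ⬝ᵥ (C₀ *ᵥ u)) := by
            conv_lhs => rw [Matrix.dotProduct_mulVec, dotProduct_comm, ← Matrix.mulVec_transpose,
              hskew, Matrix.neg_mulVec, dotProduct_neg]
          have : (2 : F) * (u ⬝ᵥ (C₀ *ᵥ u)) = 0 := by linear_combination h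
          exact (mul_eq_zero.1 this).resolve_left h2
        have heven : Even n := by
          have h := CfsgLib.KnownA.even_rank_of_alt_matrix C₀ hvan
          rwa [Matrix.rank_of_isUnit _ (?_ : IsUnit C₀), Fintype.card_fin] at h
          have hu : IsUnit C := by
            rw [hCdef, gramU]
            refine IsUnit.mul ?_ ?_
            · rw [Matrix.isUnit_iff_isUnit_det, Matrix.det_transpose,
                ← Matrix.isUnit_iff_isUnit_det]
              exact B.isUnit
            · exact B.isUnit.map (qConj hF).toRingHom.mapMatrix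
          rw [hC, Matrix.isUnit_iff_isUnit_det, Matrix.det_smul] at hu
          exact (Matrix.isUnit_iff_isUnit_det _).2 (isUnit_of_mul_isUnit_right hu)
        refine ⟨_, Or.inl (Or.inr (Or.inr (Or.inr (Or.inr (Or.inr (Or.inr (Or.inl
          ⟨F₀, B, γ⁻¹, heven, hcard, inv_ne_zero hγ, ?_, fun u v hu hv => ?_, fun u hu => ?_,
            rfl⟩))))))), le_inf hHB hH⟩
        · have hσγ : σ γ = -γ := by rw [hσμ, hμ1, inv_neg, inv_one, neg_one_mul]
          rw [← qConj_apply hF, map_inv₀, hσγ, inv_neg, add_neg_cancel]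
        · rw [hval, ← mul_assoc, inv_mul_cancel₀ hγ, one_mul]
          exact hratval u v hu hv
        · rw [hval, show (σ ∘ u) = u from funext fun i => hσid (hu i), hvan, mul_zero]
  · -- odd index
    obtain ⟨d, hd0, hdF, hd⟩ : ∃ d : F, d ≠ 0 ∧ d ∈ F₀ ∧ d = μ * σ d := by
      by_cases h1 : μ = -1
      · obtain ⟨a, ha, hane⟩ : ∃ a ∈ F₀, σ a ≠ a := by
          by_contra hcon
          push Not at hcon
          -- then the subfield is fixed, so of size at most `q`
          have hle : Nat.card F₀ ∣ q ^ 2 := by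
            rw [← hF, hcard]; exact dvd_pow_self _ hr.ne_zero
          let poly : Polynomial F := Polynomial.X ^ q - Polynomial.X
          have hq1 : 1 < q := by
            have h := hF ▸ Fintype.one_lt_card (α := F)
            by_contra hle
            have : q ^ 2 ≤ 1 := by
              have := Nat.pow_le_pow_left (not_lt.1 hle) 2
              simpa using this
            omega
          have hp0 : poly ≠ 0 := FiniteField.X_pow_card_sub_X_ne_zero F hq1
          have : Fintype F₀ := Fintype.ofFinite _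
          have hcardle : Nat.card F₀ ≤ q := by
            rw [Nat.card_eq_fintype_card, ← Finset.card_univ,
              ← Finset.card_image_of_injective (f := fun a : F₀ => (a : F)) _ Subtype.val_injective]
            refine (Finset.card_le_card (t := poly.roots.toFinset) fun y hy => ?_).trans
              ((Multiset.toFinset_card_le _).trans ((Polynomial.card_roots' _).trans
                (le_of_eq (FiniteField.X_pow_card_sub_X_natDegree_eq F hq1))))
            obtain ⟨a, -, rfl⟩ := Finset.mem_image.1 hy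
            rw [Multiset.mem_toFinset, Polynomial.mem_roots hp0]
            simp [poly, ← qConj_apply hF, show (qConj hF) (a : F) = a from hcon a a.2]
          -- `q ^ 2 = N ^ r` with `r` odd and `N` fixed by the conjugation forces `r = 2`
          obtain ⟨p, hp⟩ := CharP.exists F
          have := Fact.mk (CharP.char_is_prime F p)
          obtain ⟨e, -, he⟩ := FiniteField.card F p
          have : CharP F₀ p := Subfield.charP F₀ p
          obtain ⟨k, -, hk⟩ := FiniteField.card F₀ p
          obtain ⟨l, hl, hql⟩ := (Nat.dvd_prime_pow (Fact.out : p.Prime)).1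
            (show q ∣ p ^ (e : ℕ) by rw [← he, hF]; exact dvd_pow_self _ two_ne_zero)
          have h2l : 2 * l = k * r := by
            apply Nat.pow_right_injective (Fact.out : p.Prime).two_le
            show p ^ (2 * l) = p ^ ((k : ℕ) * r)
            rw [mul_comm 2 l, pow_mul, ← hql, ← hF, hcard, Nat.card_eq_fintype_card, hk, ← pow_mul]
          -- every element satisfies `x ^ q = x`, so `k ∣ l`
          obtain ⟨x, hx⟩ := IsCyclic.exists_ofOrder_eq_natCard (α := F₀ˣ)
          have hxq : x ^ (q - 1) = 1 := by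
            refine Units.ext (Subtype.ext ?_)
            have h := hcon ((x : F₀) : F) (x : F₀).2
            rw [qConj_apply] at h
            have hx0 : ((x : F₀) : F) ≠ 0 := by simp
            simp only [Units.val_pow_eq_pow_val, SubmonoidClass.coe_pow, Units.val_one,
              OneMemClass.coe_one]
            refine mul_right_cancel₀ hx0 ?_
            rw [← pow_succ, Nat.sub_add_cancel hq1.le, h, one_mul]
          have hdvd : p ^ (k : ℕ) - 1 ∣ p ^ l - 1 := by
            have := orderOf_dvd_of_pow_eq_one hxq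
            rwa [hx, Nat.card_units, Nat.card_eq_fintype_card, hk, hql] at this
          have hkl : (k : ℕ) ∣ l := by
            have hg := Nat.pow_sub_one_gcd_pow_sub_one p (k : ℕ) l
            rw [Nat.gcd_eq_left hdvd] at hg
            have hg' : p ^ (k : ℕ) = p ^ Nat.gcd (k : ℕ) l := by
              have h1 := Nat.one_le_pow (k : ℕ) p (Fact.out : p.Prime).pos
              have h2 := Nat.one_le_pow (Nat.gcd (k : ℕ) l) p (Fact.out : p.Prime).pos
              omega
            rw [Nat.pow_right_injective (Fact.out : p.Prime).two_le hg']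
            exact Nat.gcd_dvd_right _ _
          obtain ⟨m, rfl⟩ := hkl
          have : r = 2 * m := Nat.eq_of_mul_eq_mul_left k.pos (by rw [← h2l]; ring)
          rw [this] at hodd
          exact absurd hodd (by simp)
        refine ⟨a - σ a, sub_ne_zero.2 (Ne.symm hane), sub_mem ha (hσ₀ ha), ?_⟩
        rw [h1, map_sub, qConj_qConj]; ring
      · refine ⟨1 + μ, fun h => h1 (eq_neg_of_add_eq_zero_right h), add_mem (one_mem _) hμF, ?_⟩
        rw [map_add, map_one, mul_add, mul_one, hμσ, add_comm]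
    have hσd : σ d ≠ 0 := (map_ne_zero _).2 hd0
    have hg : σ (γ / d) = γ / d := by
      have e : γ / d = (μ * σ γ) / (μ * σ d) := by
        rw [← hd, hμ, div_mul_cancel₀ _ ((map_ne_zero _).2 hγ)]
      rw [map_div₀, e, mul_div_mul_left _ _ hμ0]
    obtain ⟨l, hl⟩ := exists_norm_eq hf (e := (γ / d)⁻¹) (by rw [map_inv₀, hg])
    have hl0 : l ≠ 0 := by
      rintro rfl
      rw [zero_mul] at hl
      exact inv_ne_zero (div_ne_zero hγ hd0) hl.symm
    let S : GL (Fin n) F := Units.map (Matrix.scalar (Fin n) : F →+* Matrix (Fin n) (Fin n) F).toMonoidHom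
      (Units.mk0 l hl0)
    have hS : ∀ u, ((B * S : GL (Fin n) F) : Matrix (Fin n) (Fin n) F) *ᵥ u =
        l • ((B : Matrix (Fin n) (Fin n) F) *ᵥ u) := by
      intro u
      rw [Units.val_mul, ← Matrix.mulVec_mulVec]
      have : (S : Matrix (Fin n) (Fin n) F) *ᵥ u = l • u := by
        simp [S, Matrix.smul_one_eq_diagonal, ← Matrix.smul_mulVec]
      rw [this, Matrix.mulVec_smul]
    have hsub : subfieldSubgroup F₀ (B * S) = subfieldSubgroup F₀ B := by
      have hcent : MulAut.conj (B * S) = MulAut.conj B := by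
        refine MulEquiv.ext fun g => ?_
        have hc : S * g = g * S := Units.ext (Matrix.scalar_commute l (fun r' => mul_comm l r') _).eq
        simp only [MulAut.conj_apply, _root_.mul_inv_rev]
        calc B * S * g * (S⁻¹ * B⁻¹) = B * (S * g * S⁻¹) * B⁻¹ := by group
          _ = B * g * B⁻¹ := by rw [hc, mul_inv_cancel_right]
      rw [subfieldSubgroup, subfieldSubgroup, hcent]
    refine ⟨_, Or.inl (Or.inr (Or.inr (Or.inr (Or.inr (Or.inl
      ⟨F₀, r, B * S, hr, hodd, hcard, fun u v hu hv => ?_, rfl⟩))))), le_inf (hsub ▸ hHB) hH⟩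
    rw [one_mul, hS, hS, hf.smul_left, herm_smul_right hf, hval, ← mul_assoc, ← mul_assoc,
      show l * σ l * γ = d by rw [hl, inv_div, div_mul_cancel₀ _ hγ]]
    exact mul_mem hdF (hratval u v hu hv)

/-- The fifth class. -/
theorem member_of_rational (hF : Fintype.card F = q ^ 2) (hn : 2 ≤ n) {F₀ : Subfield F} {r : ℕ}
    (hr : r.Prime) (hcard : Fintype.card F = Nat.card F₀ ^ r) {P : Subgroup (GL (Fin n) F)}
    {B : GL (Fin n) F} (hirr : ActsIrreducibly (matrixSet P)) (halg : alg P = ⊤)
    (hrat : ∀ x ∈ P, RatMat F₀ (cj B⁻¹ (x : Matrix (Fin n) (Fin n) F)))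
    (hmult : ∀ x ∈ P, ∃ c : F, c ∈ F₀ ∧ ∀ u v, hermForm n F q ((x : Matrix (Fin n) (Fin n) F) *ᵥ u)
      ((x : Matrix (Fin n) (Fin n) F) *ᵥ v) = c * hermForm n F q u v)
    {H : Subgroup (GL (Fin n) F)} (hHB : H ≤ subfieldSubgroup F₀ B) (hH : H ≤ GU n F q) :
    ∃ M : Subgroup (GL (Fin n) F), UClass n q M ∧ H ≤ M := by
  classical
  obtain ⟨γ, C₀, hγ, hC₀, hC⟩ := exists_rational_gram hF (by omega) halg hrat hmult
  refine member_of_rational_gram hF hn hr hcard hγ hC₀ hC ?_ hHB hH
  intro hr2 h2 hsy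
  subst hr2
  set σ := qConj hF
  set C := gramU hF (B : Matrix (Fin n) (Fin n) F) with hCdef
  have hq : Nat.card F₀ = q := Nat.pow_left_injective two_ne_zero (hcard.symm.trans hF)
  have hσid : ∀ {x : F}, x ∈ F₀ → σ x = x := fun {x} hx => by
    rw [qConj_apply, ← hq, pow_card_of_mem hx]
  let Qd : (Fin n → F) → F := fun u => u ⬝ᵥ (C₀ *ᵥ u)
  have hQadd : ∀ u v, Qd (u + v) = Qd u + Qd v := by
    intro u v
    have : u ⬝ᵥ (C₀ *ᵥ v) = v ⬝ᵥ (C₀ *ᵥ u) := by
      rw [Matrix.dotProduct_mulVec, dotProduct_comm, ← Matrix.mulVec_transpose, hsy]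
    simp only [Qd, Matrix.mulVec_add, dotProduct_add, add_dotProduct, this]
    linear_combination (v ⬝ᵥ (C₀ *ᵥ u)) * h2
  have hQsmul : ∀ (c : F) u, Qd (c • u) = c * c * Qd u := fun c u => by
    simp only [Qd, Matrix.mulVec_smul, dotProduct_smul, smul_dotProduct, smul_eq_mul]; ring
  let W : Submodule F (Fin n → F) :=
    { carrier := {u | Qd u = 0}
      add_mem' := fun {u v} hu hv => by
        show Qd (u + v) = 0
        rw [hQadd, hu, hv, add_zero]
      zero_mem' := by show Qd 0 = 0; simp [Qd]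
      smul_mem' := fun c u hu => by show Qd (c • u) = 0; rw [hQsmul, hu, mul_zero] }
  have hWinv : ∀ x ∈ P, ∀ u ∈ W, cj B⁻¹ (x : Matrix (Fin n) (Fin n) F) *ᵥ u ∈ W := by
    intro x hx u hu
    obtain ⟨c, hc0, hc⟩ := hmult x hx
    set g := cj B⁻¹ (x : Matrix (Fin n) (Fin n) F)
    have hBg : (B : Matrix (Fin n) (Fin n) F) * g = (x : Matrix (Fin n) (Fin n) F) * B := by
      simp [g, cj_apply, ← mul_assoc]
    have h1 : gᵀ * C₀ * g = c • C₀ := by
      have hg : g.map σ = g := Matrix.ext fun i j => hσid (hrat x hx i j)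
      have h3 : gᵀ * C * g.map σ = c • C := by
        calc gᵀ * C * g.map σ = ((B : Matrix (Fin n) (Fin n) F) * g)ᵀ *
              ((B : Matrix (Fin n) (Fin n) F) * g).map σ := by
              rw [hCdef, gramU, Matrix.transpose_mul, Matrix.map_mul]; noncomm_ring
          _ = (B : Matrix (Fin n) (Fin n) F)ᵀ * gramU hF (x : Matrix (Fin n) (Fin n) F) *
              (B : Matrix (Fin n) (Fin n) F).map σ := by
              rw [hBg, gramU, Matrix.transpose_mul, Matrix.map_mul]; noncomm_ring
          _ = c • C := by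
              rw [gramU_of_similitude hF hc, Matrix.mul_smul, mul_one, Matrix.smul_mul, hCdef,
                gramU]
      rw [hC, hg, Matrix.mul_smul, Matrix.smul_mul, smul_comm c γ] at h3
      exact smul_right_injective _ hγ h3
    show Qd (g *ᵥ u) = 0
    have : Qd (g *ᵥ u) = u ⬝ᵥ ((gᵀ * C₀ * g) *ᵥ u) := by
      simp only [Qd, ← Matrix.mulVec_mulVec, Matrix.dotProduct_mulVec u gᵀ,
        Matrix.vecMul_transpose]
    rw [this, h1, Matrix.smul_mulVec, dotProduct_smul, show u ⬝ᵥ (C₀ *ᵥ u) = 0 from hu,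
      smul_zero]
  let W' := W.map (Matrix.toLin' (B : Matrix (Fin n) (Fin n) F))
  have hinj : Function.Injective (Matrix.toLin' (B : Matrix (Fin n) (Fin n) F)) := fun u v e => by
    have := congrArg (((B⁻¹ : GL (Fin n) F) : Matrix (Fin n) (Fin n) F) *ᵥ ·) e
    simpa [Matrix.mulVec_mulVec, ← Units.val_mul] using this
  have hW0 : W ≠ ⊥ := by
    intro h0
    -- the restriction to two coordinates has a zero
    let a : Fin n := ⟨0, by omega⟩
    let b : Fin n := ⟨1, by omega⟩
    have hab : a ≠ b := by simp [a, b, Fin.ext_iff]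
    have hza : ∀ i, Qd (Pi.single i 1) = C₀ i i := fun i => by
      simp [Qd, Matrix.mulVec_single_one, single_dotProduct]
    by_cases ha : C₀ a a = 0
    · have : (Pi.single a 1 : Fin n → F) ∈ W := by show Qd _ = 0; rw [hza, ha]
      rw [h0, Submodule.mem_bot] at this
      simpa using congrFun this a
    · obtain ⟨c, hc⟩ : ∃ c : F, c * c = C₀ b b / C₀ a a := by
        have : CharP F 2 := CharTwo.of_one_ne_zero_of_two_eq_zero one_ne_zero h2
        obtain ⟨c, hc⟩ := FiniteField.isSquare_of_char_two (ringChar.eq F 2) (C₀ b b / C₀ a a)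
        exact ⟨c, hc.symm⟩
      have : (c • Pi.single a 1 + Pi.single b 1 : Fin n → F) ∈ W := by
        show Qd _ = 0
        rw [hQadd, hQsmul, hza, hza, hc, div_mul_cancel₀ _ ha, ← two_mul, h2, zero_mul]
      rw [h0, Submodule.mem_bot] at this
      simpa [hab.symm, hab] using congrFun this b
  have hWt : W = ⊤ := by
    rcases hirr W' (fun s hs => by
      obtain ⟨x, hx, rfl⟩ := hs
      rintro _ ⟨_, ⟨u, hu, rfl⟩, rfl⟩
      refine ⟨cj B⁻¹ (x : Matrix (Fin n) (Fin n) F) *ᵥ u, hWinv x hx u hu, ?_⟩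
      simp [cj_apply, Matrix.mulVec_mulVec, ← mul_assoc]) with h | h
    · exact absurd (Submodule.map_injective_of_injective hinj
        (h.trans (Submodule.map_bot _).symm)) hW0
    · refine eq_top_iff.2 fun u _ => ?_
      obtain ⟨w, hw, he⟩ := h.ge (Submodule.mem_top (x := Matrix.toLin'
        (B : Matrix (Fin n) (Fin n) F) u))
      exact hinj he ▸ hw
  exact fun u => hWt.ge (Submodule.mem_top (x := u))

end CfsgLib.AschU
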