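import Cfsg.Agent.Lib.AschU.FqCode

/-!
Data for a subgroup `PSL(2,11)` of `SU_5(2)`: two generators `xC`, `yC` of a normaliser of a Sylow
11-subgroup, an involution `zC`, and an orbit of lines.
-/

set_option autoImplicit false

namespace CfsgLib.AschU.SUFive

open CfsgLib.AschU.Code

/-- `GF(4)` -/
def P4 : Par := ⟨2, 1, 1⟩

def xC : CMat := [[0, 0, 2, 3, 3], [1, 3, 3, 2, 3], [2, 2, 3, 2, 3], [0, 0, 1, 1, 3], [2, 3, 2, 1, 2]]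
def yC : CMat := [[0, 0, 0, 0, 1], [1, 0, 0, 0, 0], [0, 1, 0, 0, 0], [0, 0, 1, 0, 0], [0, 0, 0, 1, 0]]
def zC : CMat := [[1, 1, 2, 1, 3], [1, 0, 0, 3, 1], [3, 0, 0, 1, 1], [1, 2, 1, 1, 3], [2, 1, 1, 2, 1]]
def swC : CMat := [[0, 1, 0, 0, 0], [1, 0, 0, 0, 0], [0, 0, 1, 0, 0], [0, 0, 0, 1, 0], [0, 0, 0, 0, 1]]
def bC : CMat := [[1, 0, 2, 3, 2], [0, 1, 3, 2, 3], [0, 2, 2, 0, 3], [0, 0, 3, 3, 3], [0, 2, 3, 0, 3]]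
def bInvC : CMat := [[1, 2, 0, 0, 1], [0, 3, 0, 2, 1], [0, 0, 1, 0, 1], [0, 2, 0, 3, 1], [0, 2, 1, 1, 0]]
def coC : List ℕ := [1, 2, 1, 1, 3]
def pts : List (List ℕ) :=
  [[1, 0, 0, 0, 0], [0, 1, 2, 0, 2], [0, 1, 0, 0, 0], [1, 1, 3, 1, 2], [1, 2, 1, 2, 2], [1, 0, 3, 1, 0], [1, 3, 3, 2, 2], [0, 1, 3, 0, 1], [0, 0, 1, 0, 0], [1, 0, 0, 2, 1], [1, 1, 2, 1, 3], [1, 3, 3, 2, 3], [1, 3, 0, 1, 0], [1, 3, 1, 3, 1], [1, 1, 2, 0, 0], [1, 3, 1, 1, 1], [0, 1, 0, 3, 1], [1, 2, 2, 3, 3], [1, 3, 3, 0, 0], [1, 3, 2, 2, 1], [1, 0, 1, 3, 0], [1, 2, 2, 3, 1], [0, 0, 0, 1, 0], [1, 0, 0, 3, 3], [1, 1, 0, 0, 2], [1, 2, 3, 3, 1], [1, 2, 2, 3, 2], [0, 1, 1, 2, 0], [1, 2, 1, 1, 3], [1, 1, 3, 1, 3], [1, 2, 2, 2, 2], [1, 3, 3, 2, 1], [0, 1, 3, 3, 0], [1, 1, 2, 3, 3], [1, 1, 3, 1, 1], [1, 0, 1, 0, 3], [1, 3, 1, 1,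 3], [1, 1, 1, 3, 1], [1, 1, 3, 2, 2], [0, 1, 0, 1, 3], [1, 1, 2, 2, 3], [0, 0, 0, 0, 1], [1, 3, 1, 1, 2], [1, 2, 0, 0, 1], [1, 3, 1, 2, 1], [0, 0, 1, 3, 3], [1, 1, 3, 3, 2], [0, 0, 1, 1, 2], [1, 2, 3, 2, 2], [1, 2, 2, 1, 2], [1, 0, 2, 0, 2], [1, 2, 0, 2, 0], [1, 1, 1, 1, 3], [1, 3, 2, 3, 3], [1, 2, 1, 3, 1]]
def wx : List (ℕ × ℕ) :=
  [(1, 1), (4, 2), (7, 3), (10, 3), (12, 2), (15, 2), (18, 1), (14, 2), (21, 2), (13, 2), (25, 2), (9, 2), (30, 3), (31, 3), (33, 3), (11, 2), (24, 1), (36, 3), (37, 1), (17, 1), (16, 3), (28, 2), (6, 3), (32, 2), (42, 1), (45, 1), (2, 1), (34, 3), (46, 3), (8, 2), (38, 3), (26, 3), (50, 3), (5, 3), (29, 1), (47, 3), (23, 3), (40, 3), (43, 1), (53, 1), (39, 2), (52, 3), (27, 3), (3, 3), (41, 2), (0, 2), (20, 2), (22, 1), (35, 1), (48, 1), (44, 2), (19, 1),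 (54, 3), (49, 3), (51, 3)]
def wy : List (ℕ × ℕ) :=
  [(2, 1), (5, 2), (8, 1), (11, 2), (13, 2), (16, 1), (19, 2), (20, 1), (22, 1), (24, 1), (26, 3), (28, 3), (7, 1), (29, 1), (27, 1), (34, 1), (35, 1), (25, 3), (32, 1), (38, 1), (39, 1), (40, 1), (41, 1), (43, 3), (18, 2), (33, 1), (42, 2), (47, 1), (48, 3), (49, 3), (15, 2), (46, 1), (45, 1), (21, 3), (37, 1), (51, 3), (4, 3), (52, 1), (31, 2), (50, 3), (17, 3), (0, 1), (53, 2), (14, 1), (3, 1), (9, 3), (6, 2), (23, 2), (44, 2), (36, 2), (12, 2), (1, 1), (30, 3), (54, 3), (10, 1)]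
def wz : List (ℕ × ℕ) :=
  [(3, 1), (6, 3), (9, 1), (0, 1), (14, 2), (17, 1), (1, 2), (21, 3), (23, 2), (2, 1), (27, 1), (29, 3), (31, 3), (32, 2), (4, 3), (30, 2), (19, 1), (5, 1), (28, 3), (16, 1), (39, 3), (7, 2), (42, 1), (8, 3), (44, 1), (46, 2), (36, 2), (10, 1), (18, 2), (11, 2), (15, 3), (12, 2), (13, 3), (50, 2), (37, 3), (51, 1), (26, 3), (34, 2), (40, 2), (20, 2), (38, 3), (49, 3), (22, 1), (45, 2), (24, 1), (43, 3), (25, 3), (53, 2), (48, 1), (41, 2), (33, 3), (35, 1), (52, 1), (47, 3), (54, 1)]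

end CfsgLib.AschU.SUFive
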