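import Cfsg.Agent.Lib.AschU.FqCode
import Cfsg.Agent.Lib.AschU.SUFiveData
import Cfsg.Agent.Lib.AschU.Field
import Cfsg.Agent.Lib.Classical.HermOrder

/-!
The normaliser of a field of degree five is not maximal in `SU_5(2)`: it lies in a `PSL(2,11)`.
-/

set_option autoImplicit false
set_option linter.unusedSectionVars false

namespace CfsgLib.AschU.SUFive

open Cfsg Cfsg.Geo CfsgLib.MaxSub CfsgLib.AschU.Code Matrix
open scoped MatrixGroups

/-- `X⁵ + X³ + X² + 1 + X⁴` -/
def polA {R : Type*} [Semiring R] (x : R) : R := x ^ 5 + x ^ 4 + x ^ 3 + x ^ 2 + 1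

/-- `X⁴ + X` -/
def polB {R : Type*} [Semiring R] (x : R) : R := x ^ 4 + x

theorem exists_root {L : Type*} [Field L] (h2 : (2 : L) = 0) {e : L} (he : e * e = 1 + e)
    {a : L} (ha : a ^ 11 = 1) (ha1 : a ≠ 1) :
    ∃ b : L, (b = a ∨ b = a ^ 2) ∧ b ^ 11 = 1 ∧ b ≠ 1 ∧ polA b + e * polB b = 0 := by
  have hprod : (a - 1) * ((polA a + e * polB a) * (polA a + (e + 1) * polB a)) = 0 := by
    simp only [polA, polB]
    linear_combination ha +
      ((-a ^ 2 - a ^ 4 - a ^ 5 + a ^ 6 + a ^ 9 + a ^ 10) +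
        (a - 1) * e * (a ^ 5 + a ^ 4 + a ^ 3 + a ^ 2 + 1) * (a ^ 4 + a) +
        (a - 1) * e * (a ^ 4 + a) ^ 2) * h2 + (a - 1) * (a ^ 4 + a) ^ 2 * he
  rcases mul_eq_zero.1 ((mul_eq_zero.1 hprod).resolve_left (sub_ne_zero.2 ha1)) with h | h
  · exact ⟨a, Or.inl rfl, ha, ha1, h⟩
  refine ⟨a ^ 2, Or.inr rfl, by rw [← pow_mul, mul_comm, pow_mul, ha, one_pow], fun h1 => ?_, ?_⟩
  · apply ha1
    calc a = a ^ 11 * a := by rw [ha, one_mul]
      _ = (a ^ 2) ^ 6 := by ring
      _ = 1 := by rw [h1, one_pow]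
  · have h' : (polA a + (e + 1) * polB a) ^ 2 = 0 := by rw [h]; ring
    simp only [polA, polB] at h' ⊢
    linear_combination h' - ((a ^ 9 + a ^ 8 + 2 * a ^ 7 + a ^ 6 + 2 * a ^ 5 + a ^ 4 + a ^ 3 + a ^ 2) +
      e * a ^ 5 + (e + 1) * (a ^ 5 + a ^ 4 + a ^ 3 + a ^ 2 + 1) * (a ^ 4 + a) +
      (e + 1) * (a ^ 4 + a) ^ 2) * h2 - (a ^ 4 + a) ^ 2 * he

theorem not_both {L : Type*} [Field L] (h2 : (2 : L) = 0) {e a : L} (ha : a ^ 11 = 1) (ha1 : a ≠ 1)
    (h : polA a + e * polB a = 0) (h' : polA a + (e + 1) * polB a = 0) : False := by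
  have hB : polB a = 0 := by linear_combination h' - h
  have ha0 : a ≠ 0 := fun h0 => by simp [h0] at ha
  simp only [polB] at hB
  have h3 : a ^ 3 = 1 := mul_left_cancel₀ ha0 (by linear_combination hB - a * h2)
  have h22 : a ^ 2 = 1 := by
    calc a ^ 2 = (a ^ 3) ^ 3 * a ^ 2 := by rw [h3, one_pow, one_mul]
      _ = 1 := by rw [← ha]; ring
  refine ha1 ?_
  calc a = a ^ 3 := by rw [pow_succ, h22, one_mul]
    _ = 1 := h3

section Concrete

theorem check_x : isUnitaryC P4 5 xC = true ∧ isPowOneC P4 5 xC 11 = true := by decide +kernel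
theorem check_y : isUnitaryC P4 5 yC = true ∧ isPowOneC P4 5 yC 5 = true := by decide +kernel
theorem check_z : isUnitaryC P4 5 zC = true ∧ isPowOneC P4 5 zC 2 = true := by decide +kernel
theorem check_sw : isUnitaryC P4 5 swC = true ∧ isPowOneC P4 5 swC 2 = true := by decide +kernel

theorem check_yx : ∀ i : Fin 5, apC P4 5 yC (apC P4 5 xC (unitC 5 i)) =
    iterC P4 5 xC 4 (apC P4 5 yC (unitC 5 i)) := by decide +kernel

theorem check_b : ∀ i : Fin 5, apC P4 5 bC (apC P4 5 bInvC (unitC 5 i)) = unitC 5 i ∧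
    apC P4 5 bC (unitC 5 i) = iterC P4 5 xC i (unitC 5 0) := by decide +kernel

/-- the value of the quintic at `x ^ j` on the first basis vector -/
def valC (j : ℕ) : List ℕ :=
  vaddC P4 5 (iterC P4 5 xC (j * 5) (unitC 5 0))
    (vaddC P4 5 (smulC P4 5 3 (iterC P4 5 xC (j * 4) (unitC 5 0)))
      (vaddC P4 5 (iterC P4 5 xC (j * 3) (unitC 5 0))
        (vaddC P4 5 (iterC P4 5 xC (j * 2) (unitC 5 0))
          (vaddC P4 5 (smulC P4 5 2 (iterC P4 5 xC j (unitC 5 0))) (unitC 5 0)))))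

theorem check_val_one : ∀ i : Fin 5, ent (valC 1) i = 0 := by decide +kernel

theorem check_val : ∀ j : Fin 11, (j : ℕ) ∈ [1, 3, 4, 5, 9] ∨
    ∃ i : Fin 5, ent (valC j) i ≠ 0 ∧ ent (valC j) i < 4 := by decide +kernel

theorem check_z_moves : ∀ j : Fin 11, ∃ i : Fin 5, ∃ k : Fin 5,
    ent (apC P4 5 zC (apC P4 5 xC (apC P4 5 zC (unitC 5 i)))) k ≠
      ent (iterC P4 5 xC j (unitC 5 i)) k ∧
    ent (apC P4 5 zC (apC P4 5 xC (apC P4 5 zC (unitC 5 i)))) k < 4 ∧
      ent (iterC P4 5 xC j (unitC 5 i)) k < 4 := by decide +kernel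

/-- the witnesses map each listed line to a listed line -/
def permutesC (A : CMat) (w : List (ℕ × ℕ)) : Bool :=
  (List.finRange 55).all fun i =>
    decide ((w.getD i (0, 0)).1 < 55) && decide (0 < (w.getD i (0, 0)).2) &&
      decide ((w.getD i (0, 0)).2 < 4) &&
      apC P4 5 A (pts.getD i []) ==
        smulC P4 5 (w.getD i (0, 0)).2 (pts.getD (w.getD i (0, 0)).1 [])

theorem check_perm : permutesC xC wx = true ∧ permutesC yC wy = true ∧ permutesC zC wz = true := by
  decide +kernel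

theorem check_moved : ∀ j : Fin 55, ∀ a : Fin 4, ∃ k : Fin 5,
    ent (apC P4 5 swC (pts.getD 4 [])) k ≠ ent (smulC P4 5 a (pts.getD j [])) k ∧
    ent (apC P4 5 swC (pts.getD 4 [])) k < 4 ∧ ent (smulC P4 5 a (pts.getD j [])) k < 4 := by
  decide +kernel

end Concrete

theorem pow_mod_orderOf' {G : Type*} [Monoid G] {x : G} (m : ℕ) (h : x ^ 11 = 1) :
    x ^ (m % 11) = x ^ m := by
  conv_rhs => rw [← Nat.mod_add_div m 11, pow_add, pow_mul, h, one_pow, mul_one]

variable {F : Type*} [Field F] [Fintype F] {q : ℕ}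

theorem exists_valid (hF : Fintype.card F = q ^ 2) (hq : q = 2) :
    ∃ ε : F, Valid P4 hF ε ∧ ∀ c : F, ∃ a < 4, c = dec P4 ε a := by
  classical
  have h4 : Fintype.card F = 4 := by rw [hF, hq]; rfl
  have h2 : (2 : F) = 0 := by
    have h := FiniteField.cast_card_eq_zero F
    rw [h4] at h
    push_cast at h
    exact mul_self_eq_zero.1 (by linear_combination h)
  obtain ⟨ε, -, hε⟩ := Finset.exists_mem_notMem_of_card_lt_card
    (s := ({0, 1} : Finset F)) (t := Finset.univ)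
    (lt_of_le_of_lt Finset.card_le_two (by rw [Finset.card_univ, h4]; norm_num))
  simp only [Finset.mem_insert, Finset.mem_singleton, not_or] at hε
  have h3 : ε ^ 3 = 1 := by
    have h := FiniteField.pow_card_sub_one_eq_one ε hε.1
    rwa [h4] at h
  have hq1 : ε * ε + ε + 1 = 0 := (mul_eq_zero.1 (show (ε - 1) * (ε * ε + ε + 1) = 0 by
    linear_combination h3)).resolve_left (sub_ne_zero.2 hε.2)
  have hV : Valid P4 hF ε := by
    refine ⟨Nat.prime_two, by simp [P4, h2], ?_, ?_, ?_⟩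
    · show ε * ε = ((1 : ℕ) : F) + ((1 : ℕ) : F) * ε
      push_cast
      linear_combination hq1 - (1 + ε) * h2
    · rw [qConj_apply hF, hq]
      show ε ^ 2 = ((1 : ℕ) : F) - ε
      push_cast
      linear_combination hq1 - h2
    · rw [qConj_apply hF, hq]
      intro h
      have : ε * (ε - 1) = 0 := by linear_combination h
      rcases mul_eq_zero.1 this with h | h
      · exact hε.1 h
      · exact hε.2 (sub_eq_zero.1 h)
  refine ⟨ε, hV, fun c => ?_⟩
  have hinj : Function.Injective (fun a : Fin 4 => dec P4 ε (a : ℕ)) := fun a b h =>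
    Fin.ext (dec_inj hV a.2 b.2 h)
  obtain ⟨a, ha⟩ := ((Fintype.bijective_iff_injective_and_card _).2
    ⟨hinj, by rw [Fintype.card_fin, h4]⟩).surjective c
  exact ⟨a, a.2, ha.symm⟩

theorem decV_ne {hF : Fintype.card F = q ^ 2} {ε : F} (hV : Valid P4 hF ε) {u v : List ℕ}
    {k : Fin 5} (h : ent u k ≠ ent v k) (hu : ent u k < 4) (hv : ent v k < 4) :
    decV P4 ε 5 u ≠ decV P4 ε 5 v :=
  fun e => h (dec_inj hV hu hv (congrFun e k))

theorem conj_pow_mat (g : GL (Fin 5) F) (M : Matrix (Fin 5) (Fin 5) F) (i : ℕ) :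
    (g : Matrix (Fin 5) (Fin 5) F) * M ^ i * ((g⁻¹ : GL (Fin 5) F) : Matrix (Fin 5) (Fin 5) F) =
      ((g : Matrix (Fin 5) (Fin 5) F) * M * ((g⁻¹ : GL (Fin 5) F) : Matrix (Fin 5) (Fin 5) F)) ^ i :=
  (Units.conj_pow g M i).symm

set_option maxHeartbeats 1600000 in
theorem false_of_field (hF : Fintype.card F = q ^ 2) (hq : q = 2)
    {H : Subgroup (GL (Fin 5) F)} (hH : IsMaximalIn (suGL 5 q F) H)
    {K : Subalgebra F (Matrix (Fin 5) (Fin 5) F)} (hK : IsFieldSubalgebra 5 K)
    (hA : IsAdjointClosedFor (hermForm 5 F q) K) (hle : H ≤ subalgebraNormalizer K) : False := by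
  classical
  obtain ⟨ε, hV, hsurj⟩ := exists_valid hF hq
  have h4 : Fintype.card F = 4 := by rw [hF, hq]; rfl
  have h2F : (2 : F) = 0 := by have := hV.char0; simpa [P4] using this
  have heF : ε * ε = 1 + ε := by have := hV.sq; simpa [P4] using this
  have hce : qConj hF ε = ε + 1 := by
    rw [hV.conj]
    show ((1 : ℕ) : F) - ε = ε + 1
    push_cast
    linear_combination -ε * h2F
  -- the field
  have hfield : IsField K :=
    ⟨⟨0, 1, zero_ne_one⟩, fun x y => Subtype.ext (hK.comm x x.2 y y.2), fun {x} hx => by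
      obtain ⟨y, hy, hxy⟩ := hK.inv x x.2 fun h => hx (Subtype.ext h)
      exact ⟨⟨y, hy⟩, Subtype.ext hxy⟩⟩
  let : Field K := hfield.toField
  have hcard : Nat.card K = 1024 := by
    rw [Module.natCard_eq_pow_finrank (K := F) (V := K), hK.finrank_eq, Nat.card_eq_fintype_card, h4]
    rfl
  have hadj : ∀ m ∈ K, adjM hF m ∈ K := by
    intro m hm
    obtain ⟨m', hm', h⟩ := hA m hm
    have : adjM hF m = m' := by
      refine Matrix.ext_of_mulVec_single fun i => eq_of_forall_herm hF fun u => ?_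
      rw [← hermForm_mulVec_left hF, h]
    rwa [this]
  let τ : K → K := fun x => ⟨adjM hF (x : Matrix (Fin 5) (Fin 5) F), hadj _ x.2⟩
  have τval : ∀ x : K, (τ x : Matrix (Fin 5) (Fin 5) F) =
      adjM hF (x : Matrix (Fin 5) (Fin 5) F) := fun x => rfl
  let eK : K := algebraMap F K ε
  have heKv : (eK : Matrix (Fin 5) (Fin 5) F) = ε • (1 : Matrix (Fin 5) (Fin 5) F) := by
    simp [eK, Algebra.algebraMap_eq_smul_one]
  have h2K : (2 : K) = 0 := by rw [← map_ofNat (algebraMap F K), h2F, map_zero]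
  have heK : eK * eK = 1 + eK := by rw [← map_mul, heF, map_add, map_one]
  -- a root of the quintic of order eleven
  obtain ⟨a₀, ha₀⟩ : ∃ a : Kˣ, orderOf a = 11 := by
    haveI : Fact (Nat.Prime 11) := ⟨by norm_num⟩
    refine exists_prime_orderOf_dvd_card' 11 ?_
    rw [Nat.card_units, hcard]
    norm_num
  obtain ⟨a, -, ha, ha1, hroot⟩ := exists_root h2K heK (a := ((a₀ : Kˣ) : K))
    (by rw [← Units.val_pow_eq_pow_val, ← ha₀, pow_orderOf_eq_one, Units.val_one])
    (fun h => by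
      rw [Units.val_eq_one.1 h, orderOf_one] at ha₀
      norm_num at ha₀)
  have hprim : IsPrimitiveRoot a 11 := IsPrimitiveRoot.iff_orderOf.2 (by
    haveI : Fact (Nat.Prime 11) := ⟨by norm_num⟩
    exact orderOf_eq_prime ha ha1)
  set A : Matrix (Fin 5) (Fin 5) F := (a : Matrix (Fin 5) (Fin 5) F) with hAdef
  have hA11 : A ^ 11 = 1 := by rw [hAdef, ← SubmonoidClass.coe_pow, ha]; rfl
  have hτa : τ a * a = 1 := by
    obtain ⟨j, hj, hja⟩ := hprim.eq_pow_of_pow_eq_one (show τ a ^ 11 = 1 from Subtype.ext (by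
      rw [SubmonoidClass.coe_pow, τval, ← adjM_pow, ← hAdef, hA11, adjM_one]; rfl))
    have hττ : a ^ (j * j) = a := Subtype.ext (by
      rw [pow_mul, hja, SubmonoidClass.coe_pow, τval, ← adjM_pow, ← SubmonoidClass.coe_pow, hja,
        τval, adjM_adjM])
    have hmod : (j * j) % 11 = 1 := by
      have h1 : (a : K) ^ (j * j) = a ^ 1 := by rw [hττ, pow_one]
      refine hprim.pow_inj (Nat.mod_lt _ (by norm_num)) (by norm_num) ?_
      rw [← pow_mod_orderOf' (j * j) ha] at h1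
      exact h1
    obtain rfl : j = 10 := by
      have hcases : j = 1 ∨ j = 10 :=
        (show ∀ m < 11, m * m % 11 = 1 → m = 1 ∨ m = 10 by decide) j hj hmod
      rcases hcases with rfl | h
      · exfalso
        rw [pow_one] at hja
        have h' : τ (polA a + eK * polB a) = polA a + (eK + 1) * polB a := Subtype.ext (by
          have hAA : adjM hF A = A := by rw [hAdef, ← τval, ← hja]
          simp only [τval, polA, polB, AddMemClass.coe_add, MulMemClass.coe_mul,
            SubmonoidClass.coe_pow, OneMemClass.coe_one, heKv, adjM_add, adjM_pow, adjM_one,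
            ← hAdef, hAA, Matrix.smul_mul, one_mul, adjM_smul, hce, add_smul, one_smul, add_mul])
        rw [hroot] at h'
        refine not_both h2K ha ha1 hroot ?_
        rw [← h']
        exact Subtype.ext (adjM_zero hF)
      · exact h
    rw [← hja, ← pow_succ, ha]
  -- the element of order eleven in the unitary group
  have hτA : adjM hF A * A = 1 := by
    have h := congrArg (fun x : K => (x : Matrix (Fin 5) (Fin 5) F)) hτa
    simpa [τval] using h
  set w : GL (Fin 5) F := ⟨A, adjM hF A, mul_eq_one_comm.1 hτA, hτA⟩ with hwdef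
  have hwU : w ∈ GU 5 F q := mem_GU_of_adjM hF hτA
  have hw11 : w ^ 11 = 1 := Units.ext (by rw [Units.val_pow_eq_pow_val, Units.val_one]; exact hA11)
  have hw1 : w ≠ 1 := fun h => ha1 (Subtype.ext (by
    have := congrArg Units.val h
    exact this))
  -- concrete elements
  obtain ⟨x, hxS, hxm, hx11⟩ := exists_su hV check_x.1 check_x.2 (by rw [h4]; norm_num)
  obtain ⟨y, hyS, hym, hy5⟩ := exists_su hV check_y.1 check_y.2 (by rw [h4]; norm_num)
  obtain ⟨z, hzS, hzm, hz2⟩ := exists_su hV check_z.1 check_z.2 (by rw [h4]; norm_num)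
  obtain ⟨sw, hswS, hswm, -⟩ := exists_su hV check_sw.1 check_sw.2 (by rw [h4]; norm_num)
  -- code to vectors
  have hiter : ∀ (m : ℕ) (v : List ℕ), decV P4 ε 5 (iterC P4 5 xC m v) =
      ((x ^ m : GL (Fin 5) F) : Matrix (Fin 5) (Fin 5) F) *ᵥ decV P4 ε 5 v := fun m v => by
    rw [decV_iterC hV, Units.val_pow_eq_pow_val, hxm]
  set e₀ : Fin 5 → F := Pi.single 0 1
  have hu0 : decV P4 ε 5 (unitC 5 0) = e₀ := decV_unitC hV (0 : Fin 5)
  let g1 : Matrix (Fin 5) (Fin 5) F → Matrix (Fin 5) (Fin 5) F := fun M =>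
    M ^ 5 + (ε + 1) • M ^ 4 + M ^ 3 + M ^ 2 + ε • M + 1
  have hd2 : dec P4 ε 2 = ε := by simp [dec, P4, h2F]
  have hd3 : dec P4 ε 3 = ε + 1 := by
    simp only [dec, P4]
    norm_num
    linear_combination h2F
  have hval : ∀ j, decV P4 ε 5 (valC j) =
      g1 ((x : Matrix (Fin 5) (Fin 5) F) ^ j) *ᵥ e₀ := by
    intro j
    simp only [valC, decV_vaddC hV, decV_smulC hV, hiter, hu0, hd2, hd3, g1, Matrix.add_mulVec,
      Matrix.smul_mulVec, Matrix.one_mulVec, ← pow_mul, Units.val_pow_eq_pow_val]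
    abel
  -- the Sylow subgroups of `GU`
  obtain ⟨g, hgU, hgQ⟩ : ∃ g ∈ GU 5 F q, ∃ k : ℕ, x = g * w ^ k * g⁻¹ := by
    haveI : Fact (Nat.Prime 11) := ⟨by norm_num⟩
    let wU : GU 5 F q := ⟨w, hwU⟩
    let xU : GU 5 F q := ⟨x, hxS.1⟩
    have hcardGU : Nat.card (GU 5 F q) = 11 * 3732480 := by
      rw [CfsgLib.Classical.card_gu hF, hq]
      norm_num [Finset.prod_range_succ, Nat.even_iff]
    have hfac : (Nat.card (GU 5 F q)).factorization 11 = 1 := by
      rw [hcardGU, Nat.factorization_mul (by norm_num) (by norm_num), Finsupp.add_apply,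
        Nat.Prime.factorization_self (by norm_num), Nat.factorization_eq_zero_of_not_dvd (by norm_num)]
    have hx1 : x ≠ 1 := by
      intro h
      have hd := hiter 1 (unitC 5 0)
      rw [h, one_pow, Units.val_one, Matrix.one_mulVec] at hd
      have hb : ∃ k : Fin 5, ent (iterC P4 5 xC 1 (unitC 5 0)) k ≠ ent (unitC 5 0) k ∧
          ent (iterC P4 5 xC 1 (unitC 5 0)) k < 4 ∧ ent (unitC 5 0) k < 4 := by
        decide +kernel
      obtain ⟨k, hne, h1, h2⟩ := hb
      exact decV_ne hV hne h1 h2 hd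
    let P : Sylow 11 (GU 5 F q) := Sylow.ofCard (Subgroup.zpowers wU) (by
      rw [hfac, pow_one, Nat.card_zpowers]
      refine orderOf_eq_prime (Subtype.ext hw11) fun h => hw1 (congrArg Subtype.val h))
    let Q : Sylow 11 (GU 5 F q) := Sylow.ofCard (Subgroup.zpowers xU) (by
      rw [hfac, pow_one, Nat.card_zpowers]
      refine orderOf_eq_prime (Subtype.ext hx11) fun h => hx1 (congrArg Subtype.val h))
    obtain ⟨g, hg⟩ := MulAction.exists_smul_eq (GU 5 F q) P Q
    have hmem : xU ∈ ((g • P : Sylow 11 (GU 5 F q)) : Subgroup (GU 5 F q)) := by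
      rw [hg]; exact Subgroup.mem_zpowers xU
    rw [Sylow.coe_subgroup_smul, Subgroup.mem_smul_pointwise_iff_exists] at hmem
    obtain ⟨v, hv, hvx⟩ := hmem
    have hv' : v ∈ Subgroup.zpowers wU := hv
    obtain ⟨k, hk⟩ := (IsOfFinOrder.mem_powers_iff_mem_zpowers (isOfFinOrder_of_finite wU)).2 hv'
    refine ⟨g, g.2, k, ?_⟩
    have hxv := congrArg Subtype.val hvx
    rw [← hk] at hxv
    exact hxv.symm
  obtain ⟨k, hk⟩ := hgQ
  have hkK : ∀ i : ℕ, A ^ i ∈ K := fun i => K.pow_mem a.2 i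
  set H' := H.map (MulAut.conj g).toMonoidHom with hH'def
  have hH' : IsMaximalIn (suGL 5 q F) H' := isMaximalIn_conj hH hgU
  -- `H'` normalises `⟨x⟩`
  have hk11 : ¬ 11 ∣ k := by
    intro hd
    obtain ⟨r, rfl⟩ := hd
    have hx' : x = 1 := by rw [hk, pow_mul, hw11, one_pow, mul_one, mul_inv_cancel]
    have hne : ∃ i : Fin 5, ent (valC 0) i ≠ 0 ∧ ent (valC 0) i < 4 :=
      ((check_val 0).resolve_left (by simp))
    obtain ⟨i, hi, hi4⟩ := hne
    have h1 := congrFun (hval 1) i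
    have h0 := congrFun (hval 0) i
    rw [pow_zero] at h0
    rw [hx', Units.val_one, one_pow, ← h0] at h1
    have hd1 : ent (valC 1) i = 0 := check_val_one i
    have : ent (valC 0) i = 0 := dec_inj hV hi4 (by norm_num [P4]) (by
      rw [dec_zero hV]
      simp only [decV, hd1, dec_zero hV] at h1
      exact h1.symm)
    exact hi this
  have hnormx : ∀ s ∈ H', ∃ j < 11, s * x * s⁻¹ = x ^ j := by
    rintro _ ⟨h, hh, rfl⟩
    have hmem := (hle hh (A ^ k)).1 (hkK k)
    have h11 : (⟨_, hmem⟩ : K) ^ 11 = 1 := Subtype.ext (by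
      rw [SubmonoidClass.coe_pow]
      show _ ^ 11 = (1 : Matrix (Fin 5) (Fin 5) F)
      rw [Units.conj_pow, ← pow_mul, mul_comm, pow_mul, hA11, one_pow, mul_one, ← Units.val_mul,
        mul_inv_cancel, Units.val_one])
    obtain ⟨i, -, hi⟩ := hprim.eq_pow_of_pow_eq_one h11
    have hi' : h * w ^ k * h⁻¹ = w ^ i := Units.ext (by
      have e := congrArg Subtype.val hi
      rw [SubmonoidClass.coe_pow] at e
      rw [Units.val_mul, Units.val_mul, Units.val_pow_eq_pow_val, Units.val_pow_eq_pow_val]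
      exact e.symm)
    -- a multiple of `k` congruent to `i`
    obtain ⟨l, hl⟩ : ∃ l, k * l % 11 = i % 11 := by
      have key : ∀ m < 11, m ≠ 0 → ∀ r < 11, ∃ l < 11, m * l % 11 = r := by decide
      obtain ⟨l, -, hl⟩ := key (k % 11) (Nat.mod_lt _ (by norm_num))
        (fun h0 => hk11 (Nat.dvd_of_mod_eq_zero h0)) (i % 11) (Nat.mod_lt _ (by norm_num))
      exact ⟨l, by rw [← hl, Nat.mod_mul_mod]⟩
    refine ⟨l % 11, Nat.mod_lt _ (by norm_num), ?_⟩
    have hxl : x ^ (l % 11) = x ^ l := (pow_mod_orderOf' l hx11)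
    rw [hxl]
    have hwil : w ^ i = w ^ (k * l) := by
      rw [← pow_mod_orderOf' i hw11, ← pow_mod_orderOf' (k * l) hw11, hl]
    show g * h * g⁻¹ * x * (g * h * g⁻¹)⁻¹ = x ^ l
    calc g * h * g⁻¹ * x * (g * h * g⁻¹)⁻¹ = g * (h * (g⁻¹ * x * g) * h⁻¹) * g⁻¹ := by group
      _ = g * (h * w ^ k * h⁻¹) * g⁻¹ := by rw [hk]; group
      _ = g * (w ^ k) ^ l * g⁻¹ := by rw [hi', hwil, pow_mul]
      _ = x ^ l := by rw [hk, conj_pow]
  -- the commutant of `x` in `SU` consists of the powers of `x`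
  have hBB : decM P4 ε 5 bC * decM P4 ε 5 bInvC = 1 := by
    refine Matrix.ext_of_mulVec_single fun i => ?_
    rw [← Matrix.mulVec_mulVec, ← decV_unitC hV, ← decV_apC hV, ← decV_apC hV, (check_b i).1,
      Matrix.one_mulVec]
  have hcol : ∀ i : Fin 5, decM P4 ε 5 bC *ᵥ Pi.single i 1 =
      ((x : Matrix (Fin 5) (Fin 5) F) ^ (i : ℕ)) *ᵥ e₀ := fun i => by
    rw [← decV_unitC hV, ← decV_apC hV, (check_b i).2, hiter, hu0, Units.val_pow_eq_pow_val]
  have hcomm : ∀ t ∈ suGL 5 q F, t * x = x * t → ∃ l : ℕ, t = x ^ l := by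
    intro t ht htx
    set c := decM P4 ε 5 bInvC *ᵥ ((t : Matrix (Fin 5) (Fin 5) F) *ᵥ e₀)
    set p : Matrix (Fin 5) (Fin 5) F :=
      ∑ i : Fin 5, c i • (x : Matrix (Fin 5) (Fin 5) F) ^ (i : ℕ) with hp
    have hpe : p *ᵥ e₀ = (t : Matrix (Fin 5) (Fin 5) F) *ᵥ e₀ := by
      have h1 : decM P4 ε 5 bC *ᵥ c = (t : Matrix (Fin 5) (Fin 5) F) *ᵥ e₀ := by
        simp only [c, Matrix.mulVec_mulVec, ← mul_assoc, hBB, one_mul]
      rw [← h1]
      conv_rhs => rw [pi_eq_sum_univ' c, Matrix.mulVec_sum]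
      rw [hp, Matrix.sum_mulVec]
      refine Finset.sum_congr rfl fun i _ => ?_
      rw [Matrix.mulVec_smul, Matrix.smul_mulVec, hcol]
    have htp : (t : Matrix (Fin 5) (Fin 5) F) = p := by
      have hce' : ∀ i : ℕ, (t : Matrix (Fin 5) (Fin 5) F) * (x : Matrix (Fin 5) (Fin 5) F) ^ i =
          (x : Matrix (Fin 5) (Fin 5) F) ^ i * (t : Matrix (Fin 5) (Fin 5) F) := fun i => by
        have hc : Commute t x := htx
        rw [← Units.val_pow_eq_pow_val, ← Units.val_mul, ← Units.val_mul, (hc.pow_right i).eq]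
      have hcp : ∀ i : ℕ, p * (x : Matrix (Fin 5) (Fin 5) F) ^ i =
          (x : Matrix (Fin 5) (Fin 5) F) ^ i * p := fun i => by
        rw [hp, Finset.sum_mul, Finset.mul_sum]
        refine Finset.sum_congr rfl fun j _ => ?_
        rw [Matrix.smul_mul, Matrix.mul_smul, ← pow_add, ← pow_add, add_comm]
      have hB : (t : Matrix (Fin 5) (Fin 5) F) * decM P4 ε 5 bC = p * decM P4 ε 5 bC := by
        refine Matrix.ext_of_mulVec_single fun i => ?_
        rw [← Matrix.mulVec_mulVec, ← Matrix.mulVec_mulVec, hcol, Matrix.mulVec_mulVec,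
          Matrix.mulVec_mulVec, hce', hcp, ← Matrix.mulVec_mulVec, ← Matrix.mulVec_mulVec, hpe]
      calc (t : Matrix (Fin 5) (Fin 5) F)
          = (t : Matrix (Fin 5) (Fin 5) F) * decM P4 ε 5 bC * decM P4 ε 5 bInvC := by
            rw [mul_assoc, hBB, mul_one]
        _ = p := by rw [hB, mul_assoc, hBB, mul_one]
    -- pull back into the field
    set u : K := ∑ i : Fin 5, algebraMap F K (c i) * a ^ (k * (i : ℕ)) with hu
    have hxA : (x : Matrix (Fin 5) (Fin 5) F) =
        (g : Matrix (Fin 5) (Fin 5) F) * A ^ k * ((g⁻¹ : GL (Fin 5) F) : Matrix (Fin 5) (Fin 5) F) := by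
      rw [hk, Units.val_mul, Units.val_mul, Units.val_pow_eq_pow_val]
    have huv : (g : Matrix (Fin 5) (Fin 5) F) * (u : Matrix (Fin 5) (Fin 5) F) *
        ((g⁻¹ : GL (Fin 5) F) : Matrix (Fin 5) (Fin 5) F) = (t : Matrix (Fin 5) (Fin 5) F) := by
      rw [htp, hu, hp, AddSubmonoidClass.coe_finset_sum, Finset.mul_sum, Finset.sum_mul]
      refine Finset.sum_congr rfl fun i _ => ?_
      rw [MulMemClass.coe_mul, SubmonoidClass.coe_pow, ← hAdef, hxA, ← conj_pow_mat, pow_mul]
      simp [Algebra.algebraMap_eq_smul_one, Matrix.smul_mul, Matrix.mul_smul, mul_assoc]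
    have hfrob : τ u = u ^ 32 := by
      haveI : Fact (Nat.Prime 2) := ⟨Nat.prime_two⟩
      haveI : CharP K 2 := CharP.charP_iff_prime_eq_zero Nat.prime_two |>.2 (by exact_mod_cast h2K)
      have hτsum : τ u = ∑ i : Fin 5, algebraMap F K (qConj hF (c i)) * (τ a) ^ (k * (i : ℕ)) :=
        Subtype.ext (by
          rw [τval, hu, AddSubmonoidClass.coe_finset_sum, AddSubmonoidClass.coe_finset_sum]
          have hsum : ∀ f : Fin 5 → Matrix (Fin 5) (Fin 5) F,
              adjM hF (∑ i, f i) = ∑ i, adjM hF (f i) := fun f =>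
            map_sum (AddMonoidHom.mk' (adjM hF) (adjM_add hF)) f _
          rw [hsum]
          refine Finset.sum_congr rfl fun i _ => ?_
          simp only [MulMemClass.coe_mul, SubmonoidClass.coe_pow, τval, ← hAdef]
          simp [Algebra.algebraMap_eq_smul_one, adjM_smul, adjM_pow])
      rw [hτsum, hu, show (32 : ℕ) = 2 ^ 5 by norm_num, sum_pow_char_pow]
      refine Finset.sum_congr rfl fun i _ => ?_
      have hc : ∀ d : F, qConj hF d = d ^ 2 ^ 5 := fun d => by
        rw [qConj_apply hF, hq]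
        have h := FiniteField.pow_card d
        rw [h4] at h
        calc d ^ 2 = ((d ^ 4) ^ 4) ^ 2 := by rw [h, h]
          _ = d ^ 2 ^ 5 := by ring
      have hτ10 : τ a = a ^ 32 := by
        have h33 : a ^ 32 * a = 1 := by rw [← pow_succ, show 32 + 1 = 11 * 3 by norm_num, pow_mul, ha, one_pow]
        exact mul_right_cancel₀ (hprim.ne_zero (by norm_num)) (hτa.trans h33.symm)
      rw [mul_pow, ← map_pow, hc, hτ10, ← pow_mul, ← pow_mul,
        show 32 * (k * (i : ℕ)) = k * (i : ℕ) * 2 ^ 5 by ring]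
    have hu33 : u ^ 33 = 1 := by
      rw [pow_succ, ← hfrob]
      refine Subtype.ext ?_
      set t' := g⁻¹ * t * g with ht'
      have ht'U : t' ∈ GU 5 F q := (GU 5 F q).mul_mem ((GU 5 F q).mul_mem ((GU 5 F q).inv_mem hgU) ht.1) hgU
      have hut : (u : Matrix (Fin 5) (Fin 5) F) = (t' : Matrix (Fin 5) (Fin 5) F) := by
        rw [ht', Units.val_mul, Units.val_mul, ← huv]
        simp [mul_assoc]
      rw [MulMemClass.coe_mul, τval, hut, adjM_of_mem_GU hF ht'U, ← Units.val_mul, inv_mul_cancel]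
      rfl
    have horder : IsPrimitiveRoot (eK * a) 33 := by
      refine IsPrimitiveRoot.iff_orderOf.2 ?_
      have he3 : orderOf eK = 3 := by
        haveI : Fact (Nat.Prime 3) := ⟨Nat.prime_three⟩
        refine orderOf_eq_prime ?_ fun h1 => ?_
        · linear_combination (eK + 1) * heK + eK * h2K
        · rw [h1] at heK
          exact one_ne_zero (show (1 : K) = 0 by linear_combination -heK)
      rw [(Commute.all eK a).orderOf_mul_eq_mul_orderOf_of_coprime
        (by rw [he3, ← hprim.eq_orderOf]; norm_num), he3, ← hprim.eq_orderOf]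
    obtain ⟨m, -, hm⟩ := horder.eq_pow_of_pow_eq_one hu33
    obtain ⟨l, hl⟩ : ∃ l, k * l % 11 = m % 11 := by
      have key : ∀ m < 11, m ≠ 0 → ∀ r < 11, ∃ l < 11, m * l % 11 = r := by decide
      obtain ⟨l, -, hl⟩ := key (k % 11) (Nat.mod_lt _ (by norm_num))
        (fun h0 => hk11 (Nat.dvd_of_mod_eq_zero h0)) (m % 11) (Nat.mod_lt _ (by norm_num))
      exact ⟨l, by rw [← hl, Nat.mod_mul_mod]⟩
    refine ⟨l, Units.ext ?_⟩
    have hAm : A ^ m = A ^ (k * l) := by
      rw [← pow_mod_orderOf' m hA11, ← pow_mod_orderOf' (k * l) hA11, hl]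
    have htv : (t : Matrix (Fin 5) (Fin 5) F) = ε ^ m • (x : Matrix (Fin 5) (Fin 5) F) ^ l := by
      rw [← huv, ← hm, SubmonoidClass.coe_pow, MulMemClass.coe_mul, heKv, ← hAdef, Matrix.smul_mul,
        one_mul, smul_pow, hAm, pow_mul, hxA, ← conj_pow_mat]
      simp [Matrix.smul_mul, Matrix.mul_smul]
    have hd1 : (t : Matrix (Fin 5) (Fin 5) F).det = 1 := by
      simpa using congrArg Units.val (show Matrix.GeneralLinearGroup.det t = 1 from ht.2)
    have hdx : (x : Matrix (Fin 5) (Fin 5) F).det = 1 := by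
      simpa using congrArg Units.val (show Matrix.GeneralLinearGroup.det x = 1 from hxS.2)
    rw [htv, Matrix.det_smul, Matrix.det_pow, hdx, one_pow, mul_one, Fintype.card_fin] at hd1
    have hm3 : ε ^ m = 1 := by
      have he3 : ε ^ 3 = 1 := by linear_combination (ε + 1) * heF + ε * h2F
      calc ε ^ m = ((ε ^ m) ^ 5) ^ 2 := by
            rw [← pow_mul, ← pow_mul, show m * (5 * 2) = m + 3 * (3 * m) by ring, pow_add,
              pow_mul ε 3, he3, one_pow, mul_one]
        _ = 1 := by rw [hd1, one_pow]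
    rw [htv, hm3, one_smul, Units.val_pow_eq_pow_val]
  -- the set of lines
  let v : Fin 55 → Fin 5 → F := fun i => decV P4 ε 5 (pts.getD i [])
  set L := lineStab (lineSet v)
  have hstab : ∀ (g : GL (Fin 5) F) (A : CMat) (wt : List (ℕ × ℕ)),
      (g : Matrix (Fin 5) (Fin 5) F) = decM P4 ε 5 A → permutesC A wt = true → g ∈ L := by
    intro g A wt hgA hp
    refine mem_lineStab fun i => ?_
    simp only [permutesC, List.all_eq_true, List.mem_finRange, forall_const, Bool.and_eq_true,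
      decide_eq_true_eq, beq_iff_eq] at hp
    obtain ⟨⟨⟨h1, h2⟩, h3⟩, h4'⟩ := hp i
    refine ⟨⟨_, h1⟩, dec P4 ε (wt.getD i (0, 0)).2, fun h0 => ?_, ?_⟩
    · have := dec_inj hV (by simpa [P4] using h3) (show 0 < P4.p * P4.p by norm_num [P4])
        (h0.trans (dec_zero hV).symm)
      omega
    · rw [hgA]
      show decM P4 ε 5 A *ᵥ decV P4 ε 5 _ = _
      rw [← decV_apC hV, h4', decV_smulC hV]
  have hxL : x ∈ L := hstab x xC wx hxm check_perm.1
  have hyL : y ∈ L := hstab y yC wy hym check_perm.2.1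
  have hyx : y * x * y⁻¹ = x ^ 4 := by
    rw [mul_inv_eq_iff_eq_mul]
    refine Units.ext (Matrix.ext_of_mulVec_single fun i => ?_)
    rw [Units.val_mul, Units.val_mul, Units.val_pow_eq_pow_val, hym, hxm, ← Matrix.mulVec_mulVec,
      ← Matrix.mulVec_mulVec, ← decV_unitC hV, ← decV_apC hV, ← decV_apC hV, ← decV_apC hV,
      check_yx i, decV_iterC hV]
  have hypow : ∀ m : ℕ, y ^ m * x * (y ^ m)⁻¹ = x ^ 4 ^ m := by
    intro m
    induction m with
    | zero => simp
    | succ m ih =>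
      calc y ^ (m + 1) * x * (y ^ (m + 1))⁻¹ = y ^ m * (y * x * y⁻¹) * (y ^ m)⁻¹ := by
            rw [pow_succ]; group
        _ = (y ^ m * x * (y ^ m)⁻¹) ^ 4 := by rw [hyx, conj_pow]
        _ = _ := by rw [ih, ← pow_mul, ← pow_succ]
  have hg1x : g1 (x : Matrix (Fin 5) (Fin 5) F) *ᵥ e₀ = 0 := by
    have h := hval 1
    rw [pow_one] at h
    rw [← h]
    funext i
    simp only [decV, check_val_one i, dec_zero hV, Pi.zero_apply]
  have hg1x' : g1 (x : Matrix (Fin 5) (Fin 5) F) = 0 := by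
    have hc : ∀ i : ℕ, g1 (x : Matrix (Fin 5) (Fin 5) F) * (x : Matrix (Fin 5) (Fin 5) F) ^ i =
        (x : Matrix (Fin 5) (Fin 5) F) ^ i * g1 (x : Matrix (Fin 5) (Fin 5) F) := fun i => by
      simp only [g1, add_mul, mul_add, Matrix.smul_mul, Matrix.mul_smul, ← pow_add, ← pow_succ,
        ← pow_succ', one_mul, mul_one, add_comm i]
    have hB : g1 (x : Matrix (Fin 5) (Fin 5) F) * decM P4 ε 5 bC = 0 := by
      refine Matrix.ext_of_mulVec_single fun i => ?_
      rw [← Matrix.mulVec_mulVec, hcol, Matrix.mulVec_mulVec, hc, ← Matrix.mulVec_mulVec, hg1x,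
        Matrix.mulVec_zero, Matrix.zero_mulVec]
    calc g1 (x : Matrix (Fin 5) (Fin 5) F)
        = g1 (x : Matrix (Fin 5) (Fin 5) F) * decM P4 ε 5 bC * decM P4 ε 5 bInvC := by
          rw [mul_assoc, hBB, mul_one]
      _ = 0 := by rw [hB, zero_mul]
  have hle' : H' ≤ L := by
    intro s hs
    have hsS : s ∈ suGL 5 q F := hH'.1.le hs
    obtain ⟨j, hj, hjs⟩ := hnormx s hs
    have hjQ : j ∈ [1, 3, 4, 5, 9] := by
      refine (check_val ⟨j, hj⟩).resolve_right ?_
      rintro ⟨i, hi, hi4⟩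
      have hjs' : (x : Matrix (Fin 5) (Fin 5) F) ^ j = (s : Matrix (Fin 5) (Fin 5) F) *
          (x : Matrix (Fin 5) (Fin 5) F) * ((s⁻¹ : GL (Fin 5) F) : Matrix (Fin 5) (Fin 5) F) := by
        rw [← Units.val_pow_eq_pow_val, ← hjs, Units.val_mul, Units.val_mul]
      have hz : g1 ((x : Matrix (Fin 5) (Fin 5) F) ^ j) = (s : Matrix (Fin 5) (Fin 5) F) *
          g1 (x : Matrix (Fin 5) (Fin 5) F) * ((s⁻¹ : GL (Fin 5) F) : Matrix (Fin 5) (Fin 5) F) := by
        rw [hjs']
        simp only [g1, Units.conj_pow, mul_add, add_mul, Matrix.mul_smul, Matrix.smul_mul]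
        simp [mul_assoc]
      rw [hg1x', mul_zero, zero_mul] at hz
      have h := congrFun (hval j) i
      rw [hz, Matrix.zero_mulVec, Pi.zero_apply] at h
      exact hi (dec_inj hV hi4 (by norm_num [P4]) (h.trans (dec_zero hV).symm))
    obtain ⟨m, hm⟩ : ∃ m, x ^ 4 ^ m = x ^ j := by
      have key : ∀ j ∈ [1, 3, 4, 5, 9], ∃ m < 5, 4 ^ m % 11 = j % 11 := by decide
      obtain ⟨m, -, hm⟩ := key j hjQ
      exact ⟨m, by rw [← pow_mod_orderOf' (4 ^ m) hx11, ← pow_mod_orderOf' j hx11, hm]⟩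
    set t := (y ^ m)⁻¹ * s
    have htS : t ∈ suGL 5 q F := (suGL 5 q F).mul_mem ((suGL 5 q F).inv_mem ((suGL 5 q F).pow_mem hyS m)) hsS
    have htx : t * x = x * t := by
      calc t * x = (y ^ m)⁻¹ * (s * x * s⁻¹) * s := by simp only [t]; group
        _ = (y ^ m)⁻¹ * (y ^ m * x * (y ^ m)⁻¹) * s := by rw [hjs, hypow, hm]
        _ = x * t := by simp only [t]; group
    obtain ⟨l, hl⟩ := hcomm t htS htx
    have hst : s = y ^ m * x ^ l := by rw [← hl]; simp only [t]; group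
    rw [hst]
    exact L.mul_mem (L.pow_mem hyL m) (L.pow_mem hxL l)
  refine false_of_between hH' hle' hzS (hstab z zC wz hzm check_perm.2.2) (fun hzH => ?_) hswS
    (notMem_lineStab (v := v) 4 fun j c => ?_)
  · obtain ⟨j, hj, hjs⟩ := hnormx z hzH
    obtain ⟨i, kk, hne, hu, hv⟩ := check_z_moves ⟨j, hj⟩
    have hzi : z⁻¹ = z := inv_eq_of_mul_eq_one_right (by rw [← sq, hz2])
    refine decV_ne hV hne hu hv ?_
    rw [decV_apC hV, decV_apC hV, decV_apC hV, hiter, ← hjs, hzi, Units.val_mul, Units.val_mul,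
      ← hzm, ← hxm, Matrix.mulVec_mulVec, Matrix.mulVec_mulVec, mul_assoc]
  · obtain ⟨c', hc', rfl⟩ := hsurj c
    obtain ⟨kk, hne, hu, hv⟩ := check_moved j ⟨c', hc'⟩
    have h := decV_ne hV hne hu hv
    rw [decV_apC hV, decV_smulC hV, ← hswm] at h
    exact h

end CfsgLib.AschU.SUFive
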