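import Cfsg.Agent.Lib.AschU.MonoFrame
import Cfsg.Agent.Lib.AschU.FqCode

/-!
The stabiliser of a frame is not maximal in `SU_4(3)`: it fixes a set of 60 lines whose stabiliser
is bigger.
-/

set_option autoImplicit false
set_option linter.unusedSectionVars false

namespace CfsgLib.AschU.SUFour

open Cfsg Cfsg.Geo CfsgLib.MaxSub CfsgLib.AschU.Code Matrix
open scoped MatrixGroups

variable {F : Type*} [Field F] [Fintype F] {q : ℕ}

/-- the field with nine elements, `i * i = -1` -/
def P9 : Par := ⟨3, 2, 0⟩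

open scoped _root_.Classical in
/-- coordinates of one norm, in a stabiliser-state pattern -/
def InX (x : Fin 4 → F) : Prop :=
  (∀ i j, x i ≠ 0 → x j ≠ 0 → x i ^ 4 = x j ^ 4) ∧
    ((Finset.univ.filter fun i => x i ≠ 0).card = 1 ∨ (Finset.univ.filter fun i => x i ≠ 0).card = 2 ∨
      ((∀ i, x i ≠ 0) ∧ (∏ i, x i) ^ 2 = 1))

def sqC (a : ℕ) : ℕ := mulC P9 a a

/-- the code version -/
def inC (x : List ℕ) : Bool :=
  decide (∀ i j : Fin 4, ent x i ≠ 0 → ent x j ≠ 0 → sqC (sqC (ent x i)) = sqC (sqC (ent x j))) &&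
    (decide ((Finset.univ.filter fun i : Fin 4 => ent x i ≠ 0).card = 1) ||
      decide ((Finset.univ.filter fun i : Fin 4 => ent x i ≠ 0).card = 2) ||
      (decide (∀ i : Fin 4, ent x i ≠ 0) &&
        decide (sqC ((List.finRange 4).foldr (fun (i : Fin 4) r => mulC P9 (ent x i) r) 1) = 1)))

/-- an element of order five fixing the set -/
def tC : CMat := [[7, 5, 0, 0], [0, 0, 7, 5], [0, 0, 4, 4], [4, 4, 0, 0]]

/-- a transvection moving the set -/
def uC : CMat := [[1, 0, 0, 0], [0, 1, 0, 0], [0, 0, 4, 4], [0, 0, 5, 7]]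

def x0 : List ℕ := [0, 1, 0, 1]

theorem check_t : isUnitaryC P9 4 tC = true ∧ isPowOneC P9 4 tC 5 = true := by decide +kernel
theorem check_u : isUnitaryC P9 4 uC = true ∧ isPowOneC P9 4 uC 3 = true := by decide +kernel

theorem check_keep : ∀ a b c d : Fin 9, inC [↑a, ↑b, ↑c, ↑d] = true →
    inC (apC P9 4 tC [↑a, ↑b, ↑c, ↑d]) = true := by decide +kernel

theorem check_moved : inC x0 = true ∧ inC (apC P9 4 uC x0) = false ∧
    (∀ i : Fin 4, ent x0 i < 9) ∧ (∀ i : Fin 4, ent (apC P9 4 uC x0) i < 9) ∧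
    ent (apC P9 4 uC x0) 1 ≠ 0 := by
  decide +kernel

theorem mulC_lt (a b : ℕ) : mulC P9 a b < 9 := by
  show _ % 3 + 3 * (_ % 3) < 9
  omega

theorem apC_lt (A : CMat) (x : List ℕ) (i : Fin 4) : ent (apC P9 4 A x) i < 9 := by
  rw [apC, ent_ofFn, sumC]
  induction List.finRange 4 with
  | nil => norm_num
  | cons a l ih =>
    show _ % 3 + 3 * (_ % 3) < 9
    omega

theorem exists_valid (hF : Fintype.card F = q ^ 2) (hq : q = 3) :
    ∃ ε : F, Valid P9 hF ε ∧ ∀ c : F, ∃ a < 9, c = dec P9 ε a := by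
  classical
  have h9 : Fintype.card F = 9 := by rw [hF, hq]; rfl
  obtain ⟨ε, hε⟩ := FiniteField.isSquare_neg_one_iff.2 (show Fintype.card F % 4 ≠ 3 by rw [h9]; norm_num)
  have h3 : (3 : F) = 0 := by
    have h := FiniteField.cast_card_eq_zero F
    rw [h9] at h
    push_cast at h
    exact mul_self_eq_zero.1 (by linear_combination h)
  have hone : (1 : F) ≠ -1 := fun h => one_ne_zero (α := F) (by linear_combination h3 - h)
  have hc : qConj hF ε = -ε := by
    rw [qConj_apply hF, hq]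
    linear_combination -ε * hε
  have hV : Valid P9 hF ε := by
    refine ⟨Nat.prime_three, by simp [P9, h3], ?_, ?_, ?_⟩
    · show ε * ε = ((2 : ℕ) : F) + ((0 : ℕ) : F) * ε
      push_cast
      linear_combination -hε - h3
    · rw [hc]
      show -ε = ((0 : ℕ) : F) - ε
      simp
    · rw [hc]
      intro h
      have h0 : ε = 0 := by linear_combination h + ε * h3
      rw [h0, mul_zero] at hε
      exact one_ne_zero (α := F) (neg_eq_zero.1 hε)
  refine ⟨ε, hV, fun c => ?_⟩
  have hinj : Function.Injective (fun a : Fin 9 => dec P9 ε (a : ℕ)) := fun a b h =>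
    Fin.ext (dec_inj hV a.2 b.2 h)
  obtain ⟨a, ha⟩ := ((Fintype.bijective_iff_injective_and_card _).2
    ⟨hinj, by rw [Fintype.card_fin, h9]⟩).surjective c
  exact ⟨a, a.2, ha.symm⟩

variable {hF : Fintype.card F = q ^ 2} {ε : F} (hV : Valid P9 hF ε)
include hV

theorem inC_iff {x : List ℕ} (hx : ∀ i : Fin 4, ent x i < 9) :
    inC x = true ↔ InX (decV P9 ε 4 x) := by
  classical
  have h0 : ∀ i : Fin 4, decV P9 ε 4 x i ≠ 0 ↔ ent x i ≠ 0 := fun i => by
    refine not_congr ⟨fun h => dec_inj hV (hx i) (by norm_num [P9]) (h.trans (dec_zero hV).symm),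
      fun h => ?_⟩
    simp only [decV, h, dec_zero hV]
  have hN : ∀ i : Fin 4, dec P9 ε (sqC (sqC (ent x i))) = decV P9 ε 4 x i ^ 4 := fun i => by
    simp only [sqC, dec_mulC hV, decV]; ring
  have hprod : dec P9 ε (sqC ((List.finRange 4).foldr (fun (i : Fin 4) r => mulC P9 (ent x i) r) 1)) =
      (∏ i, decV P9 ε 4 x i) ^ 2 := by
    rw [sqC, dec_mulC hV, sq, Fin.prod_univ_def]
    suffices h : dec P9 ε ((List.finRange 4).foldr (fun (i : Fin 4) r => mulC P9 (ent x i) r) 1) =
        ((List.finRange 4).map (decV P9 ε 4 x)).prod by rw [h]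
    induction List.finRange 4 with
    | nil => simpa using dec_one hV
    | cons a l ih => simp [dec_mulC hV, ih, decV]
  simp only [inC, InX, Bool.or_eq_true, Bool.and_eq_true, decide_eq_true_eq, h0, ← hprod, ← hN,
    or_assoc]
  refine and_congr ⟨fun h i j hi hj => by rw [h i j hi hj],
    fun h i j hi hj => dec_inj hV (mulC_lt _ _) (mulC_lt _ _) (h i j hi hj)⟩ ?_
  refine or_congr Iff.rfl (or_congr Iff.rfl (and_congr Iff.rfl ⟨fun h => by rw [h, dec_one hV],
    fun h => dec_inj hV (mulC_lt _ _) (by norm_num [P9]) (h.trans (dec_one hV).symm)⟩))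

omit hV in
theorem inX_smul (h9 : Fintype.card F = 9) {a : F} (ha : a ≠ 0) {x : Fin 4 → F} (hx : InX x) :
    InX (a • x) := by
  classical
  have h8 : a ^ 8 = 1 := by
    have h := FiniteField.pow_card_sub_one_eq_one a ha
    rwa [h9] at h
  obtain ⟨h1, h2⟩ := hx
  refine ⟨fun i j hi hj => ?_, ?_⟩
  · simp only [Pi.smul_apply, smul_eq_mul, mul_ne_zero_iff] at hi hj ⊢
    rw [mul_pow, mul_pow, h1 i j hi.2 hj.2]
  rcases h2 with h | h | ⟨h, h'⟩
  · exact Or.inl (by simpa [ha] using h)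
  · exact Or.inr (Or.inl (by simpa [ha] using h))
  · refine Or.inr (Or.inr ⟨fun i => mul_ne_zero ha (h i), ?_⟩)
    simp only [Pi.smul_apply, smul_eq_mul]
    rw [Finset.prod_mul_distrib, mul_pow, h', Finset.prod_const, Finset.card_univ, Fintype.card_fin,
      mul_one, ← pow_mul, h8]

omit hV in
theorem false_of_frame (hF : Fintype.card F = q ^ 2) (hq : q = 3)
    {H : Subgroup (GL (Fin 4) F)} (hH : IsMaximalIn (suGL 4 q F) H)
    {t : ℕ} {D : Fin t → Submodule F (Fin 4 → F)}
    (hD : IsNondegenerateMDecomposition (hermForm 4 F q) 1 D) (hle : H ≤ decompositionStabilizer D) :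
    False := by
  classical
  obtain ⟨ε, hV, hsurj⟩ := exists_valid hF hq
  have h9 : Fintype.card F = 9 := by rw [hF, hq]; rfl
  obtain ⟨H', hH', hmon⟩ := exists_monomial hF (n := 4) (by norm_num) hH hD hle
  set v : {x : Fin 4 → F // InX x} → Fin 4 → F := Subtype.val
  have hstab : H' ≤ lineStab (lineSet v) := by
    intro s hs
    obtain ⟨σ, e, hse, hN, hdet⟩ := hmon s hs
    have he4 : ∀ i, e i ^ 4 = 1 := fun i => by
      have h := hN i
      rw [qConj_apply hF, hq] at h
      linear_combination h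
    have hprod : (∏ i, e i) ^ 2 = 1 := by
      rcases Int.units_eq_one_or (Equiv.Perm.sign σ) with h | h <;> rw [h] at hdet <;>
        simp at hdet
      · rw [hdet, one_pow]
      · linear_combination (-∏ i, e i + 1) * hdet
    refine mem_lineStab fun x => ⟨⟨_, ?_⟩, 1, one_ne_zero, (one_smul F _).symm⟩
    show InX ((s : Matrix (Fin 4) (Fin 4) F) *ᵥ x.1)
    rw [hse]
    have he : ∀ i, e i ≠ 0 := fun i h => by simpa [h] using hN i
    have hy : ∀ i, (DecompMax.monMat σ e *ᵥ x.1) (σ i) = e i * x.1 i :=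
      fun i => DecompMax.monMat_mulVec σ e x.1 i
    have hcard : (Finset.univ.filter fun i => (DecompMax.monMat σ e *ᵥ x.1) i ≠ 0).card =
        (Finset.univ.filter fun i => x.1 i ≠ 0).card :=
      (Finset.card_equiv σ fun i => by simp [hy, he]).symm
    obtain ⟨h1, h2⟩ := x.2
    refine ⟨fun i j => ?_, ?_⟩
    · rw [← σ.apply_symm_apply i, ← σ.apply_symm_apply j, hy, hy, mul_ne_zero_iff, mul_ne_zero_iff]
      intro hi hj
      rw [mul_pow, mul_pow, he4, he4, h1 _ _ hi.2 hj.2]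
    rw [hcard]
    rcases h2 with h | h | ⟨h, h'⟩
    · exact Or.inl h
    · exact Or.inr (Or.inl h)
    · refine Or.inr (Or.inr ⟨fun j => ?_, ?_⟩)
      · rw [← σ.apply_symm_apply j, hy]
        exact mul_ne_zero (he _) (h _)
      · rw [← Equiv.prod_comp σ]
        simp only [hy]
        rw [Finset.prod_mul_distrib, mul_pow, hprod, h', one_mul]
  obtain ⟨T, hTS, hTm, -⟩ := exists_su hV check_t.1 check_t.2 (by rw [h9]; norm_num)
  obtain ⟨U, hUS, hUm, -⟩ := exists_su hV check_u.1 check_u.2 (by rw [h9]; norm_num)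
  refine false_of_between hH' hstab hTS (mem_lineStab fun x => ?_) (fun hT => ?_) hUS
    (notMem_lineStab (v := v) ⟨decV P9 ε 4 x0, (inC_iff hV check_moved.2.2.1).1 check_moved.1⟩
      fun y a he => ?_)
  · choose c hc hce using fun i => hsurj (x.1 i)
    have hx : x.1 = decV P9 ε 4 [c 0, c 1, c 2, c 3] := by
      funext i
      fin_cases i <;> exact hce _
    have hlt : ∀ i : Fin 4, ent [c 0, c 1, c 2, c 3] i < 9 := fun i => by
      fin_cases i <;> exact hc _
    refine ⟨⟨_, ?_⟩, 1, one_ne_zero, (one_smul F _).symm⟩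
    show InX ((T : Matrix (Fin 4) (Fin 4) F) *ᵥ x.1)
    rw [hTm, hx, ← decV_apC hV, ← inC_iff hV (apC_lt _ _)]
    refine check_keep ⟨_, hc 0⟩ ⟨_, hc 1⟩ ⟨_, hc 2⟩ ⟨_, hc 3⟩ ?_
    have hX := x.2
    rw [hx, ← inC_iff hV hlt] at hX
    exact hX
  · obtain ⟨σ, e, hse, -, -⟩ := hmon T hT
    have h0 : ∀ a, a < 9 → a ≠ 0 → dec P9 ε a ≠ 0 := fun a ha ha0 h =>
      ha0 (dec_inj hV ha (by norm_num [P9]) (h.trans (dec_zero hV).symm))
    have h1 : (T : Matrix (Fin 4) (Fin 4) F) 0 0 ≠ 0 := by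
      rw [hTm]; exact h0 7 (by norm_num) (by norm_num)
    have h2 : (T : Matrix (Fin 4) (Fin 4) F) 3 0 ≠ 0 := by
      rw [hTm]; exact h0 4 (by norm_num) (by norm_num)
    rw [hse] at h1 h2
    simp only [DecompMax.monMat] at h1 h2
    split_ifs at h1 h2 with e1 e2
    · exact absurd (e1.trans e2.symm) (by decide)
    all_goals first | exact h1 rfl | exact h2 rfl
  · rw [show v _ = decV P9 ε 4 x0 from rfl, hUm, ← decV_apC hV] at he
    have hne : decV P9 ε 4 (apC P9 4 uC x0) 1 ≠ 0 := fun h0 =>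
      check_moved.2.2.2.2 (dec_inj hV (check_moved.2.2.2.1 1) (by norm_num [P9]) (h0.trans (dec_zero hV).symm))
    have ha : a ≠ 0 := fun h0 => hne (by rw [he, h0, zero_smul]; rfl)
    have := (inC_iff hV check_moved.2.2.2.1).2 (he ▸ inX_smul h9 ha y.2)
    rw [check_moved.2.1] at this
    exact Bool.false_ne_true this

end CfsgLib.AschU.SUFour
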