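import Cfsg.Agent.Lib.AschU.MonoFrame
import Cfsg.Agent.Lib.MaxSub.Rational

/-!
For `q ≤ 3` the stabiliser in `SU_4(q)` of two complementary totally isotropic planes commutes, up to
scalars, with a conjugate-linear involution and so lies in a symplectic subfield group.
-/

set_option autoImplicit false
set_option linter.unusedSectionVars false

namespace CfsgLib.AschU.SUFourHalves

open Cfsg Cfsg.Geo CfsgLib.MaxSub Matrix
open scoped MatrixGroups

variable {F : Type*} [Field F] [Fintype F] {q : ℕ}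

/-- the Gram matrix of two dual planes -/
def gramM : Matrix (Fin 4) (Fin 4) F := !![0, 0, 1, 0; 0, 0, 0, 1; 1, 0, 0, 0; 0, 1, 0, 0]

/-- the matrix of the conjugate-linear involution -/
def jM : Matrix (Fin 4) (Fin 4) F := !![0, 0, 0, 1; 0, 0, -1, 0; 0, -1, 0, 0; 1, 0, 0, 0]

set_option maxHeartbeats 1600000 in
theorem exists_subfield_of_halves (hF : Fintype.card F = q ^ 2) (hq : q = 2 ∨ q = 3)
    {H : Subgroup (GL (Fin 4) F)} (hH : H ≤ suGL 4 q F)
    {D : Fin 2 → Submodule F (Fin 4 → F)} (hD : IsMDecomposition 2 D)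
    (hT : ∀ i, IsTotallySingularFor (hermForm 4 F q) (D i)) (hle : H ≤ decompositionStabilizer D) :
    ∃ (F₀ : Subfield F) (P : GL (Fin 4) F) (ζ : F), Fintype.card F = Nat.card F₀ ^ 2 ∧ ζ ≠ 0 ∧
      ζ + ζ ^ q = 0 ∧ IsFormRationalStructure (hermForm 4 F q) F₀ ζ P ∧
      (∀ u : Fin 4 → F, (∀ i, u i ∈ F₀) → hermForm 4 F q ((P : Matrix (Fin 4) (Fin 4) F) *ᵥ u)
        ((P : Matrix (Fin 4) (Fin 4) F) *ᵥ u) = 0) ∧
      H ≤ subfieldSubgroup F₀ P := by
  classical
  have hf := isUnitaryForm_hermForm hF 4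
  set σ := qConj hF with hσdef
  have hsup : D 0 ⊔ D 1 = ⊤ := by
    rw [← hD.iSup_eq_top]
    exact le_antisymm (sup_le (le_iSup D 0) (le_iSup D 1))
      (iSup_le fun i => by fin_cases i; exacts [le_sup_left, le_sup_right])
  -- dual bases
  let b : Module.Basis (Fin 2) F (D 0) := Module.finBasisOfFinrankEq F _ (hD.finrank_eq 0)
  let L : D 1 →ₗ[F] (Fin 2 → F) :=
    { toFun := fun u i => hermForm 4 F q (u : Fin 4 → F) (b i : Fin 4 → F)
      map_add' := fun u u' => funext fun i => hf.add_left _ _ _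
      map_smul' := fun c u => funext fun i => hf.smul_left _ _ _ }
  have hLinj : Function.Injective L := by
    refine (injective_iff_map_eq_zero L).2 fun u hu => ?_
    by_contra hne
    obtain ⟨⟨x, hx⟩, -⟩ := hf.nondegenerate (u : Fin 4 → F) (fun h => hne (Subtype.ext h))
    refine hx ?_
    obtain ⟨y, hy, z, hz, rfl⟩ := Submodule.mem_sup.1 (hsup.ge (Submodule.mem_top (x := x)))
    rw [hf.add_left, hT 1 z hz u u.2, add_zero]
    rw [show y = ((⟨y, hy⟩ : D 0) : Fin 4 → F) from rfl, ← b.sum_repr ⟨y, hy⟩]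
    simp only [Fin.sum_univ_two, Submodule.coe_add, Submodule.coe_smul_of_tower, hf.add_left,
      hf.smul_left]
    rw [herm_eq_zero_comm hf (congrFun hu 0), herm_eq_zero_comm hf (congrFun hu 1)]
    simp
  have hLsurj : Function.Surjective L :=
    (LinearMap.injective_iff_surjective_of_finrank_eq_finrank
      (by rw [hD.finrank_eq 1, Module.finrank_fin_fun])).1 hLinj
  choose fb hfb using fun i : Fin 2 => hLsurj (Pi.single i 1)
  have hfe : ∀ i j : Fin 2, hermForm 4 F q (fb i : Fin 4 → F) (b j : Fin 4 → F) =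
      if i = j then 1 else 0 := fun i j => by
    rw [show hermForm 4 F q (fb i : Fin 4 → F) (b j : Fin 4 → F) = L (fb i) j from rfl, hfb]
    simp [Pi.single_apply, eq_comm]
  have hef : ∀ i j : Fin 2, hermForm 4 F q (b j : Fin 4 → F) (fb i : Fin 4 → F) =
      if i = j then 1 else 0 := fun i j => by
    rw [hf.herm, hfe, apply_ite (qConj hF), map_one, map_zero]
  let d : Fin 4 → Fin 4 → F := ![b 0, b 1, fb 0, fb 1]
  have hd0 : d 0 ∈ D 0 := (b 0).2
  have hd1 : d 1 ∈ D 0 := (b 1).2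
  have hd2 : d 2 ∈ D 1 := (fb 0).2
  have hd3 : d 3 ∈ D 1 := (fb 1).2
  have hgram : ∀ i j, hermForm 4 F q (d i) (d j) = gramM i j := by
    intro i j
    fin_cases i <;> fin_cases j <;>
      simp [d, gramM, hfe, hef, hT 0 _ (b 0).2 _ (b 0).2, hT 0 _ (b 0).2 _ (b 1).2,
        hT 0 _ (b 1).2 _ (b 0).2, hT 0 _ (b 1).2 _ (b 1).2, hT 1 _ (fb 0).2 _ (fb 0).2,
        hT 1 _ (fb 0).2 _ (fb 1).2, hT 1 _ (fb 1).2 _ (fb 0).2, hT 1 _ (fb 1).2 _ (fb 1).2]
  let G : Matrix (Fin 4) (Fin 4) F := fun r c => d c r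
  have hadjG : ∀ (A : Matrix (Fin 4) (Fin 4) F) i j,
      (adjM hF G * A * G) i j = hermForm 4 F q (A *ᵥ d j) (d i) := by
    intro A i j
    rw [Matrix.mul_assoc, hermForm_eq_dot hF, Matrix.mul_apply]
    exact Finset.sum_congr rfl fun k _ => by
      show qConj hF (d i k) * (A * G) k j = (A *ᵥ d j) k * qConj hF (d i k)
      rw [show (A * G) k j = (A *ᵥ d j) k from rfl, mul_comm]
  have hGG : adjM hF G * G = gramM := by
    ext i j
    have h := hadjG 1 i j
    rw [mul_one, Matrix.one_mulVec, hgram] at h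
    rw [h]
    fin_cases i <;> fin_cases j <;> simp [gramM]
  have hMM : (gramM : Matrix (Fin 4) (Fin 4) F) * gramM = 1 := by
    ext i j
    fin_cases i <;> fin_cases j <;> simp [gramM, Matrix.mul_apply, Fin.sum_univ_four]
  have hGinv : gramM * adjM hF G * G = 1 := by rw [Matrix.mul_assoc, hGG, hMM]
  set g : GL (Fin 4) F := ⟨G, gramM * adjM hF G, mul_eq_one_comm.1 hGinv, hGinv⟩ with hg
  -- the fixed field
  let F₀ : Subfield F := RingHom.eqLocusField (qConj hF).toRingHom (RingHom.id F)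
  have memF₀ : ∀ {x : F}, x ∈ F₀ ↔ qConj hF x = x := Iff.rfl
  have hF₀ : Fintype.card F = Nat.card F₀ ^ 2 := by
    rw [hF]
    congr 1
    show q = Nat.card (F₀ : Set F)
    rcases hq with rfl | rfl
    · have hset : (F₀ : Set F) = {0, 1} := by
        ext x
        rw [SetLike.mem_coe, memF₀, qConj_apply hF, Set.mem_insert_iff, Set.mem_singleton_iff]
        constructor
        · intro h
          rcases mul_eq_zero.1 (show x * (x - 1) = 0 by linear_combination h) with h | h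
          · exact Or.inl h
          · exact Or.inr (sub_eq_zero.1 h)
        · rintro (rfl | rfl) <;> simp
      rw [Nat.card_coe_set_eq, hset, Set.ncard_pair zero_ne_one]
    · have h3 : (3 : F) = 0 := by
        have h := FiniteField.cast_card_eq_zero F
        rw [hF] at h
        push_cast at h
        exact mul_self_eq_zero.1 (by linear_combination h)
      have hne : (1 : F) ≠ -1 := fun h => one_ne_zero (α := F) (by linear_combination h3 - h)
      have hset : (F₀ : Set F) = {0, 1, -1} := by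
        ext x
        rw [SetLike.mem_coe, memF₀, qConj_apply hF]
        simp only [Set.mem_insert_iff, Set.mem_singleton_iff]
        constructor
        · intro h
          rcases mul_eq_zero.1 (show x * ((x - 1) * (x + 1)) = 0 by linear_combination h) with h | h
          · exact Or.inl h
          · rcases mul_eq_zero.1 h with h | h
            · exact Or.inr (Or.inl (sub_eq_zero.1 h))
            · exact Or.inr (Or.inr (eq_neg_of_add_eq_zero_left h))
        · rintro (rfl | rfl | rfl) <;> ring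
      rw [Nat.card_coe_set_eq, hset, Set.ncard_eq_three.2
        ⟨0, 1, -1, zero_ne_one, (neg_ne_zero.2 one_ne_zero).symm, hne, rfl⟩]
  obtain ⟨ζ, hζ0, hζ⟩ := exists_trace_zero hf
  obtain ⟨ω, hω⟩ : ∃ ω : F, qConj hF ω ≠ ω := by
    by_contra h
    push Not at h
    exact hf.ne_refl (RingEquiv.ext h)
  obtain ⟨D', hD'⟩ : ∃ D' : F, (σ ω - ω) * D' = 1 := ⟨_, mul_inv_cancel₀ (sub_ne_zero.2 hω)⟩
  let P' : Matrix (Fin 4) (Fin 4) F := !![1, ω, 0, 0; 0, 0, 1, ω; 0, 0, -1, -σ ω; 1, σ ω, 0, 0]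
  let Q' : Matrix (Fin 4) (Fin 4) F :=
    !![D' * σ ω, 0, 0, -(D' * ω); -D', 0, 0, D'; 0, D' * σ ω, D' * ω, 0; 0, -D', -D', 0]
  have hQP : Q' * P' = 1 := by
    ext i j
    fin_cases i <;> fin_cases j <;> simp [Q', P', Matrix.mul_apply, Fin.sum_univ_four] <;>
      first | ring1 | linear_combination hD' | linear_combination -hD'
  set P1 : GL (Fin 4) F := ⟨P', Q', mul_eq_one_comm.1 hQP, hQP⟩ with hP1
  have mmap : ∀ A B : Matrix (Fin 4) (Fin 4) F,
      (A * B).map σ = A.map σ * B.map σ := fun A B => Matrix.map_mul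
  have hσσ : ∀ x, σ (σ x) = x := qConj_qConj hF
  have hJJ : (jM : Matrix (Fin 4) (Fin 4) F) * jM = 1 := by
    ext i j
    fin_cases i <;> fin_cases j <;> simp [jM, Matrix.mul_apply, Fin.sum_univ_four]
  have hσJ : (jM : Matrix (Fin 4) (Fin 4) F).map σ = jM := by
    ext i j
    fin_cases i <;> fin_cases j <;> simp [jM]
  have hσP : P'.map σ = jM * P' := by
    ext i j
    fin_cases i <;> fin_cases j <;> simp [jM, P', Matrix.mul_apply, Fin.sum_univ_four, hσσ]
  have hσQ : Q'.map σ = Q' * jM := by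
    have h1 : Q'.map σ * (jM * P') = 1 := by
      rw [← hσP, ← mmap, hQP, Matrix.map_one _ (map_zero _) (map_one _)]
    calc Q'.map σ = Q'.map σ * (jM * (P' * Q') * jM) := by
          rw [mul_eq_one_comm.1 hQP, mul_one, hJJ, mul_one]
      _ = Q'.map σ * (jM * P') * (Q' * jM) := by simp only [Matrix.mul_assoc]
      _ = _ := by rw [h1, one_mul]
  refine ⟨F₀, g * P1, ζ, hF₀, hζ0, by rw [← qConj_apply hF]; exact hζ, ?_, ?_, ?_⟩
  · intro u v hu hv
    have hu' : ∀ i, σ (u i) = u i := fun i => memF₀.1 (hu i)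
    have hv' : ∀ i, σ (v i) = v i := fun i => memF₀.1 (hv i)
    rw [memF₀, Units.val_mul, ← Matrix.mulVec_mulVec, ← Matrix.mulVec_mulVec,
      hermForm_mulVec_left hF, Matrix.mulVec_mulVec, hGG, hermForm_eq_dot hF, map_mul,
      show qConj hF ζ = -ζ from eq_neg_of_add_eq_zero_right hζ]
    simp [hP1, P', gramM, dotProduct, Fin.sum_univ_four, Matrix.mulVec, hu', hv', ← hσdef, hσσ]
    ring
  · intro u hu
    have hu' : ∀ i, σ (u i) = u i := fun i => memF₀.1 (hu i)
    rw [Units.val_mul, ← Matrix.mulVec_mulVec,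
      hermForm_mulVec_left hF, Matrix.mulVec_mulVec, hGG, hermForm_eq_dot hF]
    simp [hP1, P', gramM, dotProduct, Fin.sum_univ_four, Matrix.mulVec, hu', ← hσdef, hσσ]
    ring
  intro s hs
  obtain ⟨hsU, hs1⟩ := hH hs
  obtain ⟨π, hπ⟩ := hle hs
  have hmove : ∀ i x, x ∈ D i → (s : Matrix (Fin 4) (Fin 4) F) *ᵥ x ∈ D (π i) := fun i x hx => by
    rw [← hπ i]; exact ⟨x, hx, Matrix.toLin'_apply _ _⟩
  set X : GL (Fin 4) F := g⁻¹ * s * g with hX
  have hXG : (X : Matrix (Fin 4) (Fin 4) F) = gramM * (adjM hF G * (s : Matrix (Fin 4) (Fin 4) F) * G) := by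
    rw [hX, Units.val_mul, Units.val_mul]
    show gramM * adjM hF G * (s : Matrix (Fin 4) (Fin 4) F) * G = _
    simp only [Matrix.mul_assoc]
  have hXiso : adjM hF (X : Matrix (Fin 4) (Fin 4) F) * gramM * (X : Matrix (Fin 4) (Fin 4) F) =
      gramM := by
    have h1 : (s : Matrix (Fin 4) (Fin 4) F) * G = G * (X : Matrix (Fin 4) (Fin 4) F) := by
      rw [show G = (g : Matrix (Fin 4) (Fin 4) F) from rfl, ← Units.val_mul, ← Units.val_mul,
        show s * g = g * X by rw [hX]; group]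
    conv_lhs => rw [← hGG]
    calc adjM hF (X : Matrix (Fin 4) (Fin 4) F) * (adjM hF G * G) * X
        = adjM hF (G * (X : Matrix (Fin 4) (Fin 4) F)) * (G * X) := by
          rw [adjM_mul]; simp only [Matrix.mul_assoc]
      _ = adjM hF G * (adjM hF (s : Matrix (Fin 4) (Fin 4) F) * s) * G := by
          rw [← h1, adjM_mul]; simp only [Matrix.mul_assoc]
      _ = _ := by
          rw [adjM_of_mem_GU hF hsU, ← Units.val_mul, inv_mul_cancel, Units.val_one, mul_one, hGG]
  have hXdet : (X : Matrix (Fin 4) (Fin 4) F).det = 1 := by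
    have : Matrix.GeneralLinearGroup.det X = 1 := by
      rw [hX, map_mul, map_mul, map_inv, show Matrix.GeneralLinearGroup.det s = 1 from hs1]
      group
    exact congrArg Units.val this
  have hrow : ∀ k j, (X : Matrix (Fin 4) (Fin 4) F) k j =
      hermForm 4 F q ((s : Matrix (Fin 4) (Fin 4) F) *ᵥ d j) (d (![2, 3, 0, 1] k)) := by
    intro k j
    rw [hXG, Matrix.mul_apply, Fin.sum_univ_four, hadjG, hadjG, hadjG, hadjG]
    fin_cases k <;> simp [gramM]
  -- the factor
  have hfac : ∀ x : F, x ≠ 0 → σ x = x → x * x = 1 := by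
    intro x hx h
    rw [hσdef, qConj_apply hF] at h
    rcases hq with rfl | rfl
    · have h1 : x = 1 := mul_left_cancel₀ hx (by linear_combination h)
      rw [h1, one_mul]
    · exact mul_left_cancel₀ hx (by linear_combination h)
  obtain ⟨γ, hγ, hcomm⟩ : ∃ γ : F, (γ = 1 ∨ γ = -1) ∧
      (X : Matrix (Fin 4) (Fin 4) F) * jM = γ • (jM * (X : Matrix (Fin 4) (Fin 4) F).map σ) := by
    -- the two diagonal shapes
    have key : ∀ (a b c d e f g h : F), σ e * a + σ g * c = 1 → σ e * b + σ g * d = 0 →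
        σ f * a + σ h * c = 0 → σ f * b + σ h * d = 1 → (a * d - b * c) * (e * h - f * g) = 1 →
        ∃ δ : F, (δ = 1 ∨ δ = -1) ∧ σ δ = δ ∧ δ * δ = 1 ∧ a = δ * σ h ∧ b = -(δ * σ g) ∧
          c = -(δ * σ f) ∧ d = δ * σ e := by
      intro a b c d e f g h h1 h2 h3 h4 h5
      set δ := a * d - b * c
      have he : d = δ * σ e := by linear_combination -d * h1 + c * h2
      have hg : b = -(δ * σ g) := by linear_combination -b * h1 + a * h2
      have hf' : c = -(δ * σ f) := by linear_combination -c * h4 + d * h3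
      have hh : a = δ * σ h := by linear_combination -a * h4 + b * h3
      have hδ0 : δ ≠ 0 := fun h0 => one_ne_zero (α := F) (by rw [← h5, h0, zero_mul])
      have h6 : δ * σ (e * h - f * g) = 1 := by
        refine mul_left_cancel₀ hδ0 ?_
        rw [map_sub, map_mul, map_mul, mul_one]
        linear_combination (-d) * hh - δ * σ h * he + c * hg - δ * σ g * hf'
      have h7 : σ δ = δ := by
        have h8 := congrArg σ h6
        rw [map_mul, hσσ, map_one] at h8
        have h9 : e * h - f * g ≠ 0 := fun h0 => one_ne_zero (α := F) (by rw [← h5, h0, mul_zero])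
        exact mul_right_cancel₀ h9 (h8.trans h5.symm)
      have h10 := hfac δ hδ0 h7
      refine ⟨δ, ?_, h7, h10, hh, hg, hf', he⟩
      exact mul_self_eq_one_iff.1 h10
    have hperp : ∀ i x, x ∈ D i → ∀ y ∈ D i, hermForm 4 F q x y = 0 := fun i x hx y hy => hT i x hx y hy
    have he00 := fun i j => congrFun (congrFun hXiso i) j
    have q1 := he00 2 0
    have q2 := he00 2 1
    have q3 := he00 3 0
    have q4 := he00 3 1
    have hd := hXdet
    rw [Matrix.det_succ_row_zero] at hd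
    rcases (show (π 0 = 0 ∧ π 1 = 1) ∨ (π 0 = 1 ∧ π 1 = 0) by
      have hne : π 0 ≠ π 1 := π.injective.ne (by decide)
      revert hne; generalize π 0 = u; generalize π 1 = w; revert u w; decide) with ⟨p0, p1⟩ | ⟨p0, p1⟩
    · have z0 : ∀ x ∈ D 0, (s : Matrix (Fin 4) (Fin 4) F) *ᵥ x ∈ D 0 := fun x hx => p0 ▸ hmove 0 x hx
      have z1 : ∀ x ∈ D 1, (s : Matrix (Fin 4) (Fin 4) F) *ᵥ x ∈ D 1 := fun x hx => p1 ▸ hmove 1 x hx
      have x20 : (X : Matrix (Fin 4) (Fin 4) F) 2 0 = 0 := by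
        rw [hrow]; exact hperp 0 _ (z0 _ hd0) _ hd0
      have x21 : (X : Matrix (Fin 4) (Fin 4) F) 2 1 = 0 := by
        rw [hrow]; exact hperp 0 _ (z0 _ hd1) _ hd0
      have x30 : (X : Matrix (Fin 4) (Fin 4) F) 3 0 = 0 := by
        rw [hrow]; exact hperp 0 _ (z0 _ hd0) _ hd1
      have x31 : (X : Matrix (Fin 4) (Fin 4) F) 3 1 = 0 := by
        rw [hrow]; exact hperp 0 _ (z0 _ hd1) _ hd1
      have x02 : (X : Matrix (Fin 4) (Fin 4) F) 0 2 = 0 := by
        rw [hrow]; exact hperp 1 _ (z1 _ hd2) _ hd2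
      have x03 : (X : Matrix (Fin 4) (Fin 4) F) 0 3 = 0 := by
        rw [hrow]; exact hperp 1 _ (z1 _ hd3) _ hd2
      have x12 : (X : Matrix (Fin 4) (Fin 4) F) 1 2 = 0 := by
        rw [hrow]; exact hperp 1 _ (z1 _ hd2) _ hd3
      have x13 : (X : Matrix (Fin 4) (Fin 4) F) 1 3 = 0 := by
        rw [hrow]; exact hperp 1 _ (z1 _ hd3) _ hd3
      simp [adjM, gramM, Matrix.mul_apply, Fin.sum_univ_four, x20, x21, x30, x31, x02, x03, x12, x13]
        at q1 q2 q3 q4
      simp [Matrix.det_fin_three, Fin.sum_univ_four, Fin.succAbove, x20, x21, x30, x31, x02, x03, x12,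
        x13] at hd
      obtain ⟨δ, hδ, hδσ, hδ2, ea, eb, ec, ed⟩ := key _ _ _ _ _ _ _ _ q1 q2 q3 q4
        (by linear_combination hd)
      refine ⟨δ, hδ, ?_⟩
      ext i j
      fin_cases i <;> fin_cases j <;>
        simp [jM, Matrix.mul_apply, Matrix.vecMul, dotProduct, Fin.sum_univ_four, x20, x21, x30, x31, x02, x03, x12, x13, ea, eb,
          ec, ed, hδσ, hσσ, ← mul_assoc, hδ2]
    · have z0 : ∀ x ∈ D 0, (s : Matrix (Fin 4) (Fin 4) F) *ᵥ x ∈ D 1 := fun x hx => p0 ▸ hmove 0 x hx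
      have z1 : ∀ x ∈ D 1, (s : Matrix (Fin 4) (Fin 4) F) *ᵥ x ∈ D 0 := fun x hx => p1 ▸ hmove 1 x hx
      have x00 : (X : Matrix (Fin 4) (Fin 4) F) 0 0 = 0 := by
        rw [hrow]; exact hperp 1 _ (z0 _ hd0) _ hd2
      have x01 : (X : Matrix (Fin 4) (Fin 4) F) 0 1 = 0 := by
        rw [hrow]; exact hperp 1 _ (z0 _ hd1) _ hd2
      have x10 : (X : Matrix (Fin 4) (Fin 4) F) 1 0 = 0 := by
        rw [hrow]; exact hperp 1 _ (z0 _ hd0) _ hd3
      have x11 : (X : Matrix (Fin 4) (Fin 4) F) 1 1 = 0 := by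
        rw [hrow]; exact hperp 1 _ (z0 _ hd1) _ hd3
      have x22 : (X : Matrix (Fin 4) (Fin 4) F) 2 2 = 0 := by
        rw [hrow]; exact hperp 0 _ (z1 _ hd2) _ hd0
      have x23 : (X : Matrix (Fin 4) (Fin 4) F) 2 3 = 0 := by
        rw [hrow]; exact hperp 0 _ (z1 _ hd3) _ hd0
      have x32 : (X : Matrix (Fin 4) (Fin 4) F) 3 2 = 0 := by
        rw [hrow]; exact hperp 0 _ (z1 _ hd2) _ hd1
      have x33 : (X : Matrix (Fin 4) (Fin 4) F) 3 3 = 0 := by
        rw [hrow]; exact hperp 0 _ (z1 _ hd3) _ hd1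
      simp [adjM, gramM, Matrix.mul_apply, Fin.sum_univ_four, x00, x01, x10, x11, x22, x23, x32, x33]
        at q1 q2 q3 q4
      simp [Matrix.det_fin_three, Fin.sum_univ_four, Fin.succAbove, x00, x01, x10, x11, x22, x23, x32,
        x33] at hd
      obtain ⟨δ, hδ, hδσ, hδ2, ea, eb, ec, ed⟩ := key _ _ _ _ _ _ _ _ q1 q2 q3 q4
        (by linear_combination hd)
      refine ⟨-δ, by rcases hδ with rfl | rfl <;> simp, ?_⟩
      ext i j
      fin_cases i <;> fin_cases j <;>
        simp [jM, Matrix.mul_apply, Matrix.vecMul, dotProduct, Fin.sum_univ_four, x00, x01, x10, x11, x22, x23, x32, x33, ea, eb,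
          ec, ed, hδσ, hσσ, ← mul_assoc, hδ2]
  obtain ⟨c, hc, hcγ⟩ : ∃ c : F, c ≠ 0 ∧ c * γ = σ c := by
    rcases hγ with rfl | rfl
    · exact ⟨1, one_ne_zero, by rw [mul_one, map_one]⟩
    · exact ⟨ζ, hζ0, by linear_combination -hζ⟩
  have hcX : (c • (X : Matrix (Fin 4) (Fin 4) F)) * jM =
      jM * (c • (X : Matrix (Fin 4) (Fin 4) F)).map σ := by
    rw [Matrix.smul_mul, hcomm, smul_smul, hcγ,
      show (c • (X : Matrix (Fin 4) (Fin 4) F)).map σ = σ c • (X : Matrix (Fin 4) (Fin 4) F).map σ from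
        Matrix.ext fun i j => map_mul σ _ _, Matrix.mul_smul]
  have hrat : RatMat F₀ (Q' * (c • (X : Matrix (Fin 4) (Fin 4) F)) * P') := by
    intro i j
    rw [memF₀]
    show (Q' * (c • (X : Matrix (Fin 4) (Fin 4) F)) * P').map σ i j = _
    rw [mmap, mmap, hσQ, hσP]
    refine congrFun (congrFun ?_ i) j
    calc Q' * jM * (c • (X : Matrix (Fin 4) (Fin 4) F)).map σ * (jM * P')
        = Q' * (jM * (c • (X : Matrix (Fin 4) (Fin 4) F)).map σ) * jM * P' := by
          simp only [Matrix.mul_assoc]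
      _ = Q' * (c • (X : Matrix (Fin 4) (Fin 4) F)) * (jM * jM) * P' := by
          rw [← hcX]; simp only [Matrix.mul_assoc]
      _ = _ := by rw [hJJ, mul_one]
  have h1 : P1⁻¹ * X * P1 ∈ subfieldSubgroup F₀ (1 : GL (Fin 4) F) := by
    refine (mem_subfieldSubgroup_one _).2 ⟨c, hc, ?_⟩
    rwa [Matrix.mul_smul, Matrix.smul_mul] at hrat
  rw [subfieldSubgroup, map_one] at h1
  obtain ⟨y, hy, hyX⟩ := h1
  change y = P1⁻¹ * X * P1 at hyX
  refine ⟨y, hy, ?_⟩
  show g * P1 * y * (g * P1)⁻¹ = s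
  rw [hyX, hX]; group

end CfsgLib.AschU.SUFourHalves
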