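import Cfsg.Agent.Lib.MaxSub.HermFull
import Cfsg.Agent.Lib.MaxSub.HermPerp
import Cfsg.Agent.Lib.Aschbacher.Forms

/-!
The special unitary group as a matrix group: generated by transvections, perfect, absolutely
irreducible, and simple modulo scalars.
-/

set_option autoImplicit false

namespace CfsgLib.AschU

open Cfsg Cfsg.Geo CfsgLib.MaxSub CfsgLib.Aschbacher Matrix
open scoped MatrixGroups commutatorElement

variable {F : Type*} [Field F] [Fintype F] {n q : ℕ}

/-- The special unitary group inside the general linear group. -/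
abbrev suGL (n q : ℕ) (F : Type*) [Field F] [Fintype F] : Subgroup (GL (Fin n) F) :=
  GU n F q ⊓ specialLinear (Fin n) F

/-- The inclusion of `SU` in the general linear group. -/
noncomputable def suToGL (n q : ℕ) (F : Type*) [Field F] [Fintype F] :
    ↥(Cfsg.SU n F q) →* GL (Fin n) F :=
  (Matrix.SpecialLinearGroup.toGL).comp (Cfsg.SU n F q).subtype

omit [Fintype F] in
theorem suToGL_coe [Fintype F] (A : ↥(Cfsg.SU n F q)) :
    ((suToGL n q F A : GL (Fin n) F) : Matrix (Fin n) (Fin n) F) =
      ((A : Matrix.SpecialLinearGroup (Fin n) F) : Matrix (Fin n) (Fin n) F) := rfl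

theorem range_suToGL (n q : ℕ) : (suToGL n q F).range = suGL n q F := by
  ext g
  constructor
  · rintro ⟨A, rfl⟩
    exact ⟨fun u v => A.2 u v, Units.ext ((A : Matrix.SpecialLinearGroup (Fin n) F).2)⟩
  · rintro ⟨hg, hgS⟩
    have hd : (g : Matrix (Fin n) (Fin n) F).det = 1 := by
      have : Matrix.GeneralLinearGroup.det g = 1 := hgS
      simpa using congrArg Units.val this
    exact ⟨⟨⟨(g : Matrix (Fin n) (Fin n) F), hd⟩, fun u v => hg u v⟩, Units.ext rfl⟩

theorem suToGL_injective (n q : ℕ) : Function.Injective (suToGL n q F) := fun a b h =>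
  Subtype.ext (Subtype.ext (congrArg Units.val h))

/-- An element is a unitary transvection with centre `v`. -/
def IsUTv (hF : Fintype.card F = q ^ 2) (g : GL (Fin n) F) (v : Fin n → F) (c : F) : Prop :=
  hermForm n F q v v = 0 ∧ c + qConj hF c = 0 ∧
    (g : Matrix (Fin n) (Fin n) F) = tvMat v (c • hDual (hermForm n F q) v)

theorem exists_uTv (hF : Fintype.card F = q ^ 2) {v : Fin n → F} (hv : hermForm n F q v v = 0)
    {c : F} (hc : c + qConj hF c = 0) : ∃ g ∈ suGL n q F, IsUTv hF g v c := by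
  have hf := isUnitaryForm_hermForm hF n
  have h0 : (c • hDual (hermForm n F q) v) ⬝ᵥ v = 0 := by
    rw [smul_dotProduct, hDual_dot hf, hv, smul_zero]
  exact ⟨tvGL v (c • hDual (hermForm n F q) v) h0, uTv_mem_su hF hv hc h0, hv, hc,
    coe_tvGL v _ h0⟩

/-- A subgroup with all unitary transvections contains `SU`. -/
theorem suGL_le_of_uTv (hF : Fintype.card F = q ^ 2) (hn : 3 ≤ n) (h32 : ¬ (n = 3 ∧ q = 2))
    {M : Subgroup (GL (Fin n) F)}
    (h : ∀ g v c, IsUTv hF g v c → g ∈ suGL n q F → g ∈ M) : suGL n q F ≤ M := by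
  classical
  have hf := isUnitaryForm_hermForm hF n
  have htop : M.comap (suToGL n q F) = ⊤ := by
    rw [eq_top_iff, ← CfsgLib.Classical.closure_transvections_eq_top hF (n := n) hn h32,
      Subgroup.closure_le]
    rintro A ⟨v, c, hv, hA⟩
    rw [SetLike.mem_coe, Subgroup.mem_comap]
    have hmat : ((suToGL n q F A : GL (Fin n) F) : Matrix (Fin n) (Fin n) F) =
        tvMat v (c • hDual (hermForm n F q) v) := by
      show ((A : Matrix.SpecialLinearGroup (Fin n) F) : Matrix (Fin n) (Fin n) F) = _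
      refine Matrix.ext_of_mulVec_single fun i => ?_
      rw [hA, uTv_mulVec hf, Cfsg.unitaryTransvection, add_mulVec, one_mulVec, smul_mulVec,
        vecMulVec_mulVec]
      congr 1
      funext k
      simp [Cfsg.hermForm, dotProduct, mul_assoc, mul_comm, mul_left_comm]
    rcases eq_or_ne v 0 with rfl | hv0
    · have : suToGL n q F A = 1 := Units.ext (by rw [hmat]; exact tvMat_zero_left _)
      rw [this]; exact one_mem M
    have hc : c + qConj hF c = 0 := by
      obtain ⟨⟨z, hz⟩, -⟩ := hf.nondegenerate v hv0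
      have hp := A.2 z z
      have hg : ∀ x, Cfsg.slToMat n F (A : Matrix.SpecialLinearGroup (Fin n) F) *ᵥ x =
          x + (c * hermForm n F q x v) • v := fun x => by
        rw [← uTv_mulVec hf, ← hmat]; rfl
      rw [hg, hf.add_left, hf.smul_left, herm_add_right hf, herm_add_right hf, herm_smul_right hf,
        herm_smul_right hf, hv, map_mul, ← hf.herm v z] at hp
      have hvz : hermForm n F q v z ≠ 0 := fun e => hz (herm_eq_zero_comm hf e)
      refine (mul_eq_zero.1 ?_).resolve_right (mul_ne_zero hz hvz)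
      linear_combination hp
    refine h _ v c ⟨hv, hc, hmat⟩ ?_
    rw [← range_suToGL]
    exact ⟨A, rfl⟩
  rw [← range_suToGL]
  rintro _ ⟨A, rfl⟩
  exact (Subgroup.eq_top_iff' _).1 htop A

theorem perfect_suGL (hF : Fintype.card F = q ^ 2) (hn : 3 ≤ n) (h32 : ¬ (n = 3 ∧ q = 2)) :
    ⁅suGL n q F, suGL n q F⁆ = suGL n q F := by
  have h3 : 3 ≤ Module.finrank F (Fin n → F) := by simpa using hn
  have hc := CfsgLib.Classical.commutator_utGroup (CfsgLib.Classical.isHermSpace_hermB hF n) h3
    (CfsgLib.Classical.herm_h32 hF hn h32)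
  let e := CfsgLib.Classical.suEquiv hF hn h32
  have hSU : commutator ↥(Cfsg.SU n F q) = ⊤ := by
    refine Subgroup.map_injective (f := e.toMonoidHom) e.injective ?_
    rw [map_commutator_eq, MonoidHom.range_eq_top.2 e.surjective, ← commutator_def, hc,
      Subgroup.map_top_of_surjective _ e.surjective]
  have hr : Subgroup.map (suToGL n q F) (⊤ : Subgroup ↥(Cfsg.SU n F q)) = suGL n q F := by
    rw [← MonoidHom.range_eq_map, range_suToGL]
  calc ⁅suGL n q F, suGL n q F⁆ = Subgroup.map (suToGL n q F) (commutator ↥(Cfsg.SU n F q)) := by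
        rw [commutator_def, Subgroup.map_commutator, hr]
    _ = _ := by rw [hSU, hr]

/-- The isotropic vectors span. -/
theorem span_isotropic (hF : Fintype.card F = q ^ 2) (hn : 2 ≤ n) {S : Submodule F (Fin n → F)}
    (hS : ∀ x, hermForm n F q x x = 0 → x ∈ S) : S = ⊤ := by
  have hf := isUnitaryForm_hermForm hF n
  obtain ⟨s, -, hs0, hs⟩ := exists_isotropic hf (U := ⊤) (by rw [finrank_top, Module.finrank_fin_fun]; exact hn)
  obtain ⟨z, hz⟩ := (hf.nondegenerate s hs0).1
  exact eq_top_iff.2 (le_of_isotropic_sep hf Submodule.mem_top hs Submodule.mem_top hz fun x _ => hS x)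

/-- The transvections determine the scalars. -/
theorem scalar_of_commute_suGL (hF : Fintype.card F = q ^ 2) (hn : 2 ≤ n)
    {y : Matrix (Fin n) (Fin n) F}
    (hy : ∀ g ∈ suGL n q F, (g : Matrix (Fin n) (Fin n) F) * y = y * (g : Matrix (Fin n) (Fin n) F)) :
    ∃ a : F, y = a • 1 := by
  classical
  have hf := isUnitaryForm_hermForm hF n
  obtain ⟨c, hc0, hc⟩ := exists_trace_zero hf
  have heig : ∀ v, hermForm n F q v v = 0 → ∃ a : F, y *ᵥ v = a • v := by
    intro v hv
    rcases eq_or_ne v 0 with rfl | hv0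
    · exact ⟨0, by simp⟩
    obtain ⟨x, hx⟩ := (hf.nondegenerate v hv0).1
    obtain ⟨g, hg, -, -, hgm⟩ := exists_uTv hF hv hc
    have h := congrArg (· *ᵥ x) (hy g hg)
    simp only [← Matrix.mulVec_mulVec, hgm, uTv_mulVec hf, Matrix.mulVec_add, Matrix.mulVec_smul,
      add_right_inj] at h
    refine ⟨(c * hermForm n F q x v)⁻¹ * (c * hermForm n F q (y *ᵥ x) v), ?_⟩
    rw [mul_smul, h, smul_smul, inv_mul_cancel₀ (mul_ne_zero hc0 hx), one_smul]
  choose! a ha using heig
  have hpair : ∀ v w, hermForm n F q v v = 0 → hermForm n F q w w = 0 → hermForm n F q w v ≠ 0 →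
      a v = a w := by
    intro v w hv hw hwv
    set b := c / hermForm n F q w v with hb
    have hvw : hermForm n F q v w = qConj hF (hermForm n F q w v) := hf.herm v w
    have hiso : hermForm n F q (v + b • w) (v + b • w) = 0 := by
      simp only [hf.add_left, hf.smul_left, herm_add_right hf, herm_smul_right hf, hv, hw, hvw]
      have hbx : b * hermForm n F q w v = c := div_mul_cancel₀ _ hwv
      have hbc : qConj hF b * qConj hF (hermForm n F q w v) = qConj hF c := by rw [← map_mul, hbx]
      linear_combination hc + hbx + hbc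
    have h1 := ha _ hiso
    rw [Matrix.mulVec_add, Matrix.mulVec_smul, ha v hv, ha w hw, smul_add, smul_smul, smul_smul] at h1
    have h2 := congrArg (fun x => hermForm n F q x v) h1
    simp only [hf.add_left, hf.smul_left, hv, mul_zero, zero_add] at h2
    have hb0 : b ≠ 0 := div_ne_zero hc0 hwv
    have e1 : a w = a (v + b • w) := by
      have h3 := mul_right_cancel₀ hwv h2
      exact mul_left_cancel₀ hb0 (by linear_combination h3)
    have h4 := congrArg (fun x => hermForm n F q x w) h1
    simp only [hf.add_left, hf.smul_left, hw, mul_zero, add_zero] at h4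
    have hvw0 : hermForm n F q v w ≠ 0 := by rw [hvw]; exact (map_ne_zero _).2 hwv
    exact (mul_right_cancel₀ hvw0 h4).trans e1.symm
  obtain ⟨v₀, -, hv₀0, hv₀⟩ := exists_isotropic hf (U := ⊤)
    (by rw [finrank_top, Module.finrank_fin_fun]; exact hn)
  refine ⟨a v₀, ?_⟩
  have key : ∀ w, hermForm n F q w w = 0 → y *ᵥ w = a v₀ • w := by
    intro w hw
    rcases eq_or_ne w 0 with rfl | hw0
    · simp
    rw [ha w hw]
    congr 1
    by_cases hwv : hermForm n F q w v₀ = 0
    · -- a vector off both hyperplanes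
      obtain ⟨z₁, hz₁⟩ := (hf.nondegenerate v₀ hv₀0).1
      obtain ⟨z₂, hz₂⟩ := (hf.nondegenerate w hw0).1
      obtain ⟨z, hz1, hz2⟩ : ∃ z, hermForm n F q z v₀ ≠ 0 ∧ hermForm n F q z w ≠ 0 := by
        by_cases h1 : hermForm n F q z₂ v₀ = 0
        · by_cases h2 : hermForm n F q z₁ w = 0
          · exact ⟨z₁ + z₂, by rw [hf.add_left, h1, add_zero]; exact hz₁,
              by rw [hf.add_left, h2, zero_add]; exact hz₂⟩
          · exact ⟨z₁, hz₁, h2⟩
        · exact ⟨z₂, h1, hz₂⟩
      obtain ⟨t, ht⟩ := exists_shift hf hv₀ hz1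
      have h1 : hermForm n F q (z + t • v₀) v₀ ≠ 0 := by
        rw [hf.add_left, hf.smul_left, hv₀, mul_zero, add_zero]; exact hz1
      have h2 : hermForm n F q (z + t • v₀) w ≠ 0 := by
        rw [hf.add_left, hf.smul_left, herm_eq_zero_comm hf hwv, mul_zero, add_zero]; exact hz2
      rw [hpair w _ hw ht h2, hpair v₀ _ hv₀ ht h1]
    · exact (hpair v₀ w hv₀ hw hwv).symm
  have hker : LinearMap.ker (Matrix.toLin' (y - a v₀ • 1)) = ⊤ := span_isotropic hF hn fun x hx => by
    rw [LinearMap.mem_ker, Matrix.toLin'_apply, Matrix.sub_mulVec, Matrix.smul_mulVec,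
      Matrix.one_mulVec, key x hx, sub_self]
  exact sub_eq_zero.1 (Matrix.toLin'.injective (by rw [LinearMap.ker_eq_top.1 hker, map_zero]))

/-- A normal subgroup of `SU` is scalar or everything. -/
theorem normal_suGL (hF : Fintype.card F = q ^ 2) (hn : 3 ≤ n) (h32 : ¬ (n = 3 ∧ q = 2))
    {N : Subgroup (GL (Fin n) F)} (hle : N ≤ suGL n q F) (hN : Normalized (suGL n q F) N) :
    N ≤ scalars (Fin n) F ∨ N = suGL n q F := by
  classical
  have : Nonempty (Fin n) := ⟨⟨0, by omega⟩⟩
  set K : Subgroup ↥(Cfsg.SU n F q) := N.comap (suToGL n q F)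
  have hKn : K.Normal := ⟨fun x hx g => by
    have h := hN (suToGL n q F g) (by rw [← range_suToGL]; exact ⟨g, rfl⟩) _ hx
    show suToGL n q F (g * x * g⁻¹) ∈ N
    rwa [map_mul, map_mul, map_inv]⟩
  have hsimple := CfsgLib.Classical.isSimpleGroup_psu hF hn h32
  let π := QuotientGroup.mk' (Subgroup.center ↥(Cfsg.SU n F q))
  rcases (show (K.map π).Normal from hKn.map π (QuotientGroup.mk'_surjective _)).eq_bot_or_eq_top with hb | ht
  · left
    intro g hg
    obtain ⟨A, rfl⟩ : g ∈ (suToGL n q F).range := by rw [range_suToGL]; exact hle hg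
    have hA : A ∈ Subgroup.center ↥(Cfsg.SU n F q) := by
      rw [← QuotientGroup.eq_one_iff A, ← Subgroup.mem_bot, ← hb]
      exact ⟨A, hg, rfl⟩
    obtain ⟨a, ha⟩ := scalar_of_commute_suGL hF (n := n) (by omega)
      (y := (suToGL n q F A : Matrix (Fin n) (Fin n) F)) fun x hx => by
      obtain ⟨B, rfl⟩ : x ∈ (suToGL n q F).range := by rw [range_suToGL]; exact hx
      rw [← Units.val_mul, ← Units.val_mul, ← map_mul, ← map_mul, Subgroup.mem_center_iff.1 hA B]
    rw [mem_scalars_iff]
    exact ⟨Units.mk0 a fun h0 => (suToGL n q F A).ne_zero (by rw [ha, h0, zero_smul]), ha⟩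
  · right
    refine le_antisymm hle ?_
    have hdec : ∀ A : ↥(Cfsg.SU n F q), ∃ k ∈ K, ∃ z ∈ Subgroup.center ↥(Cfsg.SU n F q), A = k * z := by
      intro A
      obtain ⟨k, hk, hke⟩ := ht.ge (Subgroup.mem_top (π A))
      exact ⟨k, hk, k⁻¹ * A, QuotientGroup.eq.1 hke, by group⟩
    rw [← perfect_suGL hF hn h32, Subgroup.commutator_le]
    intro a ha b hb
    obtain ⟨A, rfl⟩ : a ∈ (suToGL n q F).range := by rw [range_suToGL]; exact ha
    obtain ⟨B, rfl⟩ : b ∈ (suToGL n q F).range := by rw [range_suToGL]; exact hb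
    obtain ⟨k, hk, z, hz, rfl⟩ := hdec A
    obtain ⟨l, hl, w, hw, rfl⟩ := hdec B
    have e : ⁅k * z, l * w⁆ = ⁅k, l⁆ := by
      have hz' := Subgroup.mem_center_iff.1 hz
      have hw' := Subgroup.mem_center_iff.1 hw
      simp only [commutatorElement_def]
      calc k * z * (l * w) * (k * z)⁻¹ * (l * w)⁻¹
          = k * (z * (l * w)) * z⁻¹ * k⁻¹ * w⁻¹ * l⁻¹ := by group
        _ = k * l * (w * k⁻¹) * w⁻¹ * l⁻¹ := by rw [← hz']; group
        _ = _ := by rw [← hw']; group
    have hkl : ⁅k, l⁆ ∈ K := by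
      rw [commutatorElement_def]
      exact K.mul_mem (K.mul_mem (K.mul_mem hk hl) (K.inv_mem hk)) (K.inv_mem hl)
    rw [← map_commutatorElement, e]
    exact hkl

end CfsgLib.AschU
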