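import Cfsg.Agent.Lib.AschU.MonoFrame
import Cfsg.Agent.Lib.AschU.SUFive
import Cfsg.Agent.Lib.MaxSub.Rational

/-!
The normaliser of a field of degree three in `SU_6(2)` keeps a structure over the prime field.
-/

set_option autoImplicit false
set_option linter.unusedSectionVars false

namespace CfsgLib.AschU.SUSixField

open Cfsg Cfsg.Geo CfsgLib.MaxSub CfsgLib.AschU.Code CfsgLib.AschU.SUFive Matrix
open scoped MatrixGroups

/-- the cube root of the scalar, in the adapted basis -/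
def zC : CMat := [[0, 0, 2, 0, 0, 0], [1, 0, 0, 0, 0, 0], [0, 1, 0, 0, 0, 0],
  [0, 0, 0, 0, 0, 2], [0, 0, 0, 1, 0, 0], [0, 0, 0, 0, 1, 0]]

/-- the semilinear automorphism -/
def phC : CMat := [[1, 0, 0, 0, 0, 0], [0, 2, 0, 0, 0, 0], [0, 0, 3, 0, 0, 0],
  [0, 0, 0, 1, 0, 0], [0, 0, 0, 0, 2, 0], [0, 0, 0, 0, 0, 3]]

/-- the conjugate-linear involution -/
def jC : CMat := [[0, 0, 0, 1, 0, 0], [0, 0, 0, 0, 0, 3], [0, 0, 0, 0, 3, 0],
  [1, 0, 0, 0, 0, 0], [0, 0, 3, 0, 0, 0], [0, 3, 0, 0, 0, 0]]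

/-- a basis of its fixed vectors -/
def pC : CMat := [[1, 2, 0, 0, 0, 0], [0, 0, 1, 2, 0, 0], [0, 0, 0, 0, 1, 2],
  [1, 3, 0, 0, 0, 0], [0, 0, 0, 0, 3, 2], [0, 0, 3, 2, 0, 0]]

/-- the inverse basis -/
def pInvC : CMat := [[3, 0, 0, 2, 0, 0], [1, 0, 0, 1, 0, 0], [0, 3, 0, 0, 0, 3],
  [0, 1, 0, 0, 0, 2], [0, 0, 3, 0, 3, 0], [0, 0, 1, 0, 2, 0]]

/-- conjugate a matrix code -/
def cjM (A : CMat) : CMat := A.map fun r => r.map (cjC P4)

theorem check_z : isUnitaryC P4 6 zC = true ∧ isPowOneC P4 6 zC 9 = true := by decide +kernel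
theorem check_ph : isUnitaryC P4 6 phC = true ∧ isPowOneC P4 6 phC 3 = true := by decide +kernel
theorem check_j : isUnitaryC P4 6 jC = true := by decide +kernel

theorem check_mat : ∀ i : Fin 6,
    apC P4 6 jC (apC P4 6 (cjM jC) (unitC 6 i)) = unitC 6 i ∧
    apC P4 6 jC (apC P4 6 (cjM pC) (unitC 6 i)) = apC P4 6 pC (unitC 6 i) ∧
    apC P4 6 pInvC (apC P4 6 pC (unitC 6 i)) = unitC 6 i ∧
    apC P4 6 phC (apC P4 6 jC (unitC 6 i)) = apC P4 6 jC (apC P4 6 (cjM phC) (unitC 6 i)) ∧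
    apC P4 6 phC (apC P4 6 zC (unitC 6 i)) = smulC P4 6 2 (apC P4 6 zC (apC P4 6 phC (unitC 6 i))) ∧
    apC P4 6 zC (apC P4 6 jC (apC P4 6 (cjM zC) (unitC 6 i))) = apC P4 6 jC (unitC 6 i) ∧
    iterC P4 6 zC 3 (unitC 6 i) = smulC P4 6 2 (unitC 6 i) := by decide +kernel

theorem check_basis :
    iterC P4 6 zC 1 (unitC 6 0) = unitC 6 1 ∧ iterC P4 6 zC 2 (unitC 6 0) = unitC 6 2 ∧
    iterC P4 6 zC 1 (unitC 6 3) = unitC 6 4 ∧ iterC P4 6 zC 2 (unitC 6 3) = unitC 6 5 ∧
    apC P4 6 jC (unitC 6 0) = unitC 6 3 := by decide +kernel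

/-- the matrix of `(x, y) ↦ f(Z ^ k x, J y)` -/
def formC (k : ℕ) (i j : Fin 6) : ℕ :=
  sumC P4 6 fun r => mulC P4 (ent (iterC P4 6 zC k (unitC 6 i)) r) (cjC P4 (mEnt jC r j))

theorem check_alt : ∀ k : Fin 3, ∀ i j : Fin 6,
    formC k i j = formC k j i ∧ (i = j → formC k i j = 0) := by decide +kernel

/-- the block acting on the second half -/
def blockC (a b c : ℕ) : CMat :=
  [[1, 0, 0, 0, 0, 0], [0, 1, 0, 0, 0, 0], [0, 0, 1, 0, 0, 0],
   [0, 0, 0, a, mulC P4 2 c, mulC P4 2 b], [0, 0, 0, b, a, mulC P4 2 c], [0, 0, 0, c, b, a]]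

theorem check_block : ∀ a b c : Fin 4, isUnitaryC P4 6 (blockC a b c) = true →
    ((b : ℕ) = 0 ∧ (c : ℕ) = 0 ∧ (a : ℕ) ≠ 0) ∨ ((a : ℕ) = 0 ∧ (c : ℕ) = 0 ∧ (b : ℕ) ≠ 0) ∨
      ((a : ℕ) = 0 ∧ (b : ℕ) = 0 ∧ (c : ℕ) ≠ 0) := by decide +kernel

/-- the norm of `x + y z + w z²` -/
def normC (x y w : ℕ) : ℕ :=
  addC P4 (addC P4 (mulC P4 x (mulC P4 x x)) (mulC P4 2 (mulC P4 y (mulC P4 y y))))
    (addC P4 (mulC P4 3 (mulC P4 w (mulC P4 w w))) (mulC P4 2 (mulC P4 x (mulC P4 y w))))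

theorem check_norm : ∀ x y w : Fin 4, normC x y w = 0 → (x : ℕ) = 0 ∧ (y : ℕ) = 0 ∧ (w : ℕ) = 0 := by
  decide +kernel

variable {F : Type*} [Field F] [Fintype F] {q : ℕ}

theorem quad_alt (h2 : (2 : F) = 0) {m : ℕ} (M : Fin m → Fin m → F) (hs : ∀ i j, M i j = M j i)
    (hd : ∀ i, M i i = 0) (x : Fin m → F) : ∑ i, ∑ j, x i * x j * M i j = 0 := by
  classical
  rw [← Fintype.sum_prod_type' fun i j => x i * x j * M i j]
  refine Finset.sum_involution (fun p _ => p.swap) (fun p _ => ?_) (fun p _ hp h => hp ?_)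
    (fun p _ => Finset.mem_univ _) (fun p _ => p.swap_swap)
  · show x p.1 * x p.2 * M p.1 p.2 + x p.2 * x p.1 * M p.2 p.1 = 0
    rw [hs p.2]
    linear_combination x p.1 * x p.2 * M p.1 p.2 * h2
  · have : p.1 = p.2 := (congrArg Prod.fst h).symm
    rw [this, hd, mul_zero]

theorem decM_cjM {hF : Fintype.card F = q ^ 2} {ε : F} (hV : Valid P4 hF ε) {n : ℕ} (A : CMat) :
    decM P4 ε n (cjM A) = (decM P4 ε n A).map (qConj hF) := by
  ext i j
  show dec P4 ε (mEnt (cjM A) i j) = qConj hF (dec P4 ε (mEnt A i j))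
  rw [← dec_cjC hV]
  congr 1
  show ((A.map fun r => r.map (cjC P4)).getD i []).getD j 0 = _
  rw [show ([] : List ℕ) = [].map (cjC P4) from rfl, List.getD_map]
  rw [show (0 : ℕ) = cjC P4 0 from rfl, List.getD_map]
  rfl

set_option maxHeartbeats 1600000 in
theorem exists_subfield_of_field (hF : Fintype.card F = q ^ 2) (hq : q = 2)
    {H : Subgroup (GL (Fin 6) F)} (hH : H ≤ suGL 6 q F)
    {K : Subalgebra F (Matrix (Fin 6) (Fin 6) F)} (hK : IsFieldSubalgebra 3 K)
    (hA : IsAdjointClosedFor (hermForm 6 F q) K) (hle : H ≤ subalgebraNormalizer K) :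
    ∃ (F₀ : Subfield F) (P : GL (Fin 6) F) (ζ : F), Fintype.card F = Nat.card F₀ ^ 2 ∧ ζ ≠ 0 ∧
      ζ + ζ ^ q = 0 ∧ IsFormRationalStructure (hermForm 6 F q) F₀ ζ P ∧
      (∀ u : Fin 6 → F, (∀ i, u i ∈ F₀) → hermForm 6 F q ((P : Matrix (Fin 6) (Fin 6) F) *ᵥ u)
        ((P : Matrix (Fin 6) (Fin 6) F) *ᵥ u) = 0) ∧
      H ≤ subfieldSubgroup F₀ P := by
  classical
  have hf := isUnitaryForm_hermForm hF 6
  obtain ⟨ω, hVω, -⟩ := exists_valid hF hq
  have h4 : Fintype.card F = 4 := by rw [hF, hq]; rfl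
  have h2F : (2 : F) = 0 := by have := hVω.char0; simpa [P4] using this
  have hωω : ω * ω = 1 + ω := by have := hVω.sq; simpa [P4] using this
  -- the field
  have hfield : IsField K :=
    ⟨⟨0, 1, zero_ne_one⟩, fun x y => Subtype.ext (hK.comm x x.2 y y.2), fun {x} hx => by
      obtain ⟨y, hy, hxy⟩ := hK.inv x x.2 fun h => hx (Subtype.ext h)
      exact ⟨⟨y, hy⟩, Subtype.ext hxy⟩⟩
  let : Field K := hfield.toField
  have hcard : Nat.card K = 64 := by
    rw [Module.natCard_eq_pow_finrank (K := F) (V := K), hK.finrank_eq, Nat.card_eq_fintype_card, h4]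
    rfl
  have hadj : ∀ m ∈ K, adjM hF m ∈ K := by
    intro m hm
    obtain ⟨m', hm', h⟩ := hA m hm
    have : adjM hF m = m' := by
      refine Matrix.ext_of_mulVec_single fun i => eq_of_forall_herm hF fun u => ?_
      rw [← hermForm_mulVec_left hF, h]
    rwa [this]
  let τ : K →+* K :=
    { toFun := fun x => ⟨adjM hF (x : Matrix (Fin 6) (Fin 6) F), hadj _ x.2⟩
      map_one' := Subtype.ext (adjM_one hF)
      map_zero' := Subtype.ext (adjM_zero hF)
      map_add' := fun x y => Subtype.ext (adjM_add hF _ _)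
      map_mul' := fun x y => Subtype.ext (by
        show adjM hF ((x * y : K) : Matrix (Fin 6) (Fin 6) F) =
          adjM hF (x : Matrix (Fin 6) (Fin 6) F) * adjM hF (y : Matrix (Fin 6) (Fin 6) F)
        rw [mul_comm x y, MulMemClass.coe_mul, adjM_mul]) }
  have τval : ∀ x : K, (τ x : Matrix (Fin 6) (Fin 6) F) =
      adjM hF (x : Matrix (Fin 6) (Fin 6) F) := fun x => rfl
  have τalg : ∀ c : F, τ (algebraMap F K c) = algebraMap F K (qConj hF c) := fun c => Subtype.ext (by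
    simp [τval, Algebra.algebraMap_eq_smul_one, adjM_smul, adjM_one])
  have h2K : (2 : K) = 0 := by rw [← map_ofNat (algebraMap F K), h2F, map_zero]
  -- an element of order nine
  obtain ⟨z, hz9, hz3⟩ : ∃ z : K, z ^ 9 = 1 ∧ z ^ 3 ≠ 1 := by
    obtain ⟨g, hg⟩ := IsCyclic.exists_generator (α := Kˣ)
    have hord : orderOf g = 63 := by
      rw [orderOf_eq_card_of_forall_mem_zpowers hg, Nat.card_units, hcard]
    refine ⟨((g ^ 7 : Kˣ) : K), ?_, fun h => ?_⟩
    · rw [← Units.val_pow_eq_pow_val, ← pow_mul, show 7 * 9 = orderOf g by rw [hord],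
        pow_orderOf_eq_one, Units.val_one]
    · rw [← Units.val_pow_eq_pow_val, Units.val_eq_one, ← pow_mul] at h
      have := orderOf_dvd_of_pow_eq_one h
      rw [hord] at this
      norm_num at this
  obtain ⟨ε, hεz, hεε⟩ : ∃ ε : F, z ^ 3 = algebraMap F K ε ∧ ε * ε = 1 + ε := by
    have hwK : algebraMap F K ω * algebraMap F K ω = 1 + algebraMap F K ω := by
      rw [← map_mul, hωω, map_add, map_one]
    have h : (z ^ 3 - 1) * ((z ^ 3 - algebraMap F K ω) * (z ^ 3 - algebraMap F K (ω + 1))) = 0 := by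
      rw [map_add, map_one]
      linear_combination hz9 + (z ^ 3 - 1) * hwK + (-(algebraMap F K ω + 1) * z ^ 6 +
        (1 + 2 * algebraMap F K ω) * z ^ 3 - algebraMap F K ω) * h2K
    rcases mul_eq_zero.1 ((mul_eq_zero.1 h).resolve_left (sub_ne_zero.2 hz3)) with h | h
    · exact ⟨ω, sub_eq_zero.1 h, hωω⟩
    · exact ⟨ω + 1, sub_eq_zero.1 h, by linear_combination hωω + ω * h2F⟩
  have hε1 : ε ≠ 0 := fun h => by rw [h] at hεε; simp at hεε
  have hεσ : qConj hF ε = ε + 1 := by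
    rw [qConj_apply hF, hq]; linear_combination hεε
  have hV : Valid P4 hF ε := by
    refine ⟨Nat.prime_two, by simp [P4, h2F], ?_, ?_, ?_⟩
    · show ε * ε = ((1 : ℕ) : F) + ((1 : ℕ) : F) * ε
      push_cast
      rw [one_mul, hεε]
    · rw [hεσ]
      show ε + 1 = ((1 : ℕ) : F) - ε
      push_cast
      linear_combination ε * h2F
    · rw [hεσ]
      intro h
      exact one_ne_zero (α := F) (by linear_combination h)
  have hε3 : ε ^ 3 = 1 := by linear_combination (ε + 1) * hεε + ε * h2F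
  set eK : K := algebraMap F K ε with heKdef
  have heK : eK * eK = 1 + eK := by rw [← map_mul, hεε, map_add, map_one]
  -- the adjoint of `z`
  have hτz : τ z * z = 1 := by
    have hprim : IsPrimitiveRoot z 9 := by
      refine IsPrimitiveRoot.iff_orderOf.2 ?_
      haveI : Fact (Nat.Prime 3) := ⟨Nat.prime_three⟩
      exact orderOf_eq_prime_pow (p := 3) (n := 1) (by simpa using hz3) (by simpa using hz9)
    obtain ⟨j, hj, hjz⟩ := hprim.eq_pow_of_pow_eq_one
      (show τ z ^ 9 = 1 by rw [← map_pow, hz9, map_one])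
    have hττ : z ^ (j * j) = z := by
      rw [pow_mul, hjz, ← map_pow, hjz]
      exact Subtype.ext (adjM_adjM hF _)
    have hmod : j * j % 9 = 1 := by
      refine hprim.pow_inj (Nat.mod_lt _ (by norm_num)) (by norm_num) ?_
      rw [pow_one, ← pow_eq_pow_mod _ hz9, hττ]
    rcases (show ∀ m < 9, m * m % 9 = 1 → m = 1 ∨ m = 8 by decide) j hj hmod with rfl | rfl
    · exfalso
      rw [pow_one] at hjz
      have h := congrArg τ hεz
      rw [map_pow, ← hjz, hεz, τalg, hεσ] at h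
      exact one_ne_zero (α := F) (by linear_combination -((algebraMap F K).injective h))
    · rw [← hjz, ← pow_succ, hz9]
  set Zm : Matrix (Fin 6) (Fin 6) F := (z : Matrix (Fin 6) (Fin 6) F) with hZm
  have hZadj : adjM hF Zm * Zm = 1 := by
    have h := congrArg (fun x : K => (x : Matrix (Fin 6) (Fin 6) F)) hτz
    simpa [τval] using h
  have hZ3 : Zm ^ 3 = ε • 1 := by
    rw [hZm, ← SubmonoidClass.coe_pow, hεz]
    exact Algebra.algebraMap_eq_smul_one (A := Matrix (Fin 6) (Fin 6) F) ε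
  -- coordinates in the field
  let bas : Fin 3 → K := fun i => z ^ (i : ℕ)
  have hind : LinearIndependent F bas := by
    rw [Fintype.linearIndependent_iff]
    intro c hc
    rw [Fin.sum_univ_three] at hc
    simp only [bas, Algebra.smul_def] at hc
    set X := algebraMap F K (c 0)
    set Y := algebraMap F K (c 1)
    set W := algebraMap F K (c 2)
    have hz' : z * (z * z) = eK := by rw [← hεz]; ring
    simp only [Fin.val_zero, Fin.val_one, Fin.val_two, pow_zero, mul_one, pow_one] at hc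
    have hN : X * X * X + eK * (Y * Y * Y) + ((1 + eK) * (W * W * W) + eK * (X * (Y * W))) = 0 := by
      linear_combination ((X * X - eK * Y * W) + (eK * W * W - X * Y) * z + (Y * Y - X * W) * z ^ 2) * hc +
        (-(W * (Y * Y - X * W)) * z - Y * (Y * Y - X * W) - W * (eK * W * W - X * Y)) * hz' +
        (2 * eK * (X * (Y * W))) * h2K - W * W * W * heK
    obtain ⟨hω, hVω', hsurj⟩ : True ∧ True ∧ ∀ d : F, ∃ a < 4, d = dec P4 ε a := by
      refine ⟨trivial, trivial, fun d => ?_⟩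
      have hinj : Function.Injective (fun a : Fin 4 => dec P4 ε (a : ℕ)) := fun a b h =>
        Fin.ext (dec_inj hV a.2 b.2 h)
      obtain ⟨a, ha⟩ := ((Fintype.bijective_iff_injective_and_card _).2
        ⟨hinj, by rw [Fintype.card_fin, h4]⟩).surjective d
      exact ⟨a, a.2, ha.symm⟩
    obtain ⟨a, ha, hca⟩ := hsurj (c 0)
    obtain ⟨b, hb, hcb⟩ := hsurj (c 1)
    obtain ⟨d, hd, hcd⟩ := hsurj (c 2)
    have hd2 : dec P4 ε 2 = ε := by simp [dec, P4, h2F]
    have hd3 : dec P4 ε 3 = 1 + ε := by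
      simp only [dec, P4]
      norm_num
      linear_combination h2F
    have hN' : normC a b d = 0 := by
      refine dec_inj hV (by show _ % 2 + 2 * (_ % 2) < 4; omega) (by norm_num [P4]) ?_
      rw [dec_zero hV]
      apply (algebraMap F K).injective
      simp only [normC, dec_addC hV, dec_mulC hV, hd2, hd3, ← hca, ← hcb, ← hcd, map_zero,
        map_add, map_mul, map_one, ← heKdef]
      linear_combination hN
    obtain ⟨r0, r1, r2⟩ := check_norm ⟨a, ha⟩ ⟨b, hb⟩ ⟨d, hd⟩ hN'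
    simp only at r0 r1 r2
    intro i
    fin_cases i
    · show c 0 = 0; rw [hca, r0, dec_zero hV]
    · show c 1 = 0; rw [hcb, r1, dec_zero hV]
    · show c 2 = 0; rw [hcd, r2, dec_zero hV]
  let bK := basisOfLinearIndependentOfCardEqFinrank hind (by rw [Fintype.card_fin, hK.finrank_eq])
  have hbK : ∀ i, bK i = z ^ (i : ℕ) := fun i => by simp [bK, bas]
  let coef : K →ₗ[F] F := bK.coord 0
  have hcoef : ∀ i : ℕ, i < 3 → coef (z ^ i) = if i = 0 then 1 else 0 := by
    intro i hi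
    rw [← hbK ⟨i, hi⟩]
    simp [coef, Finsupp.single_apply, Fin.ext_iff]
  -- scaling an anisotropic vector
  have hnorm : ∀ v, hermForm 6 F q v v ≠ 0 → ∃ p : K, ∀ i : ℕ, i < 3 →
      hermForm 6 F q ((Zm ^ i) *ᵥ ((p : Matrix (Fin 6) (Fin 6) F) *ᵥ v))
        ((p : Matrix (Fin 6) (Fin 6) F) *ᵥ v) = if i = 0 then 1 else 0 := by
    intro v hv
    set φ : K →ₗ[F] F :=
      { toFun := fun k => hermForm 6 F q ((k : Matrix (Fin 6) (Fin 6) F) *ᵥ v) v
        map_add' := fun x y => by rw [AddMemClass.coe_add, Matrix.add_mulVec, hf.add_left]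
        map_smul' := fun c x => by
          rw [SetLike.val_smul, Matrix.smul_mulVec, hf.smul_left]; rfl }
    set a0 := φ 1
    set f1 := φ z
    set f2 := φ (z ^ 2)
    set h : K := algebraMap F K a0 + algebraMap F K ((ε + 1) * f2) * z +
      algebraMap F K ((ε + 1) * f1) * z ^ 2 with hh
    have hco : ∀ (a b c : F), coef (algebraMap F K a + algebraMap F K b * z + algebraMap F K c * z ^ 2) = a := by
      intro a b c
      have e0 := hcoef 0 (by norm_num)
      have e1 := hcoef 1 (by norm_num)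
      have e2 := hcoef 2 (by norm_num)
      simp only [pow_zero, pow_one, if_true, one_ne_zero, OfNat.ofNat_ne_zero, if_false] at e0 e1 e2
      rw [← Algebra.smul_def, ← Algebra.smul_def, Algebra.algebraMap_eq_smul_one, map_add, map_add,
        map_smul, map_smul, map_smul, e0, e1, e2]
      simp
    have hεe : ε * (ε + 1) = 1 := by linear_combination hεε + ε * h2F
    have hφh : ∀ k : K, φ k = coef (k * h) := by
      have hmap : φ = coef ∘ₗ LinearMap.mulRight F h := bK.ext fun i => by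
        rw [hbK, LinearMap.comp_apply, LinearMap.mulRight_apply]
        fin_cases i
        · show φ (z ^ 0) = coef (z ^ 0 * h)
          rw [pow_zero, one_mul, hh, hco]
        · show φ (z ^ 1) = coef (z ^ 1 * h)
          rw [pow_one, show z * h = algebraMap F K f1 + algebraMap F K a0 * z +
              algebraMap F K ((ε + 1) * f2) * z ^ 2 by
            rw [show algebraMap F K f1 = algebraMap F K ((ε + 1) * f1) * z ^ 3 by
              rw [hεz, ← map_mul]; congr 1; linear_combination -f1 * hεe]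
            rw [hh]; ring, hco]
        · show φ (z ^ 2) = coef (z ^ 2 * h)
          rw [show z ^ 2 * h = algebraMap F K f2 + algebraMap F K (f1) * z +
              algebraMap F K a0 * z ^ 2 by
            rw [show algebraMap F K f2 = algebraMap F K ((ε + 1) * f2) * z ^ 3 by
              rw [hεz, ← map_mul]; congr 1; linear_combination -f2 * hεe]
            rw [show algebraMap F K f1 = algebraMap F K ((ε + 1) * f1) * z ^ 3 by
              rw [hεz, ← map_mul]; congr 1; linear_combination -f1 * hεe]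
            rw [hh]; ring, hco]
      intro k
      exact congrArg (fun L : K →ₗ[F] F => L k) hmap
    have hh0 : h ≠ 0 := fun h0 => by
      have := hco a0 ((ε + 1) * f2) ((ε + 1) * f1)
      rw [← hh, h0, map_zero] at this
      refine hv ?_
      rw [this]
      show hermForm 6 F q v v = hermForm 6 F q (((1 : K) : Matrix (Fin 6) (Fin 6) F) *ᵥ v) v
      rw [OneMemClass.coe_one, Matrix.one_mulVec]
    have hcf : ∀ k : K, qConj hF (φ k) = φ (τ k) := fun k => by
      show qConj hF (hermForm 6 F q ((k : Matrix (Fin 6) (Fin 6) F) *ᵥ v) v) =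
        hermForm 6 F q ((τ k : Matrix (Fin 6) (Fin 6) F) *ᵥ v) v
      rw [← hf.herm v, τval, hermForm_mulVec_left hF, adjM_adjM]
    have hzinv : τ z = algebraMap F K (ε + 1) * z ^ 2 := by
      refine mul_right_cancel₀ (fun h0 => ?_) (hτz.trans ?_ : τ z * z = algebraMap F K (ε + 1) * z ^ 2 * z)
      · rw [h0, mul_zero] at hτz; exact zero_ne_one hτz
      · rw [mul_assoc, ← pow_succ, hεz, ← map_mul, show (ε + 1) * ε = 1 by linear_combination hεe,
          map_one]
    have hεs : (ε + 1) * (ε + 1) = ε := by linear_combination hεε + (ε + 1) * h2F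
    have hσe : qConj hF (ε + 1) = ε := by
      rw [map_add, hεσ, map_one]; linear_combination h2F
    have hzinv2 : τ (z ^ 2) = algebraMap F K (ε + 1) * z := by
      rw [map_pow, hzinv, mul_pow, ← map_pow, ← pow_mul, pow_succ z 3, hεz, ← mul_assoc, ← map_mul]
      congr 2
      linear_combination ε * hεs + hεε
    have hσ1 : qConj hF f1 = (ε + 1) * f2 := by
      rw [hcf, hzinv, ← Algebra.smul_def, map_smul, smul_eq_mul]
    have hσ2 : qConj hF f2 = (ε + 1) * f1 := by
      rw [hcf, hzinv2, ← Algebra.smul_def, map_smul, smul_eq_mul]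
    have hσ0 : qConj hF a0 = a0 := by rw [hcf, map_one]
    have hτh : τ h = h := by
      rw [hh, map_add, map_add, map_mul τ, map_mul τ, τalg, τalg, τalg, hσ0, map_mul (qConj hF),
        map_mul (qConj hF), hσe, hσ1, hσ2, hzinv, hzinv2]
      simp only [map_mul, map_add, map_one, ← heKdef]
      linear_combination (eK + 1) * (algebraMap F K f1 * z ^ 2 + algebraMap F K f2 * z) * heK +
        eK * (eK + 1) * (algebraMap F K f1 * z ^ 2 + algebraMap F K f2 * z) * h2K
    have hh8 : h ^ 8 = τ h := by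
      haveI : Fact (Nat.Prime 2) := ⟨Nat.prime_two⟩
      haveI : CharP K 2 := CharP.charP_iff_prime_eq_zero Nat.prime_two |>.2 (by exact_mod_cast h2K)
      have hc8 : ∀ d : F, (algebraMap F K d) ^ 8 = τ (algebraMap F K d) := fun d => by
        rw [τalg, ← map_pow, qConj_apply hF, hq]
        congr 1
        have h := FiniteField.pow_card d
        rw [h4] at h
        calc d ^ 8 = (d ^ 4) ^ 2 := by ring
          _ = d ^ 2 := by rw [h]
      have hz8 : z ^ 8 = τ z := by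
        refine mul_right_cancel₀ (fun h0 => ?_) (show z ^ 8 * z = τ z * z by rw [← pow_succ, hz9, hτz])
        rw [h0, mul_zero] at hτz; exact zero_ne_one hτz
      rw [hh, show (8 : ℕ) = 2 ^ 3 by norm_num, add_pow_char_pow, add_pow_char_pow,
        show (2 : ℕ) ^ 3 = 8 by norm_num, mul_pow, mul_pow, ← pow_mul, mul_comm 2 8, pow_mul, hc8, hc8,
        hc8, hz8, map_add, map_add, map_mul τ, map_mul τ, map_pow τ]
    have hh7 : h ^ 7 = 1 := mul_right_cancel₀ hh0 (by rw [← pow_succ, hh8, hτh, one_mul])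
    refine ⟨h ^ 3, fun i hi => ?_⟩
    have hτp : τ (h ^ 3) = h ^ 3 := by rw [map_pow, hτh]
    calc hermForm 6 F q ((Zm ^ i) *ᵥ (((h ^ 3 : K) : Matrix (Fin 6) (Fin 6) F) *ᵥ v))
          (((h ^ 3 : K) : Matrix (Fin 6) (Fin 6) F) *ᵥ v)
        = φ (τ (h ^ 3) * (z ^ i * h ^ 3)) := by
          show _ = hermForm 6 F q (((τ (h ^ 3) * (z ^ i * h ^ 3) : K) : Matrix (Fin 6) (Fin 6) F) *ᵥ v) v
          simp only [MulMemClass.coe_mul, SubmonoidClass.coe_pow, τval]
          rw [← Matrix.mulVec_mulVec _ (adjM hF _), hermForm_mulVec_left hF (adjM hF _), adjM_adjM,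
            ← Matrix.mulVec_mulVec, ← hZm]
      _ = coef (z ^ i) := by
          rw [hτp, hφh, show h ^ 3 * (z ^ i * h ^ 3) * h = z ^ i * h ^ 7 by ring, hh7, mul_one]
      _ = _ := hcoef i hi
  -- an adapted orthonormal basis
  have hiso : ∀ x y, hermForm 6 F q (Zm *ᵥ x) (Zm *ᵥ y) = hermForm 6 F q x y := fun x y => by
    rw [hermForm_mulVec_left hF, Matrix.mulVec_mulVec, hZadj, Matrix.one_mulVec]
  have hisoi : ∀ (i : ℕ) x y, hermForm 6 F q ((Zm ^ i) *ᵥ x) ((Zm ^ i) *ᵥ y) = hermForm 6 F q x y := by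
    intro i
    induction i with
    | zero => simp
    | succ i ih => intro x y; rw [pow_succ', ← Matrix.mulVec_mulVec, ← Matrix.mulVec_mulVec, hiso, ih]
  have hred : ∀ (i l : ℕ), i < 3 → l < 3 → ∀ x y : Fin 6 → F,
      hermForm 6 F q ((Zm ^ i) *ᵥ x) ((Zm ^ l) *ᵥ y) =
        (if l ≤ i then 1 else ε + 1) * hermForm 6 F q ((Zm ^ ((i + 3 - l) % 3)) *ᵥ x) y := by
    intro i l hi hl x y
    have key : ∀ d, i + 3 = l + d → hermForm 6 F q ((Zm ^ i) *ᵥ x) ((Zm ^ l) *ᵥ y) =
        (ε + 1) * hermForm 6 F q ((Zm ^ d) *ᵥ x) y := by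
      intro d hd
      have h1 := hisoi l ((Zm ^ d) *ᵥ x) y
      rw [Matrix.mulVec_mulVec, ← pow_add, ← hd, pow_add, hZ3, Matrix.mul_smul, mul_one,
        Matrix.smul_mulVec, hf.smul_left] at h1
      rw [← h1, ← mul_assoc, show (ε + 1) * ε = 1 by linear_combination hεε + ε * h2F, one_mul]
    by_cases hle' : l ≤ i
    · rw [if_pos hle', one_mul, key (i + 3 - l) (by omega), show i + 3 - l = (i + 3 - l) % 3 + 3 by omega,
        pow_add, hZ3, Matrix.mul_smul, mul_one, Matrix.smul_mulVec, hf.smul_left,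
        Nat.add_mod_right, Nat.mod_mod, ← mul_assoc,
        show (ε + 1) * ε = 1 by linear_combination hεε + ε * h2F, one_mul]
    · rw [if_neg hle', key (i + 3 - l) (by omega), show (i + 3 - l) % 3 = i + 3 - l by omega]
  obtain ⟨v, hv⟩ : ∃ v, ∀ i : ℕ, i < 3 →
      hermForm 6 F q ((Zm ^ i) *ᵥ v) v = if i = 0 then 1 else 0 := by
    obtain ⟨v0, -, hv0⟩ := exists_anisotropic hf (U := ⊤) (by
      rw [finrank_top, Module.finrank_fin_fun]; norm_num)
    obtain ⟨p, hp⟩ := hnorm v0 hv0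
    exact ⟨_, hp⟩
  have hvv : ∀ i l : Fin 3, hermForm 6 F q ((Zm ^ (i : ℕ)) *ᵥ v) ((Zm ^ (l : ℕ)) *ᵥ v) =
      if i = l then 1 else 0 := by
    intro i l
    rw [hred i l i.2 l.2, hv _ (Nat.mod_lt _ (by norm_num))]
    rcases eq_or_ne i l with rfl | hil
    · rw [if_pos le_rfl, one_mul, if_pos (by omega), if_pos rfl]
    · have : (i : ℕ) ≠ l := Fin.val_ne_of_ne hil
      have := i.2; have := l.2
      rw [if_neg hil, if_neg (show ¬ ((i : ℕ) + 3 - (l : ℕ)) % 3 = 0 by omega), mul_zero]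
  obtain ⟨w, hw, hwv⟩ : ∃ w, (∀ i : ℕ, i < 3 →
      hermForm 6 F q ((Zm ^ i) *ᵥ w) w = if i = 0 then 1 else 0) ∧
      ∀ i l : Fin 3, hermForm 6 F q ((Zm ^ (i : ℕ)) *ᵥ v) ((Zm ^ (l : ℕ)) *ᵥ w) = 0 := by
    set L : (Fin 6 → F) →ₗ[F] (Fin 3 → F) :=
      LinearMap.pi fun i : Fin 3 => hLin hf ((Zm ^ (i : ℕ)) *ᵥ v) with hL
    have hLm : ∀ x, x ∈ LinearMap.ker L ↔ ∀ i : Fin 3, hermForm 6 F q x ((Zm ^ (i : ℕ)) *ᵥ v) = 0 :=
      fun x => by simp [hL, funext_iff, hLin]
    obtain ⟨u, huU, huu⟩ : ∃ u ∈ LinearMap.ker L, hermForm 6 F q u u ≠ 0 := by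
      by_contra hall
      push Not at hall
      obtain ⟨u, hu, hu0⟩ := (LinearMap.ker L).exists_mem_ne_zero_of_ne_bot fun hb => by
        have h1 := LinearMap.finrank_range_add_finrank_ker L
        have h2 := Submodule.finrank_le (LinearMap.range L)
        rw [hb, finrank_bot, Module.finrank_fin_fun] at h1
        rw [Module.finrank_fin_fun] at h2
        omega
      have hzero : ∀ x ∈ LinearMap.ker L, hermForm 6 F q x u = 0 := by
        intro x hx
        by_contra hxu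
        obtain ⟨s, hs⟩ := exists_trace_ne hf
        have h := hall ((s / hermForm 6 F q x u) • x + u) (add_mem (Submodule.smul_mem _ _ hx) hu)
        simp only [hf.add_left, hf.smul_left, herm_add_right hf, herm_smul_right hf,
          hall x hx, hall u hu, mul_zero, zero_add, add_zero] at h
        rw [div_mul_cancel₀ _ hxu, hf.herm u x, ← map_mul, div_mul_cancel₀ _ hxu] at h
        exact hs h
      obtain ⟨⟨x, hx⟩, -⟩ := hf.nondegenerate u hu0
      refine hx ?_
      set y := x + ∑ i : Fin 3, (hermForm 6 F q x ((Zm ^ (i : ℕ)) *ᵥ v)) • ((Zm ^ (i : ℕ)) *ᵥ v)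
      have hlin : ∀ (a : Fin 6 → F) (c : Fin 3 → F),
          hermForm 6 F q (∑ i : Fin 3, c i • ((Zm ^ (i : ℕ)) *ᵥ v)) a =
            ∑ i : Fin 3, c i * hermForm 6 F q ((Zm ^ (i : ℕ)) *ᵥ v) a := fun a c => by
        rw [show hermForm 6 F q (∑ i : Fin 3, c i • ((Zm ^ (i : ℕ)) *ᵥ v)) a =
          hLin hf a (∑ i : Fin 3, c i • ((Zm ^ (i : ℕ)) *ᵥ v)) from rfl, map_sum]
        simp [hLin, hf.smul_left]
      have hy : y ∈ LinearMap.ker L := (hLm _).2 fun l => by
        rw [hf.add_left, hlin]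
        simp only [hvv, mul_ite, mul_one, mul_zero, Finset.sum_ite_eq', Finset.mem_univ, if_true]
        linear_combination hermForm 6 F q x ((Zm ^ (l : ℕ)) *ᵥ v) * h2F
      have h := hzero y hy
      rw [hf.add_left, hlin, Finset.sum_eq_zero (fun i _ => by
        rw [herm_eq_zero_comm hf ((hLm u).1 hu i), mul_zero]), add_zero] at h
      exact h
    obtain ⟨p, hp⟩ := hnorm u huu
    refine ⟨_, hp, fun i l => ?_⟩
    -- multiplication by the field keeps the orthogonal complement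
    have hperp : ∀ k : K, hermForm 6 F q ((k : Matrix (Fin 6) (Fin 6) F) *ᵥ v) u = 0 := by
      intro k
      let ψ : K →ₗ[F] F :=
        { toFun := fun k => hermForm 6 F q ((k : Matrix (Fin 6) (Fin 6) F) *ᵥ v) u
          map_add' := fun x y => by rw [AddMemClass.coe_add, Matrix.add_mulVec, hf.add_left]
          map_smul' := fun c x => by
            rw [SetLike.val_smul, Matrix.smul_mulVec, hf.smul_left]; rfl }
      have hψ : ψ = 0 := bK.ext fun i => by
        rw [hbK, LinearMap.zero_apply]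
        show hermForm 6 F q (((z ^ (i : ℕ) : K) : Matrix (Fin 6) (Fin 6) F) *ᵥ v) u = 0
        rw [SubmonoidClass.coe_pow, ← hZm]
        exact herm_eq_zero_comm hf ((hLm u).1 huU i)
      exact congrArg (fun L : K →ₗ[F] F => L k) hψ
    have h := hperp (τ (z ^ (l : ℕ) * p) * z ^ (i : ℕ))
    rw [MulMemClass.coe_mul, τval, ← Matrix.mulVec_mulVec, hermForm_mulVec_left hF, adjM_adjM,
      MulMemClass.coe_mul, SubmonoidClass.coe_pow, SubmonoidClass.coe_pow, ← Matrix.mulVec_mulVec] at h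
    exact h
  -- the change of basis
  let d : Fin 6 → Fin 6 → F := fun i =>
    if (i : ℕ) < 3 then (Zm ^ (i : ℕ)) *ᵥ v else (Zm ^ ((i : ℕ) - 3)) *ᵥ w
  have hww : ∀ i l : Fin 3, hermForm 6 F q ((Zm ^ (i : ℕ)) *ᵥ w) ((Zm ^ (l : ℕ)) *ᵥ w) =
      if i = l then 1 else 0 := by
    intro i l
    rw [hred i l i.2 l.2, hw _ (Nat.mod_lt _ (by norm_num))]
    rcases eq_or_ne i l with rfl | hil
    · rw [if_pos le_rfl, one_mul, if_pos (by omega), if_pos rfl]
    · have : (i : ℕ) ≠ l := Fin.val_ne_of_ne hil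
      have := i.2; have := l.2
      rw [if_neg hil, if_neg (show ¬ ((i : ℕ) + 3 - (l : ℕ)) % 3 = 0 by omega), mul_zero]
  obtain ⟨g, hgU, hg⟩ := exists_GU_of_orth hF (d := d) fun i j => by
    simp only [d]
    by_cases hi : (i : ℕ) < 3 <;> by_cases hj : (j : ℕ) < 3
    · rw [if_pos hi, if_pos hj, hvv ⟨i, hi⟩ ⟨j, hj⟩]; simp [Fin.ext_iff]
    · rw [if_pos hi, if_neg hj, hwv ⟨i, hi⟩ ⟨(j : ℕ) - 3, by omega⟩, if_neg (by omega)]
    · rw [if_neg hi, if_pos hj, herm_eq_zero_comm hf (hwv ⟨j, hj⟩ ⟨(i : ℕ) - 3, by omega⟩),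
        if_neg (by omega)]
    · rw [if_neg hi, if_neg hj, hww ⟨(i : ℕ) - 3, by omega⟩ ⟨(j : ℕ) - 3, by omega⟩]
      simp [Fin.ext_iff]
      congr 1
      apply propext
      omega
  -- the concrete elements
  obtain ⟨Z, hZS, hZc, hZ9⟩ : ∃ Z ∈ GU 6 F q, (Z : Matrix (Fin 6) (Fin 6) F) = decM P4 ε 6 zC ∧ Z ^ 9 = 1 := by
    have hU : adjM hF (decM P4 ε 6 zC) * decM P4 ε 6 zC = 1 := by
      ext i j
      have h1 := check_z.1
      simp only [isUnitaryC, List.all_eq_true, List.mem_finRange, forall_const, beq_iff_eq] at h1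
      have h := congrArg (dec P4 ε) (h1 i j)
      simp only [dec_sumC hV, dec_mulC hV, dec_cjC hV, apply_ite (dec P4 ε), dec_one hV, dec_zero hV]
        at h
      rw [Matrix.mul_apply, Matrix.one_apply, ← h]
      rfl
    refine ⟨⟨decM P4 ε 6 zC, _, mul_eq_one_comm.1 hU, hU⟩, mem_GU_of_adjM hF hU, rfl, Units.ext ?_⟩
    refine Matrix.ext_of_mulVec_single fun i => ?_
    have h2 := check_z.2
    simp only [isPowOneC, List.all_eq_true, List.mem_finRange, forall_const, beq_iff_eq] at h2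
    have h := congrArg (decV P4 ε 6) (h2 i)
    rw [decV_iterC hV, decV_unitC hV] at h
    rw [Units.val_pow_eq_pow_val, Units.val_one, Matrix.one_mulVec]
    exact h
  obtain ⟨Φ, hΦS, hΦc, -⟩ : ∃ Φ ∈ GU 6 F q, (Φ : Matrix (Fin 6) (Fin 6) F) = decM P4 ε 6 phC ∧ True := by
    have hU : adjM hF (decM P4 ε 6 phC) * decM P4 ε 6 phC = 1 := by
      ext i j
      have h1 := check_ph.1
      simp only [isUnitaryC, List.all_eq_true, List.mem_finRange, forall_const, beq_iff_eq] at h1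
      have h := congrArg (dec P4 ε) (h1 i j)
      simp only [dec_sumC hV, dec_mulC hV, dec_cjC hV, apply_ite (dec P4 ε), dec_one hV, dec_zero hV]
        at h
      rw [Matrix.mul_apply, Matrix.one_apply, ← h]
      rfl
    exact ⟨⟨decM P4 ε 6 phC, _, mul_eq_one_comm.1 hU, hU⟩, mem_GU_of_adjM hF hU, rfl, trivial⟩
  have hcols : ∀ (A B : CMat), (∀ i : Fin 6, apC P4 6 A (unitC 6 i) = apC P4 6 B (unitC 6 i)) →
      decM P4 ε 6 A = decM P4 ε 6 B := fun A B h => Matrix.ext_of_mulVec_single fun i => by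
    rw [← decV_unitC hV, ← decV_apC hV, ← decV_apC hV, h]
  set MJ := decM P4 ε 6 jC with hMJ
  have hJJ : MJ * MJ.map (qConj hF) = 1 := Matrix.ext_of_mulVec_single fun i => by
    rw [← decM_cjM hV, ← Matrix.mulVec_mulVec, ← decV_unitC hV, ← decV_apC hV, ← decV_apC hV,
      (check_mat i).1, Matrix.one_mulVec]
  have hJP : MJ * (decM P4 ε 6 pC).map (qConj hF) = decM P4 ε 6 pC :=
    Matrix.ext_of_mulVec_single fun i => by
    rw [← decM_cjM hV, ← Matrix.mulVec_mulVec, ← decV_unitC hV, ← decV_apC hV, ← decV_apC hV,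
      (check_mat i).2.1, decV_apC hV]
  have hQP : decM P4 ε 6 pInvC * decM P4 ε 6 pC = 1 := Matrix.ext_of_mulVec_single fun i => by
    rw [← Matrix.mulVec_mulVec, ← decV_unitC hV, ← decV_apC hV, ← decV_apC hV, (check_mat i).2.2.1,
      Matrix.one_mulVec]
  have hΦJ : (Φ : Matrix (Fin 6) (Fin 6) F) * MJ = MJ * (Φ : Matrix (Fin 6) (Fin 6) F).map (qConj hF) :=
    Matrix.ext_of_mulVec_single fun i => by
    rw [hΦc, ← decM_cjM hV, ← Matrix.mulVec_mulVec, ← Matrix.mulVec_mulVec, ← decV_unitC hV,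
      ← decV_apC hV, ← decV_apC hV, ← decV_apC hV, (check_mat i).2.2.2.1, decV_apC hV]
  have hd2 : dec P4 ε 2 = ε := by simp [dec, P4, h2F]
  have hd3 : dec P4 ε 3 = 1 + ε := by
    simp only [dec, P4]
    norm_num
    linear_combination h2F
  have hneqK : eK ≠ 1 := fun h => one_ne_zero (α := K) (by rw [h] at heK; linear_combination -heK)
  have hΦZ : (Φ : Matrix (Fin 6) (Fin 6) F) * (Z : Matrix (Fin 6) (Fin 6) F) =
      ε • ((Z : Matrix (Fin 6) (Fin 6) F) * (Φ : Matrix (Fin 6) (Fin 6) F)) :=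
    Matrix.ext_of_mulVec_single fun i => by
    rw [hΦc, hZc, Matrix.smul_mulVec, ← Matrix.mulVec_mulVec, ← Matrix.mulVec_mulVec, ← decV_unitC hV,
      ← decV_apC hV, ← decV_apC hV, ← decV_apC hV, ← decV_apC hV, (check_mat i).2.2.2.2.1,
      decV_smulC hV, hd2]
  have hZJ : (Z : Matrix (Fin 6) (Fin 6) F) * MJ * (Z : Matrix (Fin 6) (Fin 6) F).map (qConj hF) = MJ :=
    Matrix.ext_of_mulVec_single fun i => by
    rw [hZc, ← decM_cjM hV, ← Matrix.mulVec_mulVec, ← Matrix.mulVec_mulVec, ← decV_unitC hV,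
      ← decV_apC hV, ← decV_apC hV, ← decV_apC hV, (check_mat i).2.2.2.2.2.1, decV_apC hV]
  have hZ3c : (Z : Matrix (Fin 6) (Fin 6) F) ^ 3 = ε • 1 := Matrix.ext_of_mulVec_single fun i => by
    rw [hZc, ← decV_unitC hV, ← decV_iterC hV, (check_mat i).2.2.2.2.2.2, decV_smulC hV, hd2,
      Matrix.smul_mulVec, Matrix.one_mulVec]
  have hbase : ∀ (m : ℕ) (j k : Fin 6), iterC P4 6 zC m (unitC 6 j) = unitC 6 k →
      ((Z : Matrix (Fin 6) (Fin 6) F) ^ m) *ᵥ Pi.single j 1 = Pi.single k 1 := fun m j k h => by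
    rw [hZc, ← decV_unitC hV, ← decV_iterC hV, h, decV_unitC hV]
  have b1 := hbase 1 0 1 check_basis.1
  have b2 := hbase 2 0 2 check_basis.2.1
  have b4 := hbase 1 3 4 check_basis.2.2.1
  have b5 := hbase 2 3 5 check_basis.2.2.2.1
  rw [pow_one] at b1 b4
  have hgZ : (g : Matrix (Fin 6) (Fin 6) F) * (Z : Matrix (Fin 6) (Fin 6) F) =
      Zm * (g : Matrix (Fin 6) (Fin 6) F) := by
    refine Matrix.ext_of_mulVec_single fun i => ?_
    rw [← Matrix.mulVec_mulVec, ← Matrix.mulVec_mulVec]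
    have hz3 : ∀ j : Fin 6, (Z : Matrix (Fin 6) (Fin 6) F) *ᵥ
        (((Z : Matrix (Fin 6) (Fin 6) F) ^ 2) *ᵥ Pi.single j 1) = ε • Pi.single j 1 := fun j => by
      rw [Matrix.mulVec_mulVec, ← pow_succ', hZ3c, Matrix.smul_mulVec, Matrix.one_mulVec]
    fin_cases i
    · show _ *ᵥ (_ *ᵥ Pi.single 0 1) = Zm *ᵥ (_ *ᵥ Pi.single 0 1)
      rw [b1, hg, hg]; simp [d]
    · show _ *ᵥ (_ *ᵥ Pi.single 1 1) = Zm *ᵥ (_ *ᵥ Pi.single 1 1)
      rw [hg, show (Z : Matrix (Fin 6) (Fin 6) F) *ᵥ Pi.single 1 1 = Pi.single 2 1 by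
        rw [← b1, Matrix.mulVec_mulVec, ← sq, b2], hg]
      simp [d, pow_two, Matrix.mulVec_mulVec]
    · show _ *ᵥ (_ *ᵥ Pi.single 2 1) = Zm *ᵥ (_ *ᵥ Pi.single 2 1)
      conv_lhs => rw [← b2, hz3, Matrix.mulVec_smul, hg]
      rw [hg]
      simp only [d, Fin.val_zero, Fin.val_two, Nat.zero_lt_succ, if_true, Nat.lt_add_one]
      rw [pow_zero, Matrix.one_mulVec, Matrix.mulVec_mulVec, ← pow_succ', hZ3, Matrix.smul_mulVec,
        Matrix.one_mulVec]
    · show _ *ᵥ (_ *ᵥ Pi.single 3 1) = Zm *ᵥ (_ *ᵥ Pi.single 3 1)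
      rw [b4, hg, hg]; simp [d]
    · show _ *ᵥ (_ *ᵥ Pi.single 4 1) = Zm *ᵥ (_ *ᵥ Pi.single 4 1)
      rw [hg, show (Z : Matrix (Fin 6) (Fin 6) F) *ᵥ Pi.single 4 1 = Pi.single 5 1 by
        rw [← b4, Matrix.mulVec_mulVec, ← sq, b5], hg]
      simp [d, pow_two, Matrix.mulVec_mulVec]
    · show _ *ᵥ (_ *ᵥ Pi.single 5 1) = Zm *ᵥ (_ *ᵥ Pi.single 5 1)
      conv_lhs => rw [← b5, hz3, Matrix.mulVec_smul, hg]
      rw [hg]
      simp [d, Matrix.mulVec_mulVec, ← pow_succ', hZ3, Matrix.smul_mulVec]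
  -- the fixed field
  let F₀ : Subfield F := RingHom.eqLocusField (qConj hF).toRingHom (RingHom.id F)
  have memF₀ : ∀ {x : F}, x ∈ F₀ ↔ qConj hF x = x := Iff.rfl
  have hF₀ : Fintype.card F = Nat.card F₀ ^ 2 := by
    have hset : (F₀ : Set F) = {0, 1} := by
      ext x
      rw [SetLike.mem_coe, memF₀, qConj_apply hF, hq, Set.mem_insert_iff, Set.mem_singleton_iff]
      constructor
      · intro h
        rcases mul_eq_zero.1 (show x * (x - 1) = 0 by linear_combination h) with h | h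
        · exact Or.inl h
        · exact Or.inr (sub_eq_zero.1 h)
      · rintro (rfl | rfl) <;> simp
    have hc : Nat.card F₀ = 2 := by
      show Nat.card (F₀ : Set F) = 2
      rw [Nat.card_coe_set_eq, hset, Set.ncard_pair zero_ne_one]
    rw [h4, hc]
    norm_num
  set P0 : GL (Fin 6) F := ⟨decM P4 ε 6 pC, decM P4 ε 6 pInvC, mul_eq_one_comm.1 hQP, hQP⟩
  set J : (Fin 6 → F) → (Fin 6 → F) := fun x => MJ *ᵥ (qConj hF ∘ x) with hJ
  have mapv : ∀ (A : Matrix (Fin 6) (Fin 6) F) (x : Fin 6 → F),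
      qConj hF ∘ (A *ᵥ x) = A.map (qConj hF) *ᵥ (qConj hF ∘ x) := fun A x =>
    funext fun i => RingHom.map_mulVec (qConj hF).toRingHom A x i
  have mmap : ∀ A B : Matrix (Fin 6) (Fin 6) F,
      (A * B).map (qConj hF) = A.map (qConj hF) * B.map (qConj hF) := fun A B => Matrix.map_mul
  -- the alternating forms
  have halt : ∀ k : ℕ, k < 3 → ∀ x, hermForm 6 F q (((Z : Matrix (Fin 6) (Fin 6) F) ^ k) *ᵥ x) (J x) = 0 := by
    intro k hk x
    have hM : ∀ i j, dec P4 ε (formC k i j) =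
        ∑ r, ((Z : Matrix (Fin 6) (Fin 6) F) ^ k) r i * qConj hF (MJ r j) := fun i j => by
      rw [formC, dec_sumC hV]
      refine Finset.sum_congr rfl fun r _ => ?_
      rw [dec_mulC hV, dec_cjC hV]
      congr 1
      show decV P4 ε 6 (iterC P4 6 zC k (unitC 6 i)) r = _
      rw [decV_iterC hV, decV_unitC hV, ← hZc, Matrix.mulVec_single_one]
      rfl
    rw [hJ, hermForm_eq_dot hF, mapv, show qConj hF ∘ qConj hF ∘ x = x from funext fun i => qConj_qConj hF _]
    have h0 := quad_alt h2F (fun i j => dec P4 ε (formC k i j))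
      (fun i j => by rw [(check_alt ⟨k, hk⟩ i j).1])
      (fun i => by rw [(check_alt ⟨k, hk⟩ i i).2 rfl, dec_zero hV]) x
    rw [← h0]
    simp only [hM, dotProduct, Matrix.mulVec, Matrix.map_apply, Finset.mul_sum, Finset.sum_mul]
    conv_rhs => rw [Finset.sum_comm]
    rw [Finset.sum_comm]
    refine Finset.sum_congr rfl fun i _ => ?_
    rw [Finset.sum_comm]
    refine Finset.sum_congr rfl fun j _ => Finset.sum_congr rfl fun r _ => ?_
    ring
  have hJiso : adjM hF MJ * MJ = 1 := by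
    ext i j
    have h1 := check_j
    simp only [isUnitaryC, List.all_eq_true, List.mem_finRange, forall_const, beq_iff_eq] at h1
    have h := congrArg (dec P4 ε) (h1 i j)
    simp only [dec_sumC hV, dec_mulC hV, dec_cjC hV, apply_ite (dec P4 ε), dec_one hV, dec_zero hV]
      at h
    rw [Matrix.mul_apply, Matrix.one_apply, ← h]
    rfl
  have hJf : ∀ x y, hermForm 6 F q (J x) (J y) = qConj hF (hermForm 6 F q x y) := fun x y => by
    rw [hJ, hermForm_mulVec_left hF, Matrix.mulVec_mulVec, hJiso, Matrix.one_mulVec,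
      hermForm_eq_dot hF, hermForm_eq_dot hF]
    simp [dotProduct, map_sum, qConj_qConj]
  have hPfix : ∀ u : Fin 6 → F, (∀ i, u i ∈ F₀) →
      J ((P0 : Matrix (Fin 6) (Fin 6) F) *ᵥ u) = (P0 : Matrix (Fin 6) (Fin 6) F) *ᵥ u := fun u hu => by
    rw [hJ]
    show MJ *ᵥ (qConj hF ∘ (decM P4 ε 6 pC *ᵥ u)) = decM P4 ε 6 pC *ᵥ u
    rw [mapv, Matrix.mulVec_mulVec, hJP, show qConj hF ∘ u = u from funext fun i => memF₀.1 (hu i)]
  -- commuting with the conjugate-linear map gives rationality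
  have hrat : ∀ X : Matrix (Fin 6) (Fin 6) F, X * MJ = MJ * X.map (qConj hF) →
      RatMat F₀ (decM P4 ε 6 pInvC * X * decM P4 ε 6 pC) := by
    intro X hX
    set Pm := decM P4 ε 6 pC
    set Q := decM P4 ε 6 pInvC
    have hσP : Pm.map (qConj hF) = MJ.map (qConj hF) * Pm :=
      calc Pm.map (qConj hF) = (MJ.map (qConj hF) * MJ) * Pm.map (qConj hF) := by
            rw [mul_eq_one_comm.1 hJJ, one_mul]
        _ = _ := by rw [mul_assoc, hJP]
    have hσQ : Q.map (qConj hF) = Q * MJ := by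
      have h1 : Q.map (qConj hF) * Pm.map (qConj hF) = 1 := by
        rw [← mmap, hQP, Matrix.map_one _ (map_zero _) (map_one _)]
      calc Q.map (qConj hF) = Q.map (qConj hF) * (MJ.map (qConj hF) * (Pm * Q) * MJ) := by
            rw [mul_eq_one_comm.1 hQP, mul_one, mul_eq_one_comm.1 hJJ, mul_one]
        _ = Q.map (qConj hF) * Pm.map (qConj hF) * (Q * MJ) := by rw [hσP]; simp only [mul_assoc]
        _ = _ := by rw [h1, one_mul]
    intro i j
    rw [memF₀]
    show (Q * X * Pm).map (qConj hF) i j = (Q * X * Pm) i j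
    rw [mmap, mmap, hσQ, hσP]
    refine congrFun (congrFun ?_ i) j
    calc Q * MJ * X.map (qConj hF) * (MJ.map (qConj hF) * Pm)
        = Q * (MJ * X.map (qConj hF)) * MJ.map (qConj hF) * Pm := by simp only [mul_assoc]
      _ = Q * X * (MJ * MJ.map (qConj hF)) * Pm := by rw [← hX]; simp only [mul_assoc]
      _ = _ := by rw [hJJ, mul_one]
  have hmem : ∀ (X : GL (Fin 6) F) (c : F), c ≠ 0 →
      (c • (X : Matrix (Fin 6) (Fin 6) F)) * MJ =
        MJ * (c • (X : Matrix (Fin 6) (Fin 6) F)).map (qConj hF) →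
      X ∈ subfieldSubgroup F₀ P0 := by
    intro X c hc hX
    have h1 : P0⁻¹ * X * P0 ∈ subfieldSubgroup F₀ (1 : GL (Fin 6) F) := by
      refine (mem_subfieldSubgroup_one _).2 ⟨c, hc, ?_⟩
      have := hrat _ hX
      rwa [Matrix.mul_smul, Matrix.smul_mul] at this
    rw [subfieldSubgroup, map_one] at h1
    obtain ⟨y, hy, hyX⟩ := h1
    change y = P0⁻¹ * X * P0 at hyX
    refine ⟨y, hy, ?_⟩
    show P0 * y * P0⁻¹ = X
    rw [hyX]; group
  -- elements commuting with `Z`
  have hcomm : ∀ t ∈ suGL 6 q F, t * Z = Z * t → t ∈ subfieldSubgroup F₀ P0 := by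
    intro t ht htZ
    set x0 := (t : Matrix (Fin 6) (Fin 6) F) *ᵥ Pi.single 0 1 with hx0
    let Zc : Matrix (Fin 6) (Fin 6) F := (Z : Matrix (Fin 6) (Fin 6) F)
    have htm : (t : Matrix (Fin 6) (Fin 6) F) * Zc = Zc * (t : Matrix (Fin 6) (Fin 6) F) := by
      rw [← Units.val_mul, htZ, Units.val_mul]
    have htpow : ∀ m : ℕ, (t : Matrix (Fin 6) (Fin 6) F) * Zc ^ m = Zc ^ m * (t : Matrix (Fin 6) (Fin 6) F) :=
      fun m => (show Commute (t : Matrix (Fin 6) (Fin 6) F) Zc from htm).pow_right m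
    have htiso : ∀ x y : Fin 6 → F, hermForm 6 F q ((t : Matrix (Fin 6) (Fin 6) F) *ᵥ x)
        ((t : Matrix (Fin 6) (Fin 6) F) *ᵥ y) = hermForm 6 F q x y := ht.1
    have hZiso : ∀ x y : Fin 6 → F, hermForm 6 F q (Zc *ᵥ x) (Zc *ᵥ y) = hermForm 6 F q x y := hZS
    have hZisoi : ∀ (i : ℕ) x y, hermForm 6 F q ((Zc ^ i) *ᵥ x) ((Zc ^ i) *ᵥ y) = hermForm 6 F q x y := by
      intro i
      induction i with
      | zero => simp
      | succ i ih => intro x y; rw [pow_succ', ← Matrix.mulVec_mulVec, ← Matrix.mulVec_mulVec, hZiso, ih]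
    have hone : ∀ j k : Fin 6, hermForm 6 F q (Pi.single j (1 : F)) (Pi.single k 1) = if j = k then 1 else 0 := by
      intro j k
      rw [hermForm_eq_dot hF, single_dotProduct, one_mul]
      show qConj hF ((Pi.single k (1 : F) : Fin 6 → F) j) = _
      rw [Pi.single_apply, apply_ite (qConj hF), map_one, map_zero]
    have e0 : ∀ k : Fin 3, (Zc ^ (k : ℕ)) *ᵥ Pi.single 0 1 = Pi.single ⟨k, by omega⟩ 1 := by
      intro k
      fin_cases k
      · show (Zc ^ 0) *ᵥ _ = _
        rw [pow_zero, Matrix.one_mulVec]; rfl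
      · show (Zc ^ 1) *ᵥ _ = _
        rw [pow_one]; exact b1
      · exact b2
    have e3 : ∀ k : Fin 3, (Zc ^ (k : ℕ)) *ᵥ Pi.single 3 1 = Pi.single ⟨k + 3, by omega⟩ 1 := by
      intro k
      fin_cases k
      · show (Zc ^ 0) *ᵥ _ = _
        rw [pow_zero, Matrix.one_mulVec]; rfl
      · show (Zc ^ 1) *ᵥ _ = _
        rw [pow_one]; exact b4
      · exact b5
    have hj0 : MJ *ᵥ Pi.single 0 1 = Pi.single 3 1 := by
      rw [← decV_unitC hV (0 : Fin 6), ← decV_apC hV]
      show decV P4 ε 6 (apC P4 6 jC (unitC 6 0)) = _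
      rw [check_basis.2.2.2.2]
      exact decV_unitC hV (3 : Fin 6)
    -- the rational part
    set y0 := J x0 with hy0
    let col : Fin 6 → Fin 6 → F := fun i =>
      if (i : ℕ) < 3 then (Zc ^ (i : ℕ)) *ᵥ x0 else (Zc ^ ((i : ℕ) - 3)) *ᵥ y0
    have hxx : ∀ i l : Fin 3, hermForm 6 F q ((Zc ^ (i : ℕ)) *ᵥ x0) ((Zc ^ (l : ℕ)) *ᵥ x0) =
        if i = l then 1 else 0 := fun i l => by
      rw [hx0, Matrix.mulVec_mulVec, Matrix.mulVec_mulVec, ← htpow, ← htpow, ← Matrix.mulVec_mulVec,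
        ← Matrix.mulVec_mulVec, htiso, e0, e0, hone]
      simp [Fin.ext_iff]
    have hZJv : ∀ x, Zc *ᵥ J (Zc *ᵥ x) = J x := fun x => by
      rw [hJ]
      show Zc *ᵥ (MJ *ᵥ (qConj hF ∘ (Zc *ᵥ x))) = MJ *ᵥ (qConj hF ∘ x)
      rw [mapv, Matrix.mulVec_mulVec, Matrix.mulVec_mulVec, hZJ]
    have hZJk : ∀ (k : ℕ) x, (Zc ^ k) *ᵥ J ((Zc ^ k) *ᵥ x) = J x := by
      intro k
      induction k with
      | zero => simp
      | succ k ih =>
        intro x
        rw [show (Zc ^ (k + 1)) *ᵥ x = Zc *ᵥ ((Zc ^ k) *ᵥ x) by rw [Matrix.mulVec_mulVec, ← pow_succ'],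
          pow_succ, ← Matrix.mulVec_mulVec, hZJv, ih]
    have hxy : ∀ i l : Fin 3, hermForm 6 F q ((Zc ^ (i : ℕ)) *ᵥ x0) ((Zc ^ (l : ℕ)) *ᵥ y0) = 0 := by
      intro i l
      have h1 := hZisoi (3 - (l : ℕ)) ((Zc ^ (i : ℕ)) *ᵥ x0) ((Zc ^ (l : ℕ)) *ᵥ y0)
      rw [Matrix.mulVec_mulVec x0, Matrix.mulVec_mulVec y0, ← pow_add, ← pow_add,
        show 3 - (l : ℕ) + l = 3 by omega, hZ3c, Matrix.smul_mulVec, Matrix.one_mulVec,
        herm_smul_right hf] at h1
      rw [← h1]
      refine mul_eq_zero_of_right _ ?_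
      set e := 3 - (l : ℕ) + (i : ℕ)
      obtain he | ⟨k, hk, he⟩ : e < 3 ∨ ∃ k, k < 3 ∧ e = 3 + k :=
        (lt_or_ge e 3).imp id fun h => ⟨e - 3, by omega, by omega⟩
      · exact halt e he x0
      · rw [he, pow_add, hZ3c, Matrix.smul_mul, one_mul, Matrix.smul_mulVec, hf.smul_left,
          halt k hk x0, mul_zero]
    obtain ⟨s0, hs0U, hs0⟩ := exists_GU_of_orth hF (d := col) fun i j => by
      simp only [col]
      by_cases hi : (i : ℕ) < 3 <;> by_cases hj : (j : ℕ) < 3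
      · rw [if_pos hi, if_pos hj, hxx ⟨i, hi⟩ ⟨j, hj⟩]; simp [Fin.ext_iff]
      · rw [if_pos hi, if_neg hj, hxy ⟨i, hi⟩ ⟨(j : ℕ) - 3, by omega⟩, if_neg (by omega)]
      · rw [if_neg hi, if_pos hj, herm_eq_zero_comm hf (hxy ⟨j, hj⟩ ⟨(i : ℕ) - 3, by omega⟩),
          if_neg (by omega)]
      · have hyy : ∀ a b : Fin 3, hermForm 6 F q ((Zc ^ (a : ℕ)) *ᵥ y0) ((Zc ^ (b : ℕ)) *ᵥ y0) =
            if a = b then 1 else 0 := fun a b => by
          have hcomm : (Zc ^ (b : ℕ)) * (Zc ^ (a : ℕ)) = (Zc ^ (a : ℕ)) * (Zc ^ (b : ℕ)) := by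
            rw [← pow_add, ← pow_add, add_comm]
          have ha : (Zc ^ (a : ℕ)) *ᵥ y0 =
              (Zc ^ (a : ℕ)) *ᵥ ((Zc ^ (b : ℕ)) *ᵥ J ((Zc ^ (b : ℕ)) *ᵥ x0)) := by rw [hZJk]
          have hb : (Zc ^ (b : ℕ)) *ᵥ y0 =
              (Zc ^ (b : ℕ)) *ᵥ ((Zc ^ (a : ℕ)) *ᵥ J ((Zc ^ (a : ℕ)) *ᵥ x0)) := by rw [hZJk]
          rw [ha, hb, Matrix.mulVec_mulVec (J ((Zc ^ (b : ℕ)) *ᵥ x0)) (Zc ^ (a : ℕ)) (Zc ^ (b : ℕ)),
            ← hcomm, ← Matrix.mulVec_mulVec, hZisoi, hZisoi, hJf, hxx, apply_ite (qConj hF), map_one, map_zero]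
          simp [eq_comm]
        rw [if_neg hi, if_neg hj, hyy ⟨(i : ℕ) - 3, by omega⟩ ⟨(j : ℕ) - 3, by omega⟩]
        simp [Fin.ext_iff]
        congr 1
        apply propext
        omega
    set S := (s0 : Matrix (Fin 6) (Fin 6) F) with hS
    have hScol0 : ∀ k : Fin 3, S *ᵥ ((Zc ^ (k : ℕ)) *ᵥ Pi.single 0 1) = (Zc ^ (k : ℕ)) *ᵥ x0 := fun k => by
      rw [e0, hs0]; simp only [col]; rw [if_pos k.2]
    have hScol3 : ∀ k : Fin 3, S *ᵥ ((Zc ^ (k : ℕ)) *ᵥ Pi.single 3 1) = (Zc ^ (k : ℕ)) *ᵥ y0 := fun k => by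
      rw [e3, hs0]; simp only [col]
      rw [if_neg (by omega)]
      simp
    have hSZ : S * Zc = Zc * S := by
      refine Matrix.ext_of_mulVec_single fun i => ?_
      obtain ⟨k, hk⟩ : ∃ k : Fin 3, Pi.single i (1 : F) = (Zc ^ (k : ℕ)) *ᵥ Pi.single 0 1 ∨
          Pi.single i (1 : F) = (Zc ^ (k : ℕ)) *ᵥ Pi.single 3 1 := by
        by_cases hi : (i : ℕ) < 3
        · exact ⟨⟨i, hi⟩, Or.inl (by rw [e0])⟩
        · exact ⟨⟨(i : ℕ) - 3, by omega⟩, Or.inr (by
            rw [e3]; congr 1; ext; simp; omega)⟩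
      have key : ∀ (y u : Fin 6 → F), (∀ m : Fin 3, S *ᵥ ((Zc ^ (m : ℕ)) *ᵥ y) = (Zc ^ (m : ℕ)) *ᵥ u) →
          (S * Zc) *ᵥ ((Zc ^ (k : ℕ)) *ᵥ y) = (Zc * S) *ᵥ ((Zc ^ (k : ℕ)) *ᵥ y) := by
        intro y u hyu
        rw [← Matrix.mulVec_mulVec, ← Matrix.mulVec_mulVec, hyu k, Matrix.mulVec_mulVec y Zc,
          Matrix.mulVec_mulVec u Zc, ← pow_succ']
        rcases Nat.lt_or_ge ((k : ℕ) + 1) 3 with hlt | hge
        · exact hyu ⟨_, hlt⟩
        · rw [show (k : ℕ) + 1 = 3 by omega, hZ3c, Matrix.smul_mulVec, Matrix.one_mulVec,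
            Matrix.mulVec_smul, Matrix.smul_mulVec, Matrix.one_mulVec]
          congr 1
          simpa using hyu 0
      rcases hk with hk | hk <;> rw [hk]
      · exact key _ _ hScol0
      · exact key _ _ hScol3
    have hSJ : S * MJ = MJ * S.map (qConj hF) := by
      have hco : ∀ x : Fin 6 → F, qConj hF ∘ (Pi.single (0 : Fin 6) (1 : F)) = Pi.single 0 1 := fun _ => by
        funext j; simp [Pi.single_apply, apply_ite (qConj hF)]
      -- `S` commutes with `J`
      have hJJv : ∀ x, J (J x) = x := fun x => by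
        rw [hJ]
        show MJ *ᵥ (qConj hF ∘ (MJ *ᵥ (qConj hF ∘ x))) = x
        rw [mapv, Matrix.mulVec_mulVec, hJJ, Matrix.one_mulVec]
        exact funext fun i => qConj_qConj hF _
      have h03 : J (Pi.single 0 1) = Pi.single 3 1 := by
        rw [hJ]; show MJ *ᵥ _ = _; rw [hco 0, hj0]
      have hS0 : S *ᵥ Pi.single 0 1 = x0 := by
        have h := hScol0 0
        simp only [Fin.val_zero, pow_zero, Matrix.one_mulVec] at h
        exact h
      have hS3 : S *ᵥ Pi.single 3 1 = y0 := by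
        have h := hScol3 0
        simp only [Fin.val_zero, pow_zero, Matrix.one_mulVec] at h
        exact h
      have hbase : ∀ i : Fin 6, S *ᵥ J (Pi.single i 1) = J (S *ᵥ Pi.single i 1) := by
        intro i
        have hSpow : ∀ m : ℕ, S * Zc ^ m = Zc ^ m * S :=
          fun m => (show Commute S Zc from hSZ).pow_right m
        have hinv : ∀ (m : ℕ) (a b : Fin 6 → F), (Zc ^ m) *ᵥ a = (Zc ^ m) *ᵥ b → a = b := by
          intro m a b hab
          have h := congrArg (fun x => (((Z ^ m)⁻¹ : GL (Fin 6) F) : Matrix (Fin 6) (Fin 6) F) *ᵥ x) hab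
          simpa [Zc, ← Units.val_pow_eq_pow_val, Matrix.mulVec_mulVec] using h
        have key : ∀ (k : Fin 3) (b b' : Fin 6 → F) (u : Fin 6 → F), J b = b' → S *ᵥ b = u →
            S *ᵥ b' = J u → S *ᵥ J ((Zc ^ (k : ℕ)) *ᵥ b) = J (S *ᵥ ((Zc ^ (k : ℕ)) *ᵥ b)) := by
          intro k b b' u hb hbu hb'
          refine hinv k _ _ ?_
          have hl : (Zc ^ (k : ℕ)) *ᵥ (S *ᵥ J ((Zc ^ (k : ℕ)) *ᵥ b)) =
              S *ᵥ ((Zc ^ (k : ℕ)) *ᵥ J ((Zc ^ (k : ℕ)) *ᵥ b)) := by
            rw [Matrix.mulVec_mulVec, ← hSpow, ← Matrix.mulVec_mulVec]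
          have hr : S *ᵥ ((Zc ^ (k : ℕ)) *ᵥ b) = (Zc ^ (k : ℕ)) *ᵥ u := by
            rw [Matrix.mulVec_mulVec, hSpow, ← Matrix.mulVec_mulVec, hbu]
          rw [hl, hr, hZJk, hZJk, hb, hb']
        by_cases hi : (i : ℕ) < 3
        · have h := key ⟨i, hi⟩ _ _ _ h03 hS0 hS3
          rw [e0] at h
          exact h
        · have h := key ⟨(i : ℕ) - 3, by omega⟩ (Pi.single 3 1) (Pi.single 0 1) y0
            (by rw [← h03, hJJv]) hS3 (by rw [hy0, hJJv, hS0])
          rw [e3] at h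
          convert h using 4 <;> · ext; simp; omega
      refine Matrix.ext_of_mulVec_single fun i => ?_
      have hci : qConj hF ∘ (Pi.single i (1 : F) : Fin 6 → F) = Pi.single i 1 := by
        funext j; simp [Pi.single_apply, apply_ite (qConj hF)]
      have h := hbase i
      rw [hJ] at h
      simp only [hci, mapv, Matrix.mulVec_mulVec] at h
      exact h
    have hdetS : S.det = 1 := by
      have hne : S.det ≠ 0 := by
        rw [hS]; exact s0.isUnit.map Matrix.detMonoidHom |>.ne_zero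
      have hMne : MJ.det ≠ 0 := fun h0 => by
        have := congrArg Matrix.det hJJ
        rw [Matrix.det_mul, h0, zero_mul, Matrix.det_one] at this
        exact zero_ne_one this
      have h := congrArg Matrix.det hSJ
      rw [Matrix.det_mul, Matrix.det_mul, mul_comm MJ.det] at h
      have h' := mul_right_cancel₀ hMne h
      rw [show (S.map (qConj hF)).det = qConj hF S.det from
        ((qConj hF).toRingHom.map_det S).symm, qConj_apply hF, hq] at h'
      exact mul_left_cancel₀ hne (by linear_combination -h')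
    -- the remaining block
    set p := s0⁻¹ * t with hp
    have hpU : p ∈ GU 6 F q := (GU 6 F q).mul_mem ((GU 6 F q).inv_mem hs0U) ht.1
    have hpZ : (p : Matrix (Fin 6) (Fin 6) F) * Zc = Zc * (p : Matrix (Fin 6) (Fin 6) F) := by
      have h1 : s0 * Z = Z * s0 := Units.ext hSZ
      have h2 : p * Z = Z * p := by
        rw [hp]
        calc s0⁻¹ * t * Z = s0⁻¹ * (Z * t) := by rw [mul_assoc, htZ]
          _ = s0⁻¹ * (Z * s0) * (s0⁻¹ * t) := by group
          _ = _ := by rw [← h1]; group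
      exact congrArg Units.val h2
    have hp0 : (p : Matrix (Fin 6) (Fin 6) F) *ᵥ Pi.single 0 1 = Pi.single 0 1 := by
      rw [hp, Units.val_mul, ← Matrix.mulVec_mulVec, ← hx0,
        show x0 = S *ᵥ Pi.single 0 1 by
          have h := hScol0 0
          simp only [Fin.val_zero, pow_zero, Matrix.one_mulVec] at h
          exact h.symm, hS, inv_mulVec_mulVec]
    have hppow : ∀ m : ℕ, (p : Matrix (Fin 6) (Fin 6) F) * Zc ^ m = Zc ^ m * (p : Matrix (Fin 6) (Fin 6) F) :=
      fun m => (show Commute (p : Matrix (Fin 6) (Fin 6) F) Zc from hpZ).pow_right m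
    have hsurj : ∀ x : F, ∃ a < 4, x = dec P4 ε a := by
      intro x
      have hinj : Function.Injective (fun a : Fin 4 => dec P4 ε (a : ℕ)) := fun a b h =>
        Fin.ext (dec_inj hV a.2 b.2 h)
      obtain ⟨a, ha⟩ := ((Fintype.bijective_iff_injective_and_card _).2
        ⟨hinj, by rw [Fintype.card_fin, h4]⟩).surjective x
      exact ⟨a, a.2, ha.symm⟩
    set u := (p : Matrix (Fin 6) (Fin 6) F) *ᵥ Pi.single 3 1 with hu
    have hu0 : ∀ i : Fin 6, (i : ℕ) < 3 → u i = 0 := by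
      intro i hi
      have hpi : (p : Matrix (Fin 6) (Fin 6) F) *ᵥ Pi.single i 1 = Pi.single i 1 := by
        have h := congrArg (fun M => M *ᵥ Pi.single (0 : Fin 6) (1 : F)) (hppow i)
        simp only [← Matrix.mulVec_mulVec, hp0, e0 ⟨i, hi⟩] at h
        exact h
      have h := hpU (Pi.single 3 1) (Pi.single i 1)
      change hermForm 6 F q ((p : Matrix (Fin 6) (Fin 6) F) *ᵥ Pi.single 3 1)
        ((p : Matrix (Fin 6) (Fin 6) F) *ᵥ Pi.single i 1) = _ at h
      rw [hpi, ← hu, hone, if_neg (by rintro rfl; simp at hi), UFrame.f_single_right hF, map_one,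
        mul_one] at h
      exact h
    obtain ⟨a, ha, hua⟩ := hsurj (u 3)
    obtain ⟨b, hb, hub⟩ := hsurj (u 4)
    obtain ⟨c, hc, huc⟩ := hsurj (u 5)
    have huv : u = decV P4 ε 6 [0, 0, 0, a, b, c] := by
      funext i
      fin_cases i
      · exact (hu0 0 (by norm_num)).trans (dec_zero hV).symm
      · exact (hu0 1 (by norm_num)).trans (dec_zero hV).symm
      · exact (hu0 2 (by norm_num)).trans (dec_zero hV).symm
      · exact hua
      · exact hub
      · exact huc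
    have hpB : (p : Matrix (Fin 6) (Fin 6) F) = decM P4 ε 6 (blockC a b c) := by
      refine Matrix.ext_of_mulVec_single fun i => ?_
      by_cases hi : (i : ℕ) < 3
      · have hpi : (p : Matrix (Fin 6) (Fin 6) F) *ᵥ Pi.single i 1 = Pi.single i 1 := by
          have h := congrArg (fun M => M *ᵥ Pi.single (0 : Fin 6) (1 : F)) (hppow i)
          simp only [← Matrix.mulVec_mulVec, hp0, e0 ⟨i, hi⟩] at h
          exact h
        rw [hpi]
        funext r
        rw [Matrix.mulVec_single_one]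
        show _ = dec P4 ε (mEnt (blockC a b c) r i)
        obtain ⟨i, hi6⟩ := i
        simp only at hi
        interval_cases i <;> fin_cases r <;> simp [blockC, mEnt, ent, dec_one hV, dec_zero hV]
      · have hpi : (p : Matrix (Fin 6) (Fin 6) F) *ᵥ Pi.single i 1 = (Zc ^ ((i : ℕ) - 3)) *ᵥ u := by
          have h := congrArg (fun M => M *ᵥ Pi.single (3 : Fin 6) (1 : F)) (hppow ((i : ℕ) - 3))
          simp only [← Matrix.mulVec_mulVec, e3 ⟨(i : ℕ) - 3, by omega⟩, ← hu] at h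
          rw [← h]
          congr 2
          ext
          simp
          omega
        rw [hpi, huv, show Zc = decM P4 ε 6 zC from hZc, ← decV_iterC hV]
        funext r
        rw [Matrix.mulVec_single_one]
        show dec P4 ε (ent (iterC P4 6 zC ((i : ℕ) - 3) [0, 0, 0, a, b, c]) r) =
          dec P4 ε (mEnt (blockC a b c) r i)
        have key : ∀ a b c : Fin 4, ∀ i r : Fin 6, 3 ≤ (i : ℕ) →
            ent (iterC P4 6 zC ((i : ℕ) - 3) [0, 0, 0, (a : ℕ), b, c]) r =
              mEnt (blockC a b c) r i := by decide +kernel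
        rw [key ⟨a, ha⟩ ⟨b, hb⟩ ⟨c, hc⟩ i r (by omega)]
    have hblock : isUnitaryC P4 6 (blockC a b c) = true := by
      have hU : adjM hF (p : Matrix (Fin 6) (Fin 6) F) * (p : Matrix (Fin 6) (Fin 6) F) = 1 := by
        rw [adjM_of_mem_GU hF hpU, ← Units.val_mul, inv_mul_cancel, Units.val_one]
      simp only [isUnitaryC, List.all_eq_true, List.mem_finRange, forall_const, beq_iff_eq]
      intro i j
      refine dec_inj hV ?_ (by split_ifs <;> norm_num [P4]) ?_
      · rw [sumC]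
        cases List.finRange 6 with
        | nil => norm_num [P4]
        | cons x l => show _ % 2 + 2 * (_ % 2) < 4; omega
      have h := congrArg (fun M => M i j) hU
      simp only [hpB, Matrix.mul_apply, Matrix.one_apply] at h
      simp only [dec_sumC hV, dec_mulC hV, dec_cjC hV, apply_ite (dec P4 ε), dec_one hV, dec_zero hV]
      exact h
    have hdetp : (p : Matrix (Fin 6) (Fin 6) F).det = 1 := by
      have ht1 : (t : Matrix (Fin 6) (Fin 6) F).det = 1 := (DecompMax.mem_sl_iff t).1 ht.2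
      have : t = s0 * p := by rw [hp]; group
      rw [this, Units.val_mul, Matrix.det_mul, ← hS, hdetS, one_mul] at ht1
      exact ht1
    have hcube : ∀ x : F, x ≠ 0 → x ^ 3 = 1 := fun x hx => by
      have h := FiniteField.pow_card_sub_one_eq_one x hx
      rwa [h4] at h
    have hsgn : ∀ σ : Equiv.Perm (Fin 6), ((Equiv.Perm.sign σ : ℤ) : F) = 1 := fun σ => by
      rcases Int.units_eq_one_or (Equiv.Perm.sign σ) with h | h <;> rw [h] <;> simp
      linear_combination -h2F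
    have hneq : ε ≠ 1 ∧ ε + 1 ≠ 1 :=
      ⟨fun h => one_ne_zero (α := F) (by rw [h] at hεε; linear_combination -hεε),
        fun h => hε1 (add_eq_right.1 h)⟩
    rcases check_block ⟨a, ha⟩ ⟨b, hb⟩ ⟨c, hc⟩ hblock with
      ⟨rfl, rfl, ha0⟩ | ⟨rfl, rfl, hb0⟩ | ⟨rfl, rfl, hc0⟩
    · -- a scalar block
      set A := dec P4 ε a
      have hA0 : A ≠ 0 := fun h0 => ha0 (dec_inj hV ha (by norm_num [P4]) (h0.trans (dec_zero hV).symm))
      refine hmem t A hA0 ?_
      let dd : Fin 6 → F := fun i => if (i : ℕ) < 3 then 1 else A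
      have hpd : (p : Matrix (Fin 6) (Fin 6) F) = Matrix.diagonal dd := by
        rw [hpB]
        ext i j
        show dec P4 ε (mEnt (blockC a 0 0) i j) = _
        fin_cases i <;> fin_cases j <;>
          simp [blockC, mEnt, ent, mulC, P4, dd, A, dec_one hV, dec_zero hV] <;> simp [dec]
      have hAσ : qConj hF A = A * A := by rw [qConj_apply hF, hq, sq]
      have hA3 : A * A * A = 1 := by rw [← hcube A hA0]; ring
      have hdiag : (A • Matrix.diagonal dd) * MJ = MJ * (A • Matrix.diagonal dd).map (qConj hF) := by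
        ext i j
        rw [Matrix.smul_mul, Matrix.smul_apply, Matrix.diagonal_mul]
        have : (A • Matrix.diagonal dd).map (qConj hF) =
            Matrix.diagonal fun i => qConj hF (A * dd i) := by
          rw [← Matrix.diagonal_smul, Matrix.diagonal_map (map_zero _)]
          rfl
        rw [this, Matrix.mul_diagonal, smul_eq_mul]
        have hA4 : qConj hF (A * A) = A := by
          rw [map_mul, hAσ]; linear_combination A * hA3
        show A * (dd i * dec P4 ε (mEnt jC i j)) = dec P4 ε (mEnt jC i j) * qConj hF (A * dd j)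
        fin_cases i <;> fin_cases j <;>
          simp only [jC, mEnt, ent, dd, Fin.val_zero, Fin.reduceFinMk, List.getD_cons_zero,
            List.getD_cons_succ, Fin.isValue, dec_zero hV, mul_zero, zero_mul] <;>
          norm_num [dec_zero hV, dec_one hV, hAσ, hA4, mul_comm] <;> ring
      have hts : (A • (t : Matrix (Fin 6) (Fin 6) F)) = S * (A • Matrix.diagonal dd) := by
        rw [Matrix.mul_smul, ← hpd, hS, ← Units.val_mul, show s0 * p = t by rw [hp]; group]
      rw [hts, mmap, mul_assoc, hdiag, ← mul_assoc, hSJ, mul_assoc]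
    · exfalso
      set σ : Equiv.Perm (Fin 6) := Equiv.swap 3 4 * Equiv.swap 4 5
      set B := dec P4 ε b
      have hmon : (p : Matrix (Fin 6) (Fin 6) F) = DecompMax.monMat σ ![1, 1, 1, B, B, ε * B] := by
        rw [hpB]
        ext i j
        show dec P4 ε (mEnt (blockC 0 b 0) i j) = _
        fin_cases i <;> fin_cases j <;>
          simp [blockC, mEnt, ent, DecompMax.monMat, σ, B, dec_one hV, dec_zero hV, dec_mulC hV,
            Equiv.swap_apply_def, hd2] <;> simp [mulC, P4, dec_zero hV]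
      have hB0 : B ≠ 0 := fun h0 => hb0 (dec_inj hV hb (by norm_num [P4]) (h0.trans (dec_zero hV).symm))
      have h := hdetp
      rw [hmon, DecompMax.det_monMat, hsgn, one_mul, Fin.prod_univ_six] at h
      exact hneq.1 (by
        simp only [Matrix.cons_val_zero, Matrix.cons_val_one, Matrix.cons_val] at h
        linear_combination h - ε * hcube B hB0)
    · exfalso
      set σ : Equiv.Perm (Fin 6) := Equiv.swap 4 5 * Equiv.swap 3 4
      set C := dec P4 ε c
      have hmon : (p : Matrix (Fin 6) (Fin 6) F) = DecompMax.monMat σ ![1, 1, 1, C, ε * C, ε * C] := by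
        rw [hpB]
        ext i j
        show dec P4 ε (mEnt (blockC 0 0 c) i j) = _
        fin_cases i <;> fin_cases j <;>
          simp [blockC, mEnt, ent, DecompMax.monMat, σ, C, dec_one hV, dec_zero hV, dec_mulC hV,
            Equiv.swap_apply_def, hd2] <;> simp [mulC, P4, dec_zero hV]
      have hC0 : C ≠ 0 := fun h0 => hc0 (dec_inj hV hc (by norm_num [P4]) (h0.trans (dec_zero hV).symm))
      have h := hdetp
      rw [hmon, DecompMax.det_monMat, hsgn, one_mul, Fin.prod_univ_six] at h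
      exact hneq.2 (by
        simp only [Matrix.cons_val_zero, Matrix.cons_val_one, Matrix.cons_val] at h
        linear_combination h - ε * ε * hcube C hC0 - hεε)
  -- assemble
  refine ⟨F₀, g * P0, 1, hF₀, one_ne_zero, by rw [one_pow]; linear_combination h2F, ?_, ?_, ?_⟩
  · intro u v hu hv
    have hgiso : ∀ x y : Fin 6 → F, hermForm 6 F q ((g : Matrix (Fin 6) (Fin 6) F) *ᵥ x)
        ((g : Matrix (Fin 6) (Fin 6) F) *ᵥ y) = hermForm 6 F q x y := hgU
    rw [one_mul, memF₀, Units.val_mul, ← Matrix.mulVec_mulVec, ← Matrix.mulVec_mulVec, hgiso]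
    conv_rhs => rw [← hPfix u hu, ← hPfix v hv, hJf]
  · intro u hu
    have hgiso : ∀ x y : Fin 6 → F, hermForm 6 F q ((g : Matrix (Fin 6) (Fin 6) F) *ᵥ x)
        ((g : Matrix (Fin 6) (Fin 6) F) *ᵥ y) = hermForm 6 F q x y := hgU
    rw [Units.val_mul, ← Matrix.mulVec_mulVec, hgiso]
    nth_rewrite 2 [← hPfix u hu]
    simpa using halt 0 (by norm_num) ((P0 : Matrix (Fin 6) (Fin 6) F) *ᵥ u)
  · intro s hs
    set s' := g⁻¹ * s * g with hs'
    have hs'S : s' ∈ suGL 6 q F := by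
      have h := conj_mem_suGL (inv_mem hgU) (hH hs)
      rwa [inv_inv] at h
    have hmemK : (s : Matrix (Fin 6) (Fin 6) F) * Zm * ((s⁻¹ : GL (Fin 6) F) : Matrix (Fin 6) (Fin 6) F) ∈ K :=
      (hle hs Zm).1 z.2
    set z' : K := ⟨_, hmemK⟩
    have hz'3 : z' ^ 3 = z ^ 3 := Subtype.ext (by
      rw [SubmonoidClass.coe_pow, SubmonoidClass.coe_pow]
      show _ ^ 3 = Zm ^ 3
      rw [Units.conj_pow, hZ3, Matrix.mul_smul, mul_one, Matrix.smul_mul, ← Units.val_mul,
        mul_inv_cancel, Units.val_one])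
    obtain ⟨m, hm3, hm⟩ : ∃ m < 3, z' = algebraMap F K (ε ^ m) * z := by
      have hzne : z ≠ 0 := fun h0 => by rw [h0, zero_pow (by norm_num)] at hz9; exact zero_ne_one hz9
      have hpr : IsPrimitiveRoot eK 3 := by
        refine IsPrimitiveRoot.iff_orderOf.2 ?_
        haveI : Fact (Nat.Prime 3) := ⟨Nat.prime_three⟩
        refine orderOf_eq_prime ?_ fun h1 => hneqK h1
        rw [heKdef, ← map_pow, hε3, map_one]
      obtain ⟨m, hm, hme⟩ := hpr.eq_pow_of_pow_eq_one (show (z' / z) ^ 3 = 1 by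
        rw [div_pow, hz'3, div_self (pow_ne_zero _ hzne)])
      exact ⟨m, hm, by rw [map_pow, ← heKdef, hme, div_mul_cancel₀ _ hzne]⟩
    have hs'Z : s' * Z * s'⁻¹ = Φ ^ m * Z * (Φ ^ m)⁻¹ := by
      refine Units.ext ?_
      have hgZ' : Zm = (g : Matrix (Fin 6) (Fin 6) F) * (Z : Matrix (Fin 6) (Fin 6) F) *
          ((g⁻¹ : GL (Fin 6) F) : Matrix (Fin 6) (Fin 6) F) := by
        rw [hgZ, mul_assoc, ← Units.val_mul, mul_inv_cancel, Units.val_one, mul_one]
      have hconjK : (s : Matrix (Fin 6) (Fin 6) F) * Zm * ((s⁻¹ : GL (Fin 6) F) : Matrix (Fin 6) (Fin 6) F) =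
          ε ^ m • Zm := by
        have h := congrArg (fun x : K => (x : Matrix (Fin 6) (Fin 6) F)) hm
        simpa [Algebra.algebraMap_eq_smul_one, z', Matrix.smul_mul] using h
      have hΦm : ∀ k : ℕ, ((Φ ^ k * Z * (Φ ^ k)⁻¹ : GL (Fin 6) F) : Matrix (Fin 6) (Fin 6) F) =
          ε ^ k • (Z : Matrix (Fin 6) (Fin 6) F) := by
        intro k
        induction k with
        | zero => simp
        | succ k ih =>
          rw [show Φ ^ (k + 1) * Z * (Φ ^ (k + 1))⁻¹ = Φ * (Φ ^ k * Z * (Φ ^ k)⁻¹) * Φ⁻¹ by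
            rw [pow_succ']; group, Units.val_mul, Units.val_mul, ih, Matrix.mul_smul, hΦZ, smul_smul,
            Matrix.smul_mul, mul_assoc, ← Units.val_mul, mul_inv_cancel, Units.val_one, mul_one,
            ← pow_succ]
      rw [hΦm, hs']
      calc ((g⁻¹ * s * g * Z * (g⁻¹ * s * g)⁻¹ : GL (Fin 6) F) : Matrix (Fin 6) (Fin 6) F)
          = ((g⁻¹ : GL (Fin 6) F) : Matrix (Fin 6) (Fin 6) F) *
              ((s : Matrix (Fin 6) (Fin 6) F) * Zm * ((s⁻¹ : GL (Fin 6) F) : Matrix (Fin 6) (Fin 6) F)) *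
              (g : Matrix (Fin 6) (Fin 6) F) := by
            rw [hgZ', show g⁻¹ * s * g * Z * (g⁻¹ * s * g)⁻¹ = g⁻¹ * (s * (g * Z * g⁻¹) * s⁻¹) * g by group]
            simp only [Units.val_mul]
        _ = _ := by
            rw [hconjK, hgZ', Matrix.mul_smul, Matrix.smul_mul]
            congr 1
            rw [← Units.val_mul, ← Units.val_mul, ← Units.val_mul, ← Units.val_mul,
              show g⁻¹ * (g * Z * g⁻¹) * g = Z by group]
    have hΦS' : Φ ∈ suGL 6 q F := by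
      refine ⟨hΦS, (DecompMax.mem_sl_iff Φ).2 ?_⟩
      have hdiagΦ : (Φ : Matrix (Fin 6) (Fin 6) F) = Matrix.diagonal ![1, ε, 1 + ε, 1, ε, 1 + ε] := by
        rw [hΦc]
        ext i j
        show dec P4 ε (mEnt phC i j) = _
        fin_cases i <;> fin_cases j <;>
          simp [phC, mEnt, ent, dec_one hV, dec_zero hV, hd2, hd3]
      rw [hdiagΦ, Matrix.det_diagonal, Fin.prod_univ_six]
      simp only [Matrix.cons_val_zero, Matrix.cons_val_one, Matrix.cons_val]
      linear_combination (ε * (1 + ε) + 1) * (hεε + ε * h2F)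
    set t := (Φ ^ m)⁻¹ * s' with ht
    have htS : t ∈ suGL 6 q F :=
      (suGL 6 q F).mul_mem ((suGL 6 q F).inv_mem ((suGL 6 q F).pow_mem hΦS' m)) hs'S
    have htZ : t * Z = Z * t := by
      calc t * Z = (Φ ^ m)⁻¹ * (s' * Z * s'⁻¹) * s' := by rw [ht]; group
        _ = Z * t := by rw [hs'Z, ht]; group
    have hΦmem : Φ ∈ subfieldSubgroup F₀ P0 := hmem Φ 1 one_ne_zero (by rw [one_smul]; exact hΦJ)
    have hs'mem : s' ∈ subfieldSubgroup F₀ P0 := by
      rw [show s' = Φ ^ m * t by rw [ht]; group]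
      exact mul_mem (pow_mem hΦmem m) (hcomm t htS htZ)
    obtain ⟨y, hy, hye⟩ := hs'mem
    refine ⟨y, hy, ?_⟩
    change P0 * y * P0⁻¹ = s' at hye
    show g * P0 * y * (g * P0)⁻¹ = s
    rw [show g * P0 * y * (g * P0)⁻¹ = g * (P0 * y * P0⁻¹) * g⁻¹ by group, hye, hs']
    group

end CfsgLib.AschU.SUSixField
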