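import Cfsg.Agent.Lib.AschU.MonoFrame
import Cfsg.Agent.Lib.AschU.SUFive

/-!
The stabiliser of a frame is not maximal in `SU_6(2)`: it fixes a set of 126 lines whose stabiliser
is bigger.
-/

set_option autoImplicit false
set_option linter.unusedSectionVars false

namespace CfsgLib.AschU.SUSixFrame

open Cfsg Cfsg.Geo CfsgLib.MaxSub CfsgLib.AschU.Code CfsgLib.AschU.SUFive Matrix
open scoped MatrixGroups

variable {F : Type*} [Field F] [Fintype F] {q : ℕ}

open scoped _root_.Classical in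
/-- two non-zero coordinates, or none zero and product one -/
def InX (x : Fin 6 → F) : Prop :=
  (Finset.univ.filter fun i => x i ≠ 0).card = 2 ∨ ((∀ i, x i ≠ 0) ∧ ∏ i, x i = 1)

/-- the code version -/
def inC (x : List ℕ) : Bool :=
  decide ((Finset.univ.filter fun i : Fin 6 => ent x i ≠ 0).card = 2) ||
    (decide (∀ i : Fin 6, ent x i ≠ 0) &&
      decide ((List.finRange 6).foldr (fun (i : Fin 6) r => mulC P4 (ent x i) r) 1 = 1))

/-- the transvection with centre the all-one vector -/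
def tC : CMat := [[0, 1, 1, 1, 1, 1], [1, 0, 1, 1, 1, 1], [1, 1, 0, 1, 1, 1], [1, 1, 1, 0, 1, 1],
  [1, 1, 1, 1, 0, 1], [1, 1, 1, 1, 1, 0]]

/-- a transvection whose centre has four non-zero coordinates -/
def uC : CMat := [[0, 1, 1, 1, 0, 0], [1, 0, 1, 1, 0, 0], [1, 1, 0, 1, 0, 0], [1, 1, 1, 0, 0, 0],
  [0, 0, 0, 0, 1, 0], [0, 0, 0, 0, 0, 1]]

def x0 : List ℕ := [1, 0, 0, 0, 1, 0]

theorem check_t : isUnitaryC P4 6 tC = true ∧ isPowOneC P4 6 tC 2 = true := by decide +kernel
theorem check_u : isUnitaryC P4 6 uC = true ∧ isPowOneC P4 6 uC 2 = true := by decide +kernel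

theorem check_keep : ∀ a b c d e f : Fin 4, inC [↑a, ↑b, ↑c, ↑d, ↑e, ↑f] = true →
    inC (apC P4 6 tC [↑a, ↑b, ↑c, ↑d, ↑e, ↑f]) = true := by decide +kernel

theorem check_moved : inC x0 = true ∧ inC (apC P4 6 uC x0) = false ∧
    (∀ i : Fin 6, ent x0 i < 4) ∧ (∀ i : Fin 6, ent (apC P4 6 uC x0) i < 4) ∧
    ent (apC P4 6 uC x0) 1 ≠ 0 := by
  decide +kernel

theorem mulC_lt (a b : ℕ) : mulC P4 a b < 4 := by
  show _ % 2 + 2 * (_ % 2) < 4
  omega

theorem apC_lt (A : CMat) (x : List ℕ) (i : Fin 6) : ent (apC P4 6 A x) i < 4 := by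
  rw [apC, ent_ofFn, sumC]
  induction List.finRange 6 with
  | nil => norm_num
  | cons a l ih =>
    show _ % 2 + 2 * (_ % 2) < 4
    omega

variable {hF : Fintype.card F = q ^ 2} {ε : F} (hV : Valid P4 hF ε)
include hV

theorem inC_iff {x : List ℕ} (hx : ∀ i : Fin 6, ent x i < 4) :
    inC x = true ↔ InX (decV P4 ε 6 x) := by
  classical
  have h0 : ∀ i : Fin 6, decV P4 ε 6 x i ≠ 0 ↔ ent x i ≠ 0 := fun i => by
    refine not_congr ⟨fun h => dec_inj hV (hx i) (by norm_num [P4]) (h.trans (dec_zero hV).symm),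
      fun h => ?_⟩
    simp only [decV, h, dec_zero hV]
  have hprod : dec P4 ε ((List.finRange 6).foldr (fun (i : Fin 6) r => mulC P4 (ent x i) r) 1) =
      ∏ i, decV P4 ε 6 x i := by
    rw [Fin.prod_univ_def]
    induction List.finRange 6 with
    | nil => simpa using dec_one hV
    | cons a l ih => simp [dec_mulC hV, ih, decV]
  have hlt : (List.finRange 6).foldr (fun (i : Fin 6) r => mulC P4 (ent x i) r) 1 < 4 := by
    cases List.finRange 6 with
    | nil => norm_num
    | cons a l => exact mulC_lt _ _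
  simp only [inC, InX, Bool.or_eq_true, Bool.and_eq_true, decide_eq_true_eq, h0, ← hprod]
  refine or_congr Iff.rfl (and_congr Iff.rfl ⟨fun h => by rw [h, dec_one hV],
    fun h => dec_inj hV hlt (by norm_num [P4]) (h.trans (dec_one hV).symm)⟩)

omit hV in
theorem inX_smul (h4 : Fintype.card F = 4) {a : F} (ha : a ≠ 0) {x : Fin 6 → F} (hx : InX x) :
    InX (a • x) := by
  classical
  have h3 : a ^ 3 = 1 := by
    have h := FiniteField.pow_card_sub_one_eq_one a ha
    rwa [h4] at h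
  rcases hx with h | ⟨h1, h2⟩
  · exact Or.inl (by simpa [ha] using h)
  · refine Or.inr ⟨fun i => mul_ne_zero ha (h1 i), ?_⟩
    simp only [Pi.smul_apply, smul_eq_mul]
    rw [Finset.prod_mul_distrib, h2, Finset.prod_const, Finset.card_univ, Fintype.card_fin, mul_one,
      show 6 = 3 * 2 by norm_num, pow_mul, h3, one_pow]

omit hV in
theorem false_of_frame (hF : Fintype.card F = q ^ 2) (hq : q = 2)
    {H : Subgroup (GL (Fin 6) F)} (hH : IsMaximalIn (suGL 6 q F) H)
    {t : ℕ} {D : Fin t → Submodule F (Fin 6 → F)}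
    (hD : IsNondegenerateMDecomposition (hermForm 6 F q) 1 D) (hle : H ≤ decompositionStabilizer D) :
    False := by
  classical
  obtain ⟨ε, hV, hsurj⟩ := exists_valid hF hq
  have h4 : Fintype.card F = 4 := by rw [hF, hq]; rfl
  have h2 : (2 : F) = 0 := by have := hV.char0; simpa [P4] using this
  obtain ⟨H', hH', hmon⟩ := exists_monomial hF (n := 6) (by norm_num) hH hD hle
  set v : {x : Fin 6 → F // InX x} → Fin 6 → F := Subtype.val
  have hstab : H' ≤ lineStab (lineSet v) := by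
    intro s hs
    obtain ⟨σ, e, hse, hN, hdet⟩ := hmon s hs
    have hs1 : ((Equiv.Perm.sign σ : ℤ) : F) = 1 := by
      rcases Int.units_eq_one_or (Equiv.Perm.sign σ) with h | h <;> rw [h] <;> simp
      linear_combination -h2
    rw [hs1, one_mul] at hdet
    refine mem_lineStab fun x => ⟨⟨_, ?_⟩, 1, one_ne_zero, (one_smul F _).symm⟩
    show InX ((s : Matrix (Fin 6) (Fin 6) F) *ᵥ x.1)
    rw [hse]
    have he : ∀ i, e i ≠ 0 := fun i h => by simpa [h] using hN i
    have hy : ∀ i, (DecompMax.monMat σ e *ᵥ x.1) (σ i) = e i * x.1 i :=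
      fun i => DecompMax.monMat_mulVec σ e x.1 i
    rcases x.2 with h | ⟨h1, h2⟩
    · refine Or.inl (Eq.trans ?_ h)
      symm
      exact Finset.card_equiv σ fun i => by simp [hy, he]
    · refine Or.inr ⟨fun j => ?_, ?_⟩
      · rw [← σ.apply_symm_apply j, hy]
        exact mul_ne_zero (he _) (h1 _)
      · rw [← Equiv.prod_comp σ]
        simp only [hy]
        rw [Finset.prod_mul_distrib, hdet, h2, one_mul]
  obtain ⟨T, hTS, hTm, -⟩ := exists_su hV check_t.1 check_t.2 (by rw [h4]; norm_num)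
  obtain ⟨U, hUS, hUm, -⟩ := exists_su hV check_u.1 check_u.2 (by rw [h4]; norm_num)
  refine false_of_between hH' hstab hTS (mem_lineStab fun x => ?_) (fun hT => ?_) hUS
    (notMem_lineStab (v := v) ⟨decV P4 ε 6 x0, (inC_iff hV check_moved.2.2.1).1 check_moved.1⟩
      fun y a he => ?_)
  · choose c hc hce using fun i => hsurj (x.1 i)
    have hx : x.1 = decV P4 ε 6 [c 0, c 1, c 2, c 3, c 4, c 5] := by
      funext i
      fin_cases i <;> exact hce _
    have hlt : ∀ i : Fin 6, ent [c 0, c 1, c 2, c 3, c 4, c 5] i < 4 := fun i => by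
      fin_cases i <;> exact hc _
    refine ⟨⟨_, ?_⟩, 1, one_ne_zero, (one_smul F _).symm⟩
    show InX ((T : Matrix (Fin 6) (Fin 6) F) *ᵥ x.1)
    rw [hTm, hx, ← decV_apC hV, ← inC_iff hV (apC_lt _ _)]
    refine check_keep ⟨_, hc 0⟩ ⟨_, hc 1⟩ ⟨_, hc 2⟩ ⟨_, hc 3⟩ ⟨_, hc 4⟩ ⟨_, hc 5⟩ ?_
    have hX := x.2
    rw [hx, ← inC_iff hV hlt] at hX
    exact hX
  · obtain ⟨σ, e, hse, -, -⟩ := hmon T hT
    have h01 : ∀ i : Fin 6, i ≠ 0 → (T : Matrix (Fin 6) (Fin 6) F) i 0 = 1 := fun i hi => by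
      rw [hTm]
      fin_cases i
      · exact absurd rfl hi
      all_goals exact dec_one hV
    have h1 := h01 1 (by decide)
    have h2 := h01 2 (by decide)
    rw [hse] at h1 h2
    simp only [DecompMax.monMat] at h1 h2
    split_ifs at h1 h2 with e1 e2
    · exact absurd (e1.trans e2.symm) (by decide)
    all_goals simp_all
  · rw [show v _ = decV P4 ε 6 x0 from rfl, hUm, ← decV_apC hV] at he
    have hne : decV P4 ε 6 (apC P4 6 uC x0) 1 ≠ 0 := fun h0 =>
      check_moved.2.2.2.2 (dec_inj hV (check_moved.2.2.2.1 1) (by norm_num [P4]) (h0.trans (dec_zero hV).symm))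
    have ha : a ≠ 0 := fun h0 => hne (by rw [he, h0, zero_smul]; rfl)
    have := (inC_iff hV check_moved.2.2.2.1).2 (he ▸ inX_smul h4 ha y.2)
    rw [check_moved.2.1] at this
    exact Bool.false_ne_true this

end CfsgLib.AschU.SUSixFrame
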