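import Cfsg.Agent.Lib.AschU.MonoFrame
import Cfsg.Agent.Lib.AschU.SUThreeData

/-!
From coded data to a contradiction with maximality in `SU_3(q)`.
-/

set_option autoImplicit false
set_option linter.unusedSectionVars false

namespace CfsgLib.AschU.SUThree

open Cfsg Cfsg.Geo CfsgLib.MaxSub CfsgLib.AschU.Code Matrix
open scoped MatrixGroups

variable {F : Type*} [Field F] [Fintype F] {q : ℕ}

/-! ### bounds -/

theorem pair_lt {p : ℕ} (hp : 0 < p) (x y : ℕ) : x % p + p * (y % p) < p * p := by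
  have h1 := Nat.mod_lt x hp
  have h2 := Nat.mod_lt y hp
  nlinarith [Nat.mul_le_mul_left p (Nat.le_sub_one_of_lt h2), Nat.sub_add_cancel hp]

theorem mulC_lt {P : Par} (hp : 0 < P.p) (a b : ℕ) : mulC P a b < card2 P := pair_lt hp _ _

theorem addC_lt {P : Par} (hp : 0 < P.p) (a b : ℕ) : addC P a b < card2 P := pair_lt hp _ _

theorem cjC_lt {P : Par} (hp : 0 < P.p) (a : ℕ) : cjC P a < card2 P := pair_lt hp _ _

theorem mEnt_mkC (f : ℕ → ℕ → ℕ) : ∀ i j : Fin 3, mEnt (mkC f) i j = f i j := by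
  intro i j
  fin_cases i <;> fin_cases j <;> rfl

theorem mEnt_colsC (a b c : List ℕ) (i : Fin 3) :
    mEnt (colsC a b c) i (0 : Fin 3) = ent a i ∧ mEnt (colsC a b c) i (1 : Fin 3) = ent b i ∧
      mEnt (colsC a b c) i (2 : Fin 3) = ent c i :=
  ⟨mEnt_mkC _ i 0, mEnt_mkC _ i 1, mEnt_mkC _ i 2⟩

theorem mEnt_mulM3_lt {P : Par} (hp : 0 < P.p) (A B : CMat) (i j : Fin 3) :
    mEnt (mulM3 P A B) i j < card2 P := by
  rw [mulM3, mEnt_mkC]; exact addC_lt hp _ _

theorem ent_vec3 {Q : ℕ} {x : List ℕ} (hx : ∀ i : Fin 3, ent x i < Q) :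
    vec Q (ent x 0 + Q * ent x 1 + Q * Q * ent x 2) = [ent x 0, ent x 1, ent x 2] := by
  have h0 : ent x 0 < Q := hx 0
  have h1 : ent x 1 < Q := hx 1
  have h2 : ent x 2 < Q := hx 2
  have hQ : 0 < Q := Nat.lt_of_le_of_lt (Nat.zero_le _) h0
  have e : ent x 0 + Q * ent x 1 + Q * Q * ent x 2 = ent x 0 + Q * (ent x 1 + Q * ent x 2) := by ring
  have f1 : (ent x 0 + Q * (ent x 1 + Q * ent x 2)) / Q = ent x 1 + Q * ent x 2 := by
    rw [Nat.add_mul_div_left _ _ hQ, Nat.div_eq_of_lt h0, zero_add]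
  rw [vec, e, Nat.add_mul_mod_self_left, Nat.mod_eq_of_lt h0, ← Nat.div_div_eq_div_mul, f1,
    Nat.add_mul_mod_self_left, Nat.mod_eq_of_lt h1, Nat.add_mul_div_left _ _ hQ, Nat.div_eq_of_lt h1,
    zero_add]

theorem split_code {Q a a' b b' : ℕ} (ha : a < Q) (ha' : a' < Q) (h : a + Q * b = a' + Q * b') :
    a = a' ∧ b = b' := by
  have h1 := congrArg (· % Q) h
  simp only [Nat.add_mul_mod_self_left, Nat.mod_eq_of_lt ha, Nat.mod_eq_of_lt ha'] at h1
  subst h1
  exact ⟨rfl, Nat.eq_of_mul_eq_mul_left (Nat.lt_of_le_of_lt (Nat.zero_le _) ha) (Nat.add_left_cancel h)⟩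

theorem codeM_inj {P : Par} {A B : CMat} (hA : ∀ i j : Fin 3, mEnt A i j < card2 P)
    (hB : ∀ i j : Fin 3, mEnt B i j < card2 P) (h : codeM P A = codeM P B) :
    ∀ i j : Fin 3, mEnt A i j = mEnt B i j := by
  simp only [codeM] at h
  obtain ⟨e00, h⟩ := split_code (hA 0 0) (hB 0 0) h
  obtain ⟨e01, h⟩ := split_code (hA 0 1) (hB 0 1) h
  obtain ⟨e02, h⟩ := split_code (hA 0 2) (hB 0 2) h
  obtain ⟨e10, h⟩ := split_code (hA 1 0) (hB 1 0) h
  obtain ⟨e11, h⟩ := split_code (hA 1 1) (hB 1 1) h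
  obtain ⟨e12, h⟩ := split_code (hA 1 2) (hB 1 2) h
  obtain ⟨e20, h⟩ := split_code (hA 2 0) (hB 2 0) h
  obtain ⟨e21, e22⟩ := split_code (hA 2 1) (hB 2 1) h
  intro i j
  fin_cases i <;> fin_cases j <;> assumption

/-! ### decoding -/

section

variable {P : Par} {hF : Fintype.card F = q ^ 2} {ε : F} (hV : Valid P hF ε)
include hV

theorem dec_ne_zero {a : ℕ} (ha : a < card2 P) (h : a ≠ 0) : dec P ε a ≠ 0 := fun h0 =>
  h (dec_inj hV ha (Nat.mul_pos hV.prime.pos hV.prime.pos) (h0.trans (dec_zero hV).symm))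

theorem dec_negC (a : ℕ) : dec P ε (negC P a) = -dec P ε a := by
  have h : dec P ε (P.p - 1) = -1 := by
    rw [dec, Nat.div_eq_of_lt (Nat.sub_lt hV.prime.pos one_pos), Nat.cast_zero, zero_mul, add_zero,
      Nat.cast_sub hV.prime.one_le, hV.char0, Nat.cast_one, zero_sub]
  rw [negC, dec_mulC hV, h, neg_one_mul]

theorem det_decM (A : CMat) : (decM P ε 3 A).det = dec P ε (detC P A) := by
  simp only [Matrix.det_fin_three, detC, dec_addC hV, dec_mulC hV, dec_negC hV, decM, Fin.val_zero,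
    Fin.val_one, Fin.val_two]
  ring

theorem dec_formC3 (x y : List ℕ) :
    dec P ε (formC3 P x y) = hermForm 3 F q (decV P ε 3 x) (decV P ε 3 y) := by
  rw [hermForm_eq_dot hF, formC3, dec_addC hV, dec_addC hV, dec_mulC hV, dec_mulC hV, dec_mulC hV,
    dec_cjC hV, dec_cjC hV, dec_cjC hV, dotProduct, Fin.sum_univ_three, add_assoc]
  rfl

theorem decM_mulM3 (A B : CMat) : decM P ε 3 (mulM3 P A B) = decM P ε 3 A * decM P ε 3 B := by
  ext i j
  rw [Matrix.mul_apply, Fin.sum_univ_three]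
  simp only [decM, mulM3, mEnt_mkC, dec_addC hV, dec_mulC hV, add_assoc, Fin.val_zero, Fin.val_one,
    Fin.val_two]

theorem decM_oneC : decM P ε 3 oneC = 1 := by
  ext i j
  fin_cases i <;> fin_cases j <;> simp [decM, oneC, mEnt, ent, dec_zero hV, dec_one hV]

theorem decM_congr {A B : CMat} (h : ∀ i j : Fin 3, mEnt A i j = mEnt B i j) :
    decM P ε 3 A = decM P ε 3 B := Matrix.ext fun i j => by simp only [decM, h i j]

theorem decM_starC (A : CMat) : decM P ε 3 (starC P A) = adjM hF (decM P ε 3 A) := by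
  ext i j
  show dec P ε (mEnt (starC P A) i j) = qConj hF (dec P ε (mEnt A j i))
  rw [starC, mEnt_mkC, dec_cjC hV]

theorem detC_eq_one {s : GL (Fin 3) F} (hs : s ∈ suGL 3 q F) {A : CMat}
    (hA : (s : Matrix (Fin 3) (Fin 3) F) = decM P ε 3 A) : detC P A = 1 := by
  have hdet : (s : Matrix (Fin 3) (Fin 3) F).det = 1 := congrArg Units.val hs.2
  rw [hA, det_decM hV, ← dec_one hV] at hdet
  exact dec_inj hV (addC_lt hV.prime.pos _ _) (Nat.one_lt_mul_iff.2
    ⟨hV.prime.pos, hV.prime.pos, Or.inl hV.prime.one_lt⟩) hdet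

theorem isUnitaryC_of_mem {s : GL (Fin 3) F} (hs : s ∈ GU 3 F q) {A : CMat}
    (hA : (s : Matrix (Fin 3) (Fin 3) F) = decM P ε 3 A) : isUnitaryC P 3 A = true := by
  have hU : adjM hF (decM P ε 3 A) * decM P ε 3 A = 1 := by
    rw [← hA, adjM_of_mem_GU hF hs, ← Units.val_mul, inv_mul_cancel, Units.val_one]
  simp only [isUnitaryC, List.all_eq_true, List.mem_finRange, forall_const, beq_iff_eq]
  intro i j
  have h1 : (1 : ℕ) < P.p * P.p :=
    Nat.one_lt_mul_iff.2 ⟨hV.prime.pos, hV.prime.pos, Or.inl hV.prime.one_lt⟩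
  refine dec_inj hV ?_ (by split_ifs <;> omega) ?_
  · rw [sumC]
    cases List.finRange 3 with
    | nil => simp only [List.foldr_nil]; omega
    | cons x l => exact addC_lt hV.prime.pos _ _
  have h := congrArg (fun M => M i j) hU
  simp only [Matrix.mul_apply, Matrix.one_apply] at h
  simp only [dec_sumC hV, dec_mulC hV, dec_cjC hV, apply_ite (dec P ε), dec_one hV, dec_zero hV]
  exact h

/-! ### keeping the lines -/

omit hV in
/-- `M` keeps the lines of the data -/
def Keeps (P : Par) (ε : F) (X : XData) (M : Matrix (Fin 3) (Fin 3) F) : Prop :=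
  ∀ x ∈ X.xs, ∃ y ∈ X.xs, ∃ a : F, a ≠ 0 ∧ M *ᵥ decV P ε 3 x = a • decV P ε 3 y

omit hV in
theorem Keeps.mul {X : XData} {M N : Matrix (Fin 3) (Fin 3) F} (hM : Keeps P ε X M)
    (hN : Keeps P ε X N) : Keeps P ε X (M * N) := by
  intro x hx
  obtain ⟨y, hy, a, ha, h1⟩ := hN x hx
  obtain ⟨z, hz, b, hb, h2⟩ := hM y hy
  exact ⟨z, hz, a * b, mul_ne_zero ha hb, by
    rw [← Matrix.mulVec_mulVec, h1, Matrix.mulVec_smul, h2, smul_smul]⟩

theorem keeps_of_code {X : XData} (hX : maskOK P X = true) {A : CMat} (h : keepsC P X A = true) :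
    Keeps P ε X (decM P ε 3 A) := by
  intro x hx
  simp only [keepsC, List.all_eq_true, Bool.and_eq_true, bne_iff_ne, beq_iff_eq] at h
  obtain ⟨⟨ha, hz⟩, hbit⟩ := h x hx
  set z := apC P 3 A x
  set y := smulC P 3 (ent X.inv (lead z)) z with hy
  have hylt : ∀ i : Fin 3, ent y i < card2 P := fun i => by
    rw [hy, smulC, ent_ofFn]; exact mulC_lt hV.prime.pos _ _
  have hclt : codeV P y < card2 P * card2 P * card2 P := by
    have h0 : ent y 0 < card2 P := hylt 0
    have h1 : ent y 1 < card2 P := hylt 1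
    have h2 : ent y 2 < card2 P := hylt 2
    simp only [codeV]
    nlinarith
  simp only [maskOK, List.all_eq_true, List.mem_range, Bool.or_eq_true, Bool.not_eq_true',
    List.elem_eq_mem, decide_eq_true_eq] at hX
  have hm : y ∈ X.xs := by
    have := (hX _ hclt).resolve_left (by rw [hbit]; simp)
    rw [show y = [ent y 0, ent y 1, ent y 2] from rfl, ← ent_vec3 hylt]
    exact this
  have hzlt : lead z < card2 P := by
    have hh : ∀ i : Fin 3, ent z i < card2 P := fun i => by
      show ent (apC P 3 A x) i < _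
      rw [apC, ent_ofFn, sumC]
      cases List.finRange 3 with
      | nil => exact Nat.mul_pos hV.prime.pos hV.prime.pos
      | cons b l => exact addC_lt hV.prime.pos _ _
    unfold lead
    split_ifs
    exacts [hh 0, hh 1, hh 2]
  refine ⟨y, hm, dec P ε (lead z), dec_ne_zero hV hzlt ha, ?_⟩
  have := congrArg (decV P ε 3) hz
  rw [decV_normV, decV_smulC hV] at this
  rw [← decV_apC hV]
  exact this

theorem keeps_of_group {X : XData} (hX : maskOK P X = true) {gens : List CMat}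
    {T : List (CMat × ℕ × ℕ)} {codes : List ℕ} (h : groupOK P X gens T codes = true) {A : CMat}
    (hA : ∀ i j : Fin 3, mEnt A i j < card2 P) (hc : codes.elem (codeM P A) = true) :
    Keeps P ε X (decM P ε 3 A) := by
  simp only [groupOK, Bool.and_eq_true, List.all_eq_true, beq_iff_eq] at h
  obtain ⟨⟨⟨hgens, htree⟩, hb⟩, hcodes⟩ := h
  simp only [treeOK, List.all_eq_true, List.mem_range] at htree
  have hall : ∀ k < T.length, Keeps P ε X (decM P ε 3 (T.getD k ([], 0, 0)).1) := by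
    intro k
    induction k using Nat.strong_induction_on with
    | _ k ih =>
      intro hk
      have h := htree k hk
      rcases Nat.eq_zero_or_pos k with rfl | hk0
      · simp only [beq_self_eq_true, if_true, beq_iff_eq] at h
        rw [h, decM_oneC hV]
        exact fun x hx => ⟨x, hx, 1, one_ne_zero, by rw [Matrix.one_mulVec, one_smul]⟩
      · simp only [beq_iff_eq, hk0.ne', if_false, Bool.and_eq_true, decide_eq_true_eq] at h
        obtain ⟨⟨h1, h2⟩, h3⟩ := h
        rw [h3, decM_mulM3 hV]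
        refine (ih _ h1 (h1.trans hk)).mul (keeps_of_code hV hX (hgens _ ?_))
        rw [List.getD_eq_getElem _ _ h2]
        exact List.getElem_mem h2
  rw [← hcodes, List.elem_eq_mem, decide_eq_true_eq, List.mem_map] at hc
  obtain ⟨t, ht, hte⟩ := hc
  obtain ⟨k, hk, rfl⟩ := List.getElem_of_mem ht
  have hbd : ∀ i j : Fin 3, mEnt T[k].1 i j < card2 P := fun i j => by
    have h := hb _ ht
    simp only [boundOK, List.all_eq_true, decide_eq_true_eq] at h
    exact h i (by fin_cases i <;> simp) j (by fin_cases j <;> simp)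
  rw [decM_congr hV (codeM_inj hA hbd hte.symm)]
  have := hall k hk
  rwa [List.getD_eq_getElem _ _ hk] at this

theorem false_of_code (hsurj : ∀ c : F, ∃ a < card2 P, c = dec P ε a) {X : XData}
    (hX : goodX P X = true) {H : Subgroup (GL (Fin 3) F)} (hH : IsMaximalIn (suGL 3 q F) H)
    (hkeep : ∀ s ∈ H, Keeps P ε X (s : Matrix (Fin 3) (Fin 3) F))
    (hg : ∀ s ∈ H, (s : Matrix (Fin 3) (Fin 3) F) ≠ decM P ε 3 X.g) : False := by
  simp only [goodX, Bool.and_eq_true, beq_iff_eq, List.elem_eq_mem, decide_eq_true_eq] at hX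
  obtain ⟨⟨⟨⟨⟨⟨⟨⟨⟨hmask, hbad⟩, g1⟩, g2⟩, u1⟩, u2⟩, gco⟩, uco⟩, gk⟩, hmov⟩ := hX
  have hQ : card2 P = Fintype.card F := by
    have hinj : Function.Injective (fun a : Fin (card2 P) => dec P ε (a : ℕ)) := fun a b h =>
      Fin.ext (dec_inj hV a.2 b.2 h)
    have hsur : Function.Surjective (fun a : Fin (card2 P) => dec P ε (a : ℕ)) := fun c => by
      obtain ⟨a, ha, hc⟩ := hsurj c
      exact ⟨⟨a, ha⟩, hc.symm⟩
    simpa using Fintype.card_congr (Equiv.ofBijective _ ⟨hinj, hsur⟩)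
  obtain ⟨T, hTS, hTm, -⟩ := exists_su hV g1 g2 (by rw [← hQ]; exact gco)
  obtain ⟨U, hUS, hUm, -⟩ := exists_su hV u1 u2 (by rw [← hQ]; exact uco)
  set v : {x : List ℕ // x ∈ X.xs} → Fin 3 → F := fun x => decV P ε 3 x.1 with hv
  haveI : Finite {x : List ℕ // x ∈ X.xs} := (List.finite_toSet X.xs).to_subtype
  have hmem : ∀ s : GL (Fin 3) F, Keeps P ε X (s : Matrix (Fin 3) (Fin 3) F) →
      s ∈ lineStab (lineSet v) := fun s hs => mem_lineStab fun x => by
    obtain ⟨y, hy, a, ha, he⟩ := hs x.1 x.2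
    exact ⟨⟨y, hy⟩, a, ha, he⟩
  refine false_of_between hH (fun s hs => hmem s (hkeep s hs)) hTS
    (hmem T (hTm ▸ keeps_of_code hV hmask gk)) (fun hT => hg T hT hTm) hUS
    (notMem_lineStab (v := v) ⟨X.bad, hbad⟩ fun y a he => ?_)
  obtain ⟨c, hc, rfl⟩ := hsurj a
  simp only [movedC, List.all_eq_true, List.mem_range, bne_iff_ne] at hmov
  refine hmov c hc y.1 y.2 ?_
  have he' : decV P ε 3 (apC P 3 X.u X.bad) = decV P ε 3 (smulC P 3 c y.1) := by
    rw [decV_apC hV, decV_smulC hV, ← hUm]; exact he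
  refine congrArg List.ofFn (funext fun i => ?_)
  refine dec_inj hV ?_ (mulC_lt hV.prime.pos _ _) ((congrFun he' i).trans (by
    simp only [decV, smulC, ent_ofFn]))
  rw [apC, ent_ofFn, sumC]
  cases List.finRange 3 with
  | nil => exact Nat.mul_pos hV.prime.pos hV.prime.pos
  | cons b l => exact addC_lt hV.prime.pos _ _

end

theorem exists_valid25 (hF : Fintype.card F = q ^ 2) (hq : q = 5) :
    ∃ ε : F, Valid P25 hF ε ∧ ∀ c : F, ∃ a < card2 P25, c = dec P25 ε a := by
  classical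
  have h25 : Fintype.card F = 25 := by rw [hF, hq]; rfl
  have h5 : (5 : F) = 0 := by
    have h := FiniteField.cast_card_eq_zero F
    rw [h25] at h
    push_cast at h
    exact mul_self_eq_zero.1 (by linear_combination h)
  have h3 : (3 : F) ≠ 0 := fun h => one_ne_zero (α := F) (by linear_combination 2 * h - h5)
  have hchar : ringChar F ≠ 2 := fun h => by
    have h2 : (2 : F) = 0 := by
      have := ringChar.Nat.cast_ringChar (R := F)
      rw [h] at this
      exact_mod_cast this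
    exact one_ne_zero (α := F) (by linear_combination h5 - 2 * h2)
  obtain ⟨ε, hε⟩ : IsSquare (3 : F) := by
    rw [FiniteField.isSquare_iff hchar h3, h25]
    norm_num
    linear_combination 106288 * h5
  have hc : qConj hF ε = -ε := by
    rw [qConj_apply hF, hq]
    linear_combination -(ε * (ε * ε + 3)) * hε + 2 * ε * h5
  have hV : Valid P25 hF ε := by
    refine ⟨by norm_num [P25], by simp [P25, h5], ?_, ?_, ?_⟩
    · show ε * ε = ((3 : ℕ) : F) + ((0 : ℕ) : F) * ε
      push_cast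
      linear_combination -hε
    · rw [hc]
      show -ε = ((0 : ℕ) : F) - ε
      simp
    · rw [hc]
      intro h
      have h0 : ε = 0 := by linear_combination 2 * h + ε * h5
      rw [h0, mul_zero] at hε
      exact h3 hε
  refine ⟨ε, hV, fun c => ?_⟩
  have hinj : Function.Injective (fun a : Fin 25 => dec P25 ε (a : ℕ)) := fun a b h =>
    Fin.ext (dec_inj hV a.2 b.2 h)
  obtain ⟨a, ha⟩ := ((Fintype.bijective_iff_injective_and_card _).2
    ⟨hinj, by rw [Fintype.card_fin, h25]⟩).surjective c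
  exact ⟨a, a.2, ha.symm⟩

theorem exists_valid9 (hF : Fintype.card F = q ^ 2) (hq : q = 3) :
    ∃ ε : F, Valid P9' hF ε ∧ ∀ c : F, ∃ a < card2 P9', c = dec P9' ε a := by
  classical
  have h9 : Fintype.card F = 9 := by rw [hF, hq]; rfl
  obtain ⟨ε, hε⟩ := FiniteField.isSquare_neg_one_iff.2 (show Fintype.card F % 4 ≠ 3 by rw [h9]; norm_num)
  have h3 : (3 : F) = 0 := by
    have h := FiniteField.cast_card_eq_zero F
    rw [h9] at h
    push_cast at h
    exact mul_self_eq_zero.1 (by linear_combination h)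
  have hc : qConj hF ε = -ε := by
    rw [qConj_apply hF, hq]
    linear_combination -ε * hε
  have hV : Valid P9' hF ε := by
    refine ⟨Nat.prime_three, by simp [P9', h3], ?_, ?_, ?_⟩
    · show ε * ε = ((2 : ℕ) : F) + ((0 : ℕ) : F) * ε
      push_cast
      linear_combination -hε - h3
    · rw [hc]
      show -ε = ((0 : ℕ) : F) - ε
      simp
    · rw [hc]
      intro h
      have h0 : ε = 0 := by linear_combination h + ε * h3
      rw [h0, mul_zero] at hε
      exact one_ne_zero (α := F) (neg_eq_zero.1 hε)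
  refine ⟨ε, hV, fun c => ?_⟩
  have hinj : Function.Injective (fun a : Fin 9 => dec P9' ε (a : ℕ)) := fun a b h =>
    Fin.ext (dec_inj hV a.2 b.2 h)
  obtain ⟨a, ha⟩ := ((Fintype.bijective_iff_injective_and_card _).2
    ⟨hinj, by rw [Fintype.card_fin, h9]⟩).surjective c
  exact ⟨a, a.2, ha.symm⟩

end CfsgLib.AschU.SUThree
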