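import Cfsg.Agent.Lib.AschU.SUThreeCore
import Cfsg.Agent.Lib.Classical.HermOrder

/-!
The normaliser of a cubic field is not maximal in `SU_3(3)` and `SU_3(5)`.
-/

set_option autoImplicit false
set_option linter.unusedSectionVars false

namespace CfsgLib.AschU.SUThree

open Cfsg Cfsg.Geo CfsgLib.MaxSub CfsgLib.AschU.Code Matrix
open scoped MatrixGroups Pointwise

variable {F : Type*} [Field F] [Fintype F] {q : ℕ}

theorem pow_mod7 {G : Type*} [Monoid G] {x : G} (m : ℕ) (h : x ^ 7 = 1) : x ^ (m % 7) = x ^ m := by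
  conv_rhs => rw [← Nat.mod_add_div m 7, pow_add, pow_mul, h, one_pow, mul_one]

set_option maxHeartbeats 800000 in
theorem false_of_field_code (hF : Fintype.card F = q ^ 2) (hq : q = 3 ∨ q = 5) {P : Par} (hPp : P.p = q)
    {ε : F} (hV : Valid P hF ε) (hsurj : ∀ c : F, ∃ a < card2 P, c = dec P ε a)
    {X : XData} {Z Bi : CMat} {Zs gens : List CMat} {w : ℕ} {T : List (CMat × ℕ × ℕ)} {codes : List ℕ}
    (hgood : goodX P X = true) (hgroup : groupOK P X gens T codes = true)
    (hz : checkZ P X Z Bi Zs w = true) (hw : w < card2 P)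
    (hchk : ∀ k < card2 P, checkField P Zs Bi w codes k = true)
    {H : Subgroup (GL (Fin 3) F)} (hH : IsMaximalIn (suGL 3 q F) H)
    {K : Subalgebra F (Matrix (Fin 3) (Fin 3) F)} (hK : IsFieldSubalgebra 3 K)
    (hA : IsAdjointClosedFor (hermForm 3 F q) K) (hle : H ≤ subalgebraNormalizer K) : False := by
  classical
  have hf := isUnitaryForm_hermForm hF 3
  haveI : Fact P.p.Prime := ⟨hV.prime⟩
  have hfield : IsField K :=
    ⟨⟨0, 1, zero_ne_one⟩, fun x y => Subtype.ext (hK.comm x x.2 y y.2), fun {x} hx => by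
      obtain ⟨y, hy, hxy⟩ := hK.inv x x.2 fun h => hx (Subtype.ext h)
      exact ⟨⟨y, hy⟩, Subtype.ext hxy⟩⟩
  let : Field K := hfield.toField
  haveI : CharP F P.p := CharP.charP_iff_prime_eq_zero hV.prime |>.2 hV.char0
  haveI : CharP K P.p := charP_of_injective_algebraMap (algebraMap F K).injective P.p
  have hcard : Nat.card K = (q ^ 2) ^ 3 := by
    rw [Module.natCard_eq_pow_finrank (K := F) (V := K), hK.finrank_eq, Nat.card_eq_fintype_card, hF]
  letI : Fintype K := Fintype.ofFinite K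
  have hadj : ∀ m ∈ K, adjM hF m ∈ K := by
    intro m hm
    obtain ⟨m', hm', h⟩ := hA m hm
    have : adjM hF m = m' := by
      refine Matrix.ext_of_mulVec_single fun i => eq_of_forall_herm hF fun u => ?_
      rw [← hermForm_mulVec_left hF, h]
    rwa [this]
  let τ : K →+* K :=
    { toFun := fun x => ⟨adjM hF (x : Matrix (Fin 3) (Fin 3) F), hadj _ x.2⟩
      map_one' := Subtype.ext (adjM_one hF)
      map_zero' := Subtype.ext (adjM_zero hF)
      map_add' := fun x y => Subtype.ext (adjM_add hF _ _)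
      map_mul' := fun x y => Subtype.ext (by
        show adjM hF ((x * y : K) : Matrix (Fin 3) (Fin 3) F) =
          adjM hF (x : Matrix (Fin 3) (Fin 3) F) * adjM hF (y : Matrix (Fin 3) (Fin 3) F)
        rw [mul_comm x y, MulMemClass.coe_mul, adjM_mul]) }
  have τval : ∀ x : K, (τ x : Matrix (Fin 3) (Fin 3) F) =
      adjM hF (x : Matrix (Fin 3) (Fin 3) F) := fun x => rfl
  have τalg : ∀ c : F, τ (algebraMap F K c) = algebraMap F K (qConj hF c) := fun c => Subtype.ext (by
    simp [τval, Algebra.algebraMap_eq_smul_one, adjM_smul, adjM_one])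
  -- an element of order seven
  haveI : Fact (Nat.Prime 7) := ⟨by norm_num⟩
  obtain ⟨a₀, ha₀⟩ : ∃ a : Kˣ, orderOf a = 7 := by
    refine exists_prime_orderOf_dvd_card' 7 ?_
    rw [Nat.card_units, hcard]
    rcases hq with rfl | rfl <;> norm_num
  set a : K := (a₀ : K) with hadef
  have ha : a ^ 7 = 1 := by rw [hadef, ← Units.val_pow_eq_pow_val, ← ha₀, pow_orderOf_eq_one, Units.val_one]
  have ha1 : a ≠ 1 := fun h => by
    rw [hadef, Units.val_eq_one] at h
    rw [h, orderOf_one] at ha₀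
    norm_num at ha₀
  have hprim : IsPrimitiveRoot a 7 := IsPrimitiveRoot.iff_orderOf.2 (orderOf_eq_prime ha ha1)
  have hsum : a ^ 6 + a ^ 5 + a ^ 4 + a ^ 3 + a ^ 2 + a + 1 = 0 := (mul_eq_zero.1 (show (a - 1) *
    (a ^ 6 + a ^ 5 + a ^ 4 + a ^ 3 + a ^ 2 + a + 1) = 0 by linear_combination ha)).resolve_left
      (sub_ne_zero.2 ha1)
  set s : K := a + a ^ 2 + a ^ 4 with hs
  set t : K := a ^ 3 + a ^ 5 + a ^ 6 with ht
  have hred : ∀ m, a ^ m = a ^ (m % 7) := fun m => (pow_mod7 m ha).symm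
  have hfix : s ^ (q ^ 2) = s := by
    rw [hs, ← hPp, add_pow_char_pow, add_pow_char_pow, ← pow_mul, ← pow_mul]
    rcases hq with rfl | rfl <;> rw [hPp] <;>
      rw [hred (_ ^ 2), hred (2 * _), hred (4 * _)] <;> norm_num <;> ring
  have hsq : s ^ q = t := by
    rw [hs, ht, ← hPp, add_pow_char, add_pow_char, ← pow_mul, ← pow_mul]
    rcases hq with rfl | rfl <;> rw [hPp]
    · rw [hred (4 * 3)]; norm_num; ring
    · rw [hred (2 * 5), hred (4 * 5)]; norm_num; ring
  obtain ⟨c, hc⟩ : ∃ c : F, algebraMap F K c = s := by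
    have hcardR : Nat.card (algebraMap F K).fieldRange = q ^ 2 := by
      show Nat.card (Set.range (algebraMap F K)) = _
      rw [Nat.card_range_of_injective (algebraMap F K).injective, Nat.card_eq_fintype_card, hF]
    exact RingHom.mem_fieldRange.1 (mem_subfield_of_pow_card (F₀ := (algebraMap F K).fieldRange)
      (by rw [hcardR]; exact hfix))
  have h7 : (7 : K) ≠ 0 := by
    have hp0 : ((P.p : ℕ) : K) = 0 := CharP.cast_eq_zero K P.p
    rw [hPp] at hp0
    rcases hq with rfl | rfl <;> push_cast at hp0 <;> intro h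
    · exact one_ne_zero (α := K) (by linear_combination h - 2 * hp0)
    · exact one_ne_zero (α := K) (by linear_combination 3 * hp0 - 2 * h)
  have hτa : τ a * a = 1 := by
    obtain ⟨j, hj, hja⟩ := hprim.eq_pow_of_pow_eq_one
      (show τ a ^ 7 = 1 by rw [← map_pow, ha, map_one])
    have hττ : a ^ (j * j) = a := by
      rw [pow_mul, hja, ← map_pow, hja]
      exact Subtype.ext (adjM_adjM hF _)
    have hmod : j * j % 7 = 1 := by
      refine hprim.pow_inj (Nat.mod_lt _ (by norm_num)) (by norm_num) ?_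
      rw [pow_one, pow_mod7 _ ha, hττ]
    rcases (show ∀ m < 7, m * m % 7 = 1 → m = 1 ∨ m = 6 by decide) j hj hmod with rfl | rfl
    · exfalso
      rw [pow_one] at hja
      have h1 : τ s = s := by rw [hs, map_add, map_add, map_pow, map_pow, ← hja]
      rw [← hc, τalg, qConj_apply hF, map_pow, hc, hsq] at h1
      have e1 : t + s = -1 := by rw [hs, ht]; linear_combination hsum
      have e2 : t * s = 2 := by
        rw [hs, ht]; linear_combination hsum + (a ^ 3 + a ^ 2 + a + 3) * ha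
      exact h7 (by linear_combination (2 * s - 1) * e1 - 4 * e2 + (2 * s + 1) * h1)
    · rw [← hja, ← pow_succ, ha]
  set A : Matrix (Fin 3) (Fin 3) F := (a : Matrix (Fin 3) (Fin 3) F) with hAdef
  have hA7 : A ^ 7 = 1 := by rw [hAdef, ← SubmonoidClass.coe_pow, ha]; rfl
  have hτA : adjM hF A * A = 1 := by
    have h := congrArg (fun x : K => (x : Matrix (Fin 3) (Fin 3) F)) hτa
    simpa [τval] using h
  set u : GL (Fin 3) F := ⟨A, adjM hF A, mul_eq_one_comm.1 hτA, hτA⟩
  have huU : u ∈ GU 3 F q := mem_GU_of_adjM hF hτA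
  have hu7 : u ^ 7 = 1 := Units.ext (by rw [Units.val_pow_eq_pow_val, Units.val_one]; exact hA7)
  have hu1 : u ≠ 1 := fun h => ha1 (Subtype.ext (congrArg Units.val h))
  -- the coded element
  simp only [checkZ, Bool.and_eq_true, beq_iff_eq, List.all_eq_true, bne_iff_ne] at hz
  obtain ⟨⟨⟨⟨⟨⟨z1, z2⟩, z3⟩, z4⟩, z5⟩, z6⟩, z7⟩ := hz
  obtain ⟨z, hzS, hzm, hz7⟩ := exists_su hV z1 z2 (by rw [hF]; rcases hq with rfl | rfl <;> norm_num)
  have hpow : ∀ m, ((z ^ m : GL (Fin 3) F) : Matrix (Fin 3) (Fin 3) F) = decM P ε 3 (powM3 P Z m) := by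
    intro m
    induction m with
    | zero => rw [pow_zero, Units.val_one, powM3, decM_oneC hV]
    | succ m ih => rw [pow_succ, Units.val_mul, ih, hzm, powM3, decM_mulM3 hV]
  have htr : ∀ M : CMat, (decM P ε 3 M).trace = dec P ε (traceC P M) := fun M => by
    simp [Matrix.trace, Fin.sum_univ_three, traceC, dec_addC hV, decM, add_assoc]
  have htrne : ∀ j ∈ [0, 3, 5, 6], ((z ^ j : GL (Fin 3) F) : Matrix (Fin 3) (Fin 3) F).trace ≠
      (z : Matrix (Fin 3) (Fin 3) F).trace := fun j hj h => by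
    rw [hpow, hzm, htr, htr] at h
    exact z7 j hj (dec_inj hV (addC_lt hV.prime.pos _ _) (addC_lt hV.prime.pos _ _) h)
  have hz1 : z ≠ 1 := fun h => htrne 0 (by simp) (by rw [h, one_pow])
  obtain ⟨g, hgU, k, hk⟩ : ∃ g ∈ GU 3 F q, ∃ k : ℕ, z = g * u ^ k * g⁻¹ := by
    let uU : GU 3 F q := ⟨u, huU⟩
    let zU : GU 3 F q := ⟨z, hzS.1⟩
    have hfac : (Nat.card (GU 3 F q)).factorization 7 = 1 := by
      obtain ⟨m, hm, hm7⟩ : ∃ m, Nat.card (GU 3 F q) = 7 * m ∧ ¬ 7 ∣ m := by
        rw [CfsgLib.Classical.card_gu hF]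
        rcases hq with rfl | rfl
        · exact ⟨3456, by norm_num [Finset.prod_range_succ, Nat.even_iff], by norm_num⟩
        · exact ⟨324000, by norm_num [Finset.prod_range_succ, Nat.even_iff], by norm_num⟩
      rw [hm, Nat.factorization_mul (by norm_num) (show m ≠ 0 by rintro rfl; exact hm7 (dvd_zero 7)),
        Finsupp.add_apply,
        Nat.Prime.factorization_self (by norm_num), Nat.factorization_eq_zero_of_not_dvd hm7]
    let S1 : Sylow 7 (GU 3 F q) := Sylow.ofCard (Subgroup.zpowers uU) (by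
      rw [hfac, pow_one, Nat.card_zpowers]
      exact orderOf_eq_prime (Subtype.ext hu7) fun h => hu1 (congrArg Subtype.val h))
    let S2 : Sylow 7 (GU 3 F q) := Sylow.ofCard (Subgroup.zpowers zU) (by
      rw [hfac, pow_one, Nat.card_zpowers]
      exact orderOf_eq_prime (Subtype.ext hz7) fun h => hz1 (congrArg Subtype.val h))
    obtain ⟨g, hg⟩ := MulAction.exists_smul_eq (GU 3 F q) S1 S2
    have hmem : zU ∈ ((g • S1 : Sylow 7 (GU 3 F q)) : Subgroup (GU 3 F q)) := by
      rw [hg]; exact Subgroup.mem_zpowers zU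
    rw [Sylow.coe_subgroup_smul, Subgroup.mem_smul_pointwise_iff_exists] at hmem
    obtain ⟨v, hv, hvx⟩ := hmem
    have hv' : v ∈ Subgroup.zpowers uU := hv
    obtain ⟨k, hk⟩ := (IsOfFinOrder.mem_powers_iff_mem_zpowers (isOfFinOrder_of_finite uU)).2 hv'
    refine ⟨g, g.2, k, ?_⟩
    have hxv := congrArg Subtype.val hvx
    rw [← hk] at hxv
    exact hxv.symm
  have hk7 : ¬ 7 ∣ k := by
    rintro ⟨r, rfl⟩
    exact hz1 (by rw [hk, pow_mul, hu7, one_pow, mul_one, mul_inv_cancel])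
  have hH' := isMaximalIn_conj hH hgU
  have hnorm : ∀ x ∈ H.map (MulAut.conj g).toMonoidHom, ∃ Zj ∈ Zs,
      (x : Matrix (Fin 3) (Fin 3) F) * decM P ε 3 Z =
        decM P ε 3 Zj * (x : Matrix (Fin 3) (Fin 3) F) := by
    rintro _ ⟨h, hh, rfl⟩
    have hAk : A ^ k ∈ K := K.pow_mem a.2 k
    have hmem := (hle hh (A ^ k)).1 hAk
    have h7' : (⟨_, hmem⟩ : K) ^ 7 = 1 := Subtype.ext (by
      rw [SubmonoidClass.coe_pow]
      show _ ^ 7 = (1 : Matrix (Fin 3) (Fin 3) F)
      rw [Units.conj_pow, ← pow_mul, mul_comm, pow_mul, hA7, one_pow, mul_one, ← Units.val_mul,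
        mul_inv_cancel, Units.val_one])
    obtain ⟨i, -, hi⟩ := hprim.eq_pow_of_pow_eq_one h7'
    have hi' : h * u ^ k * h⁻¹ = u ^ i := Units.ext (by
      have e := congrArg Subtype.val hi
      rw [SubmonoidClass.coe_pow] at e
      rw [Units.val_mul, Units.val_mul, Units.val_pow_eq_pow_val, Units.val_pow_eq_pow_val]
      exact e.symm)
    obtain ⟨l, hl⟩ : ∃ l, k * l % 7 = i % 7 := by
      have key : ∀ m < 7, m ≠ 0 → ∀ r < 7, ∃ l < 7, m * l % 7 = r := by decide
      obtain ⟨l, -, hl⟩ := key (k % 7) (Nat.mod_lt _ (by norm_num))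
        (fun h0 => hk7 (Nat.dvd_of_mod_eq_zero h0)) (i % 7) (Nat.mod_lt _ (by norm_num))
      exact ⟨l, by rw [← hl, Nat.mod_mul_mod]⟩
    set x := (MulAut.conj g).toMonoidHom h with hx
    have hxz : x * z * x⁻¹ = z ^ (l % 7) := by
      rw [pow_mod7 l hz7, hx]
      show g * h * g⁻¹ * z * (g * h * g⁻¹)⁻¹ = z ^ l
      calc g * h * g⁻¹ * z * (g * h * g⁻¹)⁻¹ = g * (h * (g⁻¹ * z * g) * h⁻¹) * g⁻¹ := by group
        _ = g * (h * u ^ k * h⁻¹) * g⁻¹ := by rw [hk]; group
        _ = g * (u ^ k) ^ l * g⁻¹ := by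
          rw [hi', ← pow_mul, ← pow_mod7 (k * l) hu7, hl, pow_mod7 i hu7]
        _ = z ^ l := by rw [hk, conj_pow]
    have htr' : ((z ^ (l % 7) : GL (Fin 3) F) : Matrix (Fin 3) (Fin 3) F).trace =
        (z : Matrix (Fin 3) (Fin 3) F).trace := by
      rw [← hxz, Units.val_mul, Units.val_mul, Matrix.trace_units_conj]
    have hl4 : l % 7 ∈ [1, 2, 4] := by
      by_contra hno
      refine htrne (l % 7) ?_ htr'
      have := Nat.mod_lt l (show 7 > 0 by norm_num)
      simp only [List.mem_cons, List.not_mem_nil, or_false, not_or] at hno ⊢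
      omega
    refine ⟨powM3 P Z (l % 7), z5 ▸ List.mem_map_of_mem hl4, ?_⟩
    rw [← hzm, ← hpow, ← hxz, ← Units.val_mul, ← Units.val_mul]
    congr 1
    group
  have hmask : maskOK P X = true := by
    have h := hgood
    simp only [goodX, Bool.and_eq_true] at h
    exact h.1.1.1.1.1.1.1.1.1
  have hap : ∀ (M : CMat) (v : List ℕ) (i : Fin 3), ent (apC P 3 M v) i < card2 P := fun M v i => by
    rw [apC, ent_ofFn, sumC]
    cases List.finRange 3 with
    | nil => exact Nat.mul_pos hV.prime.pos hV.prime.pos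
    | cons b l => exact addC_lt hV.prime.pos _ _
  refine false_of_code hV hsurj hgood hH' (fun x hx => ?_) (fun x hx he => ?_)
  swap
  · obtain ⟨Zj, hZj, hxz⟩ := hnorm x hx
    rw [he, ← decM_mulM3 hV, ← decM_mulM3 hV] at hxz
    refine z6 Zj hZj ?_
    have h : ∀ i j : Fin 3, mEnt (mulM3 P X.g Z) i j = mEnt (mulM3 P Zj X.g) i j := fun i j =>
      dec_inj hV (mEnt_mulM3_lt hV.prime.pos _ _ i j) (mEnt_mulM3_lt hV.prime.pos _ _ i j)
        (congrFun (congrFun hxz i) j)
    simp only [mulM3, mkC]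
    simp only [mulM3, mEnt_mkC] at h
    simp only [List.cons.injEq, and_true]
    exact ⟨⟨h 0 0, h 0 1, h 0 2⟩, ⟨h 1 0, h 1 1, h 1 2⟩, h 2 0, h 2 1, h 2 2⟩
  obtain ⟨Zj, hZj, hxz⟩ := hnorm x hx
  set M := (x : Matrix (Fin 3) (Fin 3) F)
  set e₀ : Fin 3 → F := Pi.single 0 1
  have he₀ : decV P ε 3 [1, 0, 0] = e₀ := by
    funext i; fin_cases i <;> simp [e₀, decV, ent, dec_zero hV, dec_one hV]
  have hiso : ∀ u v, hermForm 3 F q (M *ᵥ u) (M *ᵥ v) = hermForm 3 F q u v := (hH'.1.le hx).1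
  choose b hb hbe using fun i => hsurj ((M *ᵥ e₀) i)
  set xv : List ℕ := [b 0, b 1, b 2] with hxv
  have hxvd : decV P ε 3 xv = M *ᵥ e₀ := by
    funext i; rw [hbe]; fin_cases i <;> rfl
  have hxvlt : ∀ i : Fin 3, ent xv i < card2 P := fun i => by fin_cases i <;> exact hb _
  set yv := apC P 3 Zj xv
  set A' := mulM3 P (colsC xv yv (apC P 3 Zj yv)) Bi
  have hyv : decV P ε 3 yv = M *ᵥ (decM P ε 3 Z *ᵥ e₀) := by
    rw [decV_apC hV, hxvd, Matrix.mulVec_mulVec, Matrix.mulVec_mulVec, hxz]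
  have hyv2 : decV P ε 3 (apC P 3 Zj yv) = M *ᵥ (decM P ε 3 Z *ᵥ (decM P ε 3 Z *ᵥ e₀)) := by
    rw [decV_apC hV, hyv, Matrix.mulVec_mulVec, ← hxz, ← Matrix.mulVec_mulVec]
  have hcols : decM P ε 3 (colsC xv yv (apC P 3 Zj yv)) = M * decM P ε 3 (colsC [1, 0, 0]
      (apC P 3 Z [1, 0, 0]) (apC P 3 Z (apC P 3 Z [1, 0, 0]))) := by
    refine Matrix.ext_of_mulVec_single fun j => ?_
    have key : ∀ a b c : List ℕ, decM P ε 3 (colsC a b c) *ᵥ Pi.single j 1 =
        decV P ε 3 (![a, b, c] j) := by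
      intro a b c
      funext i
      obtain ⟨c0, c1, c2⟩ := mEnt_colsC a b c i
      rw [Matrix.mulVec_single_one]
      show dec P ε (mEnt (colsC a b c) i j) = dec P ε (ent (![a, b, c] j) i)
      fin_cases j
      · exact congrArg _ c0
      · exact congrArg _ c1
      · exact congrArg _ c2
    rw [← Matrix.mulVec_mulVec, key, key]
    fin_cases j
    · show decV P ε 3 xv = M *ᵥ decV P ε 3 [1, 0, 0]
      rw [he₀, hxvd]
    · show decV P ε 3 yv = M *ᵥ decV P ε 3 (apC P 3 Z [1, 0, 0])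
      rw [hyv, decV_apC hV, he₀]
    · show decV P ε 3 (apC P 3 Zj yv) = M *ᵥ decV P ε 3 (apC P 3 Z (apC P 3 Z [1, 0, 0]))
      rw [hyv2, decV_apC hV Z, decV_apC hV Z, he₀]
  have hA' : M = decM P ε 3 A' := by
    rw [decM_mulM3 hV, hcols, mul_assoc, ← decM_mulM3 hV, z4, decM_oneC hV, mul_one]
  rw [hA']
  refine keeps_of_group hV hmask hgroup (mEnt_mulM3_lt hV.prime.pos _ _) ?_
  have hk2 : b 2 < card2 P := hb 2
  have h := hchk (b 2) hk2
  simp only [checkField, List.all_eq_true, List.mem_range, Bool.or_eq_true, bne_iff_ne] at h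
  have hi : b 0 + card2 P * b 1 < card2 P * card2 P := by
    have := hb 0; have := hb 1; nlinarith
  have hvec : [(b 0 + card2 P * b 1) % card2 P, (b 0 + card2 P * b 1) / card2 P, b 2] = xv := by
    rw [Nat.add_mul_mod_self_left, Nat.mod_eq_of_lt (hb 0),
      Nat.add_mul_div_left _ _ (show 0 < card2 P from Nat.mul_pos hV.prime.pos hV.prime.pos),
      Nat.div_eq_of_lt (hb 0), zero_add]
  have h' := h _ hi
  rw [hvec] at h'
  have hlt1 : (1 : ℕ) < P.p * P.p :=
    Nat.one_lt_mul_iff.2 ⟨hV.prime.pos, hV.prime.pos, Or.inl hV.prime.one_lt⟩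
  have hn1 : formC3 P xv xv = 1 := by
    refine dec_inj hV (addC_lt hV.prime.pos _ _) hlt1 ?_
    rw [dec_formC3 hV, hxvd, hiso, hermForm_eq_dot hF, dec_one hV, single_dotProduct, one_mul]
    show qConj hF ((Pi.single (0 : Fin 3) (1 : F) : Fin 3 → F) 0) = 1
    rw [Pi.single_eq_same, map_one]
  rcases (h'.resolve_left (fun h => h hn1)) Zj hZj with h'' | (h'' | h'') | h''
  · refine absurd ?_ h''
    rw [← z3]
    refine dec_inj hV (addC_lt hV.prime.pos _ _) (addC_lt hV.prime.pos _ _) ?_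
    rw [dec_formC3 hV, dec_formC3 hV, hyv, hxvd, hiso, decV_apC hV, he₀]
  · exact h''
  · rw [isUnitaryC_of_mem hV (hH'.1.le hx).1 hA'] at h''
    exact absurd h'' (by simp)
  · exact absurd (detC_eq_one hV (hH'.1.le hx) hA') h''

theorem false_of_field35 (hF : Fintype.card F = q ^ 2) (hq : q = 3 ∨ q = 5)
    {H : Subgroup (GL (Fin 3) F)} (hH : IsMaximalIn (suGL 3 q F) H)
    {K : Subalgebra F (Matrix (Fin 3) (Fin 3) F)} (hK : IsFieldSubalgebra 3 K)
    (hA : IsAdjointClosedFor (hermForm 3 F q) K) (hle : H ≤ subalgebraNormalizer K) : False := by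
  rcases hq with h | h
  · obtain ⟨ε, hV, hsurj⟩ := exists_valid9 hF h
    refine false_of_field_code hF (Or.inl h) (show P9'.p = q from h.symm) hV hsurj good_field3
      group_field3 check_z3 (by norm_num [wC3, card2, P9']) (fun k hk => ?_) hH hK hA hle
    have := check_field3
    simp only [List.all_eq_true, List.mem_range] at this
    exact this k hk
  · obtain ⟨ε, hV, hsurj⟩ := exists_valid25 hF h
    exact false_of_field_code hF (Or.inr h) (show P25.p = q from h.symm) hV hsurj good_field5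
      group_field5 check_z5 (by norm_num [wC5, card2, P25]) check_field5 hH hK hA hle

end CfsgLib.AschU.SUThree
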