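import Cfsg.Agent.Lib.AschU.SUThreeCore

/-!
The stabiliser of a frame is not maximal in `SU_3(5)`.
-/

set_option autoImplicit false
set_option linter.unusedSectionVars false

namespace CfsgLib.AschU.SUThree

open Cfsg Cfsg.Geo CfsgLib.MaxSub CfsgLib.AschU.Code Matrix
open scoped MatrixGroups

variable {F : Type*} [Field F] [Fintype F] {q : ℕ}

theorem perms3_all : ∀ σ : Equiv.Perm (Fin 3), [(σ 0 : ℕ), (σ 1 : ℕ), (σ 2 : ℕ)] ∈ perms3 := by
  decide +kernel

theorem false_of_frame5 (hF : Fintype.card F = q ^ 2) (hq : q = 5)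
    {H : Subgroup (GL (Fin 3) F)} (hH : IsMaximalIn (suGL 3 q F) H)
    {t : ℕ} {D : Fin t → Submodule F (Fin 3 → F)}
    (hD : IsNondegenerateMDecomposition (hermForm 3 F q) 1 D) (hle : H ≤ decompositionStabilizer D) :
    False := by
  classical
  obtain ⟨ε, hV, hsurj⟩ := exists_valid25 hF hq
  obtain ⟨H', hH', hmon⟩ := exists_monomial hF (n := 3) (by norm_num) hH hD hle
  have hgood := good_frame
  have hmask : maskOK P25 frameX = true := by
    simp only [goodX, Bool.and_eq_true] at hgood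
    exact hgood.1.1.1.1.1.1.1.1.1
  refine false_of_code hV hsurj good_frame hH' (fun s hs => ?_) (fun s hs he => ?_)
  · obtain ⟨σ, e, hse, hN, -⟩ := hmon s hs
    choose a ha hae using fun i => hsurj (e i)
    have hu : ∀ i, a i ∈ units25 := fun i => check_units ⟨a i, ha i⟩ (dec_inj hV (mulC_lt hV.prime.pos _ _)
      (by norm_num [P25]) (by rw [dec_mulC hV, dec_cjC hV, ← hae, hN i, dec_one hV]))
    set A := colsC (unitV (a 0) (σ 0 : ℕ)) (unitV (a 1) (σ 1 : ℕ)) (unitV (a 2) (σ 2 : ℕ))
    have hA : (s : Matrix (Fin 3) (Fin 3) F) = decM P25 ε 3 A := by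
      rw [hse]
      ext i j
      obtain ⟨c0, c1, c2⟩ := mEnt_colsC (unitV (a 0) (σ 0 : ℕ)) (unitV (a 1) (σ 1 : ℕ))
        (unitV (a 2) (σ 2 : ℕ)) i
      have key : ∀ (b : ℕ) (k : Fin 3), ent (unitV b k) i = if i = k then b else 0 := fun b k => by
        fin_cases i <;> fin_cases k <;> simp [unitV, ent]
      show DecompMax.monMat σ e i j = dec P25 ε (mEnt A i j)
      fin_cases j
      · show DecompMax.monMat σ e i 0 = dec P25 ε (mEnt A i (0 : Fin 3))
        rw [c0, key, apply_ite (dec P25 ε), dec_zero hV, ← hae]; rfl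
      · show DecompMax.monMat σ e i 1 = dec P25 ε (mEnt A i (1 : Fin 3))
        rw [c1, key, apply_ite (dec P25 ε), dec_zero hV, ← hae]; rfl
      · show DecompMax.monMat σ e i 2 = dec P25 ε (mEnt A i (2 : Fin 3))
        rw [c2, key, apply_ite (dec P25 ε), dec_zero hV, ← hae]; rfl
    have hdet := detC_eq_one hV (hH'.1.le hs) hA
    have hchk := check_frame _ (perms3_all σ)
    simp only [checkFrame, List.all_eq_true, Bool.or_eq_true, bne_iff_ne] at hchk
    rw [hA]
    refine keeps_of_group hV hmask group_frame (fun i j => ?_)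
      ((hchk _ (hu 0) _ (hu 1) _ (hu 2)).resolve_left fun h => h hdet)
    obtain ⟨c0, c1, c2⟩ := mEnt_colsC (unitV (a 0) (σ 0 : ℕ)) (unitV (a 1) (σ 1 : ℕ))
      (unitV (a 2) (σ 2 : ℕ)) i
    have key : ∀ (b k : ℕ), b < 25 → ent (unitV b k) i < card2 P25 := fun b k hb => by
      fin_cases i <;> simp only [unitV, ent, card2, P25, List.getD_cons_zero, List.getD_cons_succ] <;>
        split_ifs <;> omega
    fin_cases j
    · exact c0.trans_lt (key _ _ (ha 0))
    · exact c1.trans_lt (key _ _ (ha 1))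
    · exact c2.trans_lt (key _ _ (ha 2))
  · obtain ⟨σ, e, hse, -, -⟩ := hmon s hs
    have h1 : (s : Matrix (Fin 3) (Fin 3) F) 0 0 ≠ 0 := by
      rw [he]; exact dec_ne_zero hV (a := 6) (by norm_num [card2, P25]) (by norm_num)
    have h2 : (s : Matrix (Fin 3) (Fin 3) F) 1 0 ≠ 0 := by
      rw [he]; exact dec_ne_zero hV (a := 2) (by norm_num [card2, P25]) (by norm_num)
    rw [hse] at h1 h2
    simp only [DecompMax.monMat] at h1 h2
    split_ifs at h1 h2 with e1 e2
    · exact absurd (e1.trans e2.symm) (by decide)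
    all_goals first | exact h1 rfl | exact h2 rfl

end CfsgLib.AschU.SUThree
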