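import Cfsg.Agent.Lib.AschU.SUThreeCore
import Cfsg.Agent.Lib.AschU.SUThreeFrame
import Cfsg.Agent.Lib.AschU.List

/-!
The orthogonal subfield subgroup of `SU_3(q)`, `q = 3, 5`, is not maximal, apart from being a frame
stabiliser for `q = 3`.
-/

set_option autoImplicit false
set_option linter.unusedSectionVars false

namespace CfsgLib.AschU.SUThree

open Cfsg Cfsg.Geo CfsgLib.MaxSub CfsgLib.AschU.Code Matrix
open scoped MatrixGroups

variable {F : Type*} [Field F] [Fintype F] {q : ℕ}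

/-- `x` is a rational combination of the columns of `P` -/
def InW (hF : Fintype.card F = q ^ 2) (P : GL (Fin 3) F) (x : Fin 3 → F) : Prop :=
  ∃ u : Fin 3 → F, (∀ i, qConj hF (u i) = u i) ∧ x = (P : Matrix (Fin 3) (Fin 3) F) *ᵥ u

theorem InW.add {hF : Fintype.card F = q ^ 2} {P : GL (Fin 3) F} {x y : Fin 3 → F} (hx : InW hF P x)
    (hy : InW hF P y) : InW hF P (x + y) := by
  obtain ⟨u, hu, rfl⟩ := hx
  obtain ⟨v, hv, rfl⟩ := hy
  exact ⟨u + v, fun i => by simp [hu i, hv i], (Matrix.mulVec_add _ _ _).symm⟩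

theorem InW.smul {hF : Fintype.card F = q ^ 2} {P : GL (Fin 3) F} {x : Fin 3 → F} (hx : InW hF P x)
    {c : F} (hc : qConj hF c = c) : InW hF P (c • x) := by
  obtain ⟨u, hu, rfl⟩ := hx
  exact ⟨c • u, fun i => by simp [hu i, hc], (Matrix.mulVec_smul _ _ _).symm⟩

theorem exists_next (hF : Fintype.card F = q ^ 2) (hq : q = 3 ∨ q = 5) {P : GL (Fin 3) F}
    (hP : ∀ x y, InW hF P x → InW hF P y →
      qConj hF (hermForm 3 F q x y) = hermForm 3 F q x y)
    {m : ℕ} (hm : m < 3) (e : Fin m → Fin 3 → F) (he : ∀ k, InW hF P (e k))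
    (hee : ∀ k, hermForm 3 F q (e k) (e k) ≠ 0)
    (heo : ∀ k l, k ≠ l → hermForm 3 F q (e k) (e l) = 0) :
    ∃ x, InW hF P x ∧ (∀ k, hermForm 3 F q x (e k) = 0) ∧ hermForm 3 F q x x ≠ 0 := by
  classical
  have hf := isUnitaryForm_hermForm hF 3
  have h2 : (2 : F) ≠ 0 := by
    intro h2
    have h := FiniteField.cast_card_eq_zero F
    rw [hF] at h
    rcases hq with rfl | rfl <;> push_cast at h
    · exact one_ne_zero (α := F) (by linear_combination h - 4 * h2)
    · exact one_ne_zero (α := F) (by linear_combination h - 12 * h2)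
  by_contra hall
  push Not at hall
  set d : Fin 3 → Fin 3 → F := fun i => (P : Matrix (Fin 3) (Fin 3) F) *ᵥ Pi.single i 1 with hd
  have hdW : ∀ i, InW hF P (d i) := fun i =>
    ⟨Pi.single i 1, fun j => by simp [Pi.single_apply, apply_ite (qConj hF)], rfl⟩
  set a : Fin 3 → Fin m → F := fun i k =>
    hermForm 3 F q (d i) (e k) / hermForm 3 F q (e k) (e k)
  have ha : ∀ i k, qConj hF (a i k) = a i k := fun i k => by
    rw [map_div₀, hP _ _ (hdW i) (he k), hP _ _ (he k) (he k)]
  set p : Fin 3 → Fin 3 → F := fun i => d i + ∑ k, (-a i k) • e k with hp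
  have hpW : ∀ i, InW hF P (p i) := fun i => by
    refine (hdW i).add ?_
    have h0 : InW hF P 0 := ⟨0, fun j => by simp, (Matrix.mulVec_zero _).symm⟩
    exact Finset.sum_induction (s := Finset.univ) (fun k => (-a i k) • e k) (InW hF P)
      (fun _ _ => InW.add) h0 fun k _ => (he k).smul (by rw [map_neg, ha])
  have hsum : ∀ (c : Fin m → F) (y : Fin 3 → F),
      hermForm 3 F q (∑ k, c k • e k) y = ∑ k, c k * hermForm 3 F q (e k) y := fun c y => by
    rw [show hermForm 3 F q (∑ k, c k • e k) y = hLin hf y (∑ k, c k • e k) from rfl, map_sum]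
    simp [hLin, hf.smul_left]
  have hpe : ∀ i k, hermForm 3 F q (p i) (e k) = 0 := fun i k => by
    rw [hp]
    simp only
    rw [hf.add_left, hsum, Finset.sum_eq_single k (fun l _ hl => by rw [heo l k hl, mul_zero])
      (fun h => absurd (Finset.mem_univ k) h), neg_mul, div_mul_cancel₀ _ (hee k), add_neg_cancel]
  have hpol : ∀ x y : Fin 3 → F, InW hF P x → InW hF P y → (∀ k, hermForm 3 F q x (e k) = 0) →
      (∀ k, hermForm 3 F q y (e k) = 0) → hermForm 3 F q x y = 0 := fun x y hx hy hxe hye => by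
    have h1 := hall _ (hx.add hy) (fun k => by rw [hf.add_left, hxe, hye, add_zero])
    rw [hf.add_left, herm_add_right hf, herm_add_right hf, hall _ hx hxe, hall _ hy hye, zero_add,
      add_zero, show hermForm 3 F q y x = hermForm 3 F q x y by
        rw [hf.herm y x, hP _ _ hx hy]] at h1
    exact (mul_eq_zero.1 (show (2 : F) * hermForm 3 F q x y = 0 by linear_combination h1)).resolve_left h2
  have hpp : ∀ i j, hermForm 3 F q (p i) (p j) = 0 := fun i j =>
    hpol _ _ (hpW i) (hpW j) (hpe i) (hpe j)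
  have hcd : ∀ c : Fin 3 → F, (P : Matrix (Fin 3) (Fin 3) F) *ᵥ c = c 0 • d 0 + c 1 • d 1 + c 2 • d 2 := by
    intro c
    funext r
    simp [hd, Matrix.mulVec_single_one, Matrix.mulVec, dotProduct, Fin.sum_univ_three, mul_comm]
  have hp0 : ∀ i, p i = 0 := by
    intro i
    by_contra h0
    obtain ⟨-, ⟨x, hx⟩⟩ := hf.nondegenerate (p i) h0
    refine hx ?_
    obtain ⟨c, rfl⟩ : ∃ c, x = (P : Matrix (Fin 3) (Fin 3) F) *ᵥ c :=
      ⟨((P⁻¹ : GL (Fin 3) F) : Matrix (Fin 3) (Fin 3) F) *ᵥ x, by rw [mulVec_mulVec_inv]⟩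
    have hdj : ∀ j, hermForm 3 F q (p i) (d j) = 0 := fun j => by
      have hd' : d j = p j + ∑ k, a j k • e k := by
        rw [hp]; simp [neg_smul, Finset.sum_neg_distrib]
      rw [hd', herm_add_right hf, hpp, zero_add]
      refine herm_eq_zero_comm hf ?_
      rw [hsum]
      exact Finset.sum_eq_zero fun k _ => by rw [herm_eq_zero_comm hf (hpe i k), mul_zero]
    refine herm_eq_zero_comm hf ?_
    rw [hcd, hf.add_left, hf.add_left, hf.smul_left, hf.smul_left, hf.smul_left,
      herm_eq_zero_comm hf (hdj 0), herm_eq_zero_comm hf (hdj 1), herm_eq_zero_comm hf (hdj 2)]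
    simp
  have hspan : ⊤ ≤ Submodule.span F (Set.range e) := by
    intro x _
    have hx : x = (P : Matrix (Fin 3) (Fin 3) F) *ᵥ
        (((P⁻¹ : GL (Fin 3) F) : Matrix (Fin 3) (Fin 3) F) *ᵥ x) := by rw [mulVec_mulVec_inv]
    rw [hx, hcd]
    have hdi : ∀ i, d i ∈ Submodule.span F (Set.range e) := fun i => by
      have h := hp0 i
      rw [hp] at h
      simp only [neg_smul, Finset.sum_neg_distrib, add_neg_eq_zero] at h
      rw [h]
      exact Submodule.sum_mem _ fun k _ =>
        Submodule.smul_mem _ _ (Submodule.subset_span (Set.mem_range_self k))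
    exact add_mem (add_mem (Submodule.smul_mem _ _ (hdi 0)) (Submodule.smul_mem _ _ (hdi 1)))
      (Submodule.smul_mem _ _ (hdi 2))
  have h1 := Submodule.finrank_mono hspan
  rw [finrank_top, Module.finrank_fin_fun] at h1
  have h3 := (finrank_range_le_card (R := F) e)
  rw [Set.finrank, Fintype.card_fin] at h3
  omega

/-- An orthogonal rational structure can be moved to the standard one. -/
theorem exists_real (hF : Fintype.card F = q ^ 2) (hq : q = 3 ∨ q = 5) {F₀ : Subfield F}
    (hF₀ : Fintype.card F = Nat.card F₀ ^ 2) {P : GL (Fin 3) F}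
    (hP : IsFormRationalStructure (hermForm 3 F q) F₀ 1 P) {H : Subgroup (GL (Fin 3) F)}
    (hle : H ≤ subfieldSubgroup F₀ P) :
    ∃ g ∈ GU 3 F q, ∀ s ∈ H.map (MulAut.conj g⁻¹).toMonoidHom, ∃ c : F, c ≠ 0 ∧
      ∀ i j, qConj hF (c * (s : Matrix (Fin 3) (Fin 3) F) i j) =
        c * (s : Matrix (Fin 3) (Fin 3) F) i j := by
  classical
  have hf := isUnitaryForm_hermForm hF 3
  have hq0 : Nat.card F₀ = q := by
    have := Nat.pow_left_injective two_ne_zero (show Nat.card F₀ ^ 2 = q ^ 2 by rw [← hF₀, hF])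
    exact this
  have memF₀ : ∀ {x : F}, x ∈ F₀ ↔ qConj hF x = x := fun {x} => by
    rw [qConj_apply hF]
    exact ⟨fun h => hq0 ▸ pow_card_of_mem h, fun h => mem_subfield_of_pow_card (hq0.symm ▸ h)⟩
  have hW : ∀ x y, InW hF P x → InW hF P y →
      qConj hF (hermForm 3 F q x y) = hermForm 3 F q x y := by
    rintro x y ⟨u, hu, rfl⟩ ⟨v, hv, rfl⟩
    have := memF₀.1 (hP u v (fun i => memF₀.2 (hu i)) (fun i => memF₀.2 (hv i)))
    rwa [one_mul] at this
  have hchar : q = 3 ∧ (3 : F) = 0 ∨ q = 5 ∧ (5 : F) = 0 := by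
    have h := FiniteField.cast_card_eq_zero F
    rw [hF] at h
    rcases hq with rfl | rfl <;> push_cast at h
    · exact Or.inl ⟨rfl, mul_self_eq_zero.1 (by linear_combination h)⟩
    · exact Or.inr ⟨rfl, mul_self_eq_zero.1 (by linear_combination h)⟩
  have hnorm : ∀ v : F, v ≠ 0 → qConj hF v = v →
      ∃ r : F, r ≠ 0 ∧ qConj hF r = r ∧ (r * r * v = 1 ∨ r * r * v = 2) := by
    intro v hv hσ
    rw [qConj_apply hF] at hσ
    rcases hchar with ⟨rfl, h3⟩ | ⟨rfl, h5⟩
    · refine ⟨1, one_ne_zero, map_one _, ?_⟩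
      have h1 : (v - 1) * (v + 1) = 0 := mul_left_cancel₀ hv (by linear_combination hσ)
      rcases mul_eq_zero.1 h1 with h | h
      · exact Or.inl (by linear_combination h)
      · exact Or.inr (by linear_combination h - h3)
    · have h1 : (v - 1) * (v + 1) * ((v - 2) * (v + 2)) = 0 :=
        mul_left_cancel₀ hv (by linear_combination hσ - (v ^ 3 - v) * h5)
      have h20 : (2 : F) ≠ 0 := fun h => one_ne_zero (α := F) (by linear_combination h5 - 2 * h)
      have h22 : qConj hF (2 : F) = 2 := map_ofNat _ 2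
      rcases mul_eq_zero.1 h1 with h1 | h1 <;> rcases mul_eq_zero.1 h1 with h | h
      · exact ⟨1, one_ne_zero, map_one _, Or.inl (by linear_combination h)⟩
      · exact ⟨2, h20, h22, Or.inl (by linear_combination 4 * h - h5)⟩
      · exact ⟨1, one_ne_zero, map_one _, Or.inr (by linear_combination h)⟩
      · exact ⟨2, h20, h22, Or.inr (by linear_combination 4 * h - 2 * h5)⟩
  have hstep : ∀ {m : ℕ}, m < 3 → ∀ e : Fin m → Fin 3 → F, (∀ k, InW hF P (e k)) →
      (∀ k, hermForm 3 F q (e k) (e k) ≠ 0) → (∀ k l, k ≠ l → hermForm 3 F q (e k) (e l) = 0) →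
      ∃ x, InW hF P x ∧ (∀ k, hermForm 3 F q x (e k) = 0) ∧
        (hermForm 3 F q x x = 1 ∨ hermForm 3 F q x x = 2) := by
    intro m hm e he hee heo
    obtain ⟨x, hx, hxe, hxx⟩ := exists_next hF hq hW hm e he hee heo
    obtain ⟨r, -, hr, hr'⟩ := hnorm _ hxx (herm_self_fixed hf x)
    refine ⟨r • x, hx.smul hr, fun k => by rw [hf.smul_left, hxe, mul_zero], ?_⟩
    rw [hf.smul_left, herm_smul_right hf, hr, ← mul_assoc]
    exact hr'
  have h12 : (1 : F) ≠ 0 ∧ (2 : F) ≠ 0 := ⟨one_ne_zero, by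
    rcases hchar with ⟨-, h3⟩ | ⟨-, h5⟩
    · exact fun h => one_ne_zero (α := F) (by linear_combination h3 - h)
    · exact fun h => one_ne_zero (α := F) (by linear_combination h5 - 2 * h)⟩
  have hne : ∀ t : F, t = 1 ∨ t = 2 → t ≠ 0 := by
    rintro t (rfl | rfl)
    exacts [h12.1, h12.2]
  obtain ⟨e0, he0, -, v0⟩ := hstep (m := 0) (by norm_num) Fin.elim0 (fun k => k.elim0) (fun k => k.elim0)
    (fun k => k.elim0)
  obtain ⟨e1, he1, h10', v1⟩ := hstep (m := 1) (by norm_num) (fun _ => e0) (fun _ => he0)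
    (fun _ => hne _ v0) (fun k l hkl => absurd (Subsingleton.elim k l) hkl)
  have h10 : hermForm 3 F q e1 e0 = 0 := h10' 0
  obtain ⟨e2, he2, h2', v2⟩ := hstep (m := 2) (by norm_num) ![e0, e1]
    (fun k => by fin_cases k <;> assumption) (fun k => by fin_cases k <;> simp <;> exact hne _ ‹_›)
    (fun k l hkl => by
      fin_cases k <;> fin_cases l
      · exact absurd rfl hkl
      · exact herm_eq_zero_comm hf h10
      · exact h10
      · exact absurd rfl hkl)
  have h20 : hermForm 3 F q e2 e0 = 0 := h2' 0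
  have h21 : hermForm 3 F q e2 e1 = 0 := h2' 1
  -- all three values equal
  have hcore : ∀ a b c : Fin 3 → F, InW hF P a → InW hF P b → InW hF P c →
      hermForm 3 F q b a = 0 → hermForm 3 F q c a = 0 → hermForm 3 F q c b = 0 →
      hermForm 3 F q a a = hermForm 3 F q b b →
      (hermForm 3 F q a a = 1 ∨ hermForm 3 F q a a = 2) →
      (hermForm 3 F q c c = 1 ∨ hermForm 3 F q c c = 2) →
      ∃ (e : Fin 3 → Fin 3 → F) (τ : F), τ ≠ 0 ∧ qConj hF τ = τ ∧ (∀ k, InW hF P (e k)) ∧
        ∀ k l, hermForm 3 F q (e k) (e l) = if k = l then τ else 0 := by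
    intro a b c ha hb hc hba hca hcb hab va vc
    by_cases hac : hermForm 3 F q c c = hermForm 3 F q a a
    · refine ⟨![a, b, c], _, hne _ va, herm_self_fixed hf a, fun k => by fin_cases k <;> assumption,
        fun k l => ?_⟩
      fin_cases k <;> fin_cases l <;>
        simp [hba, hca, hcb, ← hab, hac, herm_eq_zero_comm hf hba, herm_eq_zero_comm hf hca,
          herm_eq_zero_comm hf hcb]
    · obtain ⟨r, hr0, hr, hr'⟩ := hnorm (2 * hermForm 3 F q a a)
        (mul_ne_zero h12.2 (hne _ va)) (by rw [map_mul, map_ofNat, herm_self_fixed hf])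
      have hr2 : r * r * 2 ≠ 1 := by
        intro h
        have hσ := hr
        rw [qConj_apply hF] at hσ
        rcases hchar with ⟨rfl, h3⟩ | ⟨rfl, h5⟩
        · have h1 : r * r = 1 := mul_left_cancel₀ hr0 (by linear_combination hσ)
          exact one_ne_zero (α := F) (by linear_combination h - 2 * h1)
        · have h1 : r * r * (r * r) = 1 := mul_left_cancel₀ hr0 (by linear_combination hσ)
          have h3 : (3 : F) = 0 := by linear_combination (r * r * 2 + 1) * h - 4 * h1
          exact one_ne_zero (α := F) (by linear_combination 2 * h3 - h5)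
      set T := r * r * (2 * hermForm 3 F q a a) with hTdef
      have hTc : T = hermForm 3 F q c c := by
        have hTa : T ≠ hermForm 3 F q a a := fun h => hr2 (mul_right_cancel₀ (hne _ va) (by
          rw [one_mul, mul_assoc]; exact h))
        rcases hr' with h1 | h1 <;> rcases va with h2 | h2 <;> rcases vc with h3 | h3
        all_goals first
          | exact h1.trans h3.symm
          | exact absurd (h1.trans h2.symm) hTa
          | exact absurd (h3.trans h2.symm) hac
      refine ⟨![r • (a + b), r • (a + (-1 : F) • b), c], T, ?_, ?_, fun k => ?_, fun k l => ?_⟩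
      · exact mul_ne_zero (mul_ne_zero hr0 hr0) (mul_ne_zero h12.2 (hne _ va))
      · rw [hTc]; exact herm_self_fixed hf c
      · fin_cases k
        · exact (ha.add hb).smul hr
        · exact (ha.add (hb.smul (by rw [map_neg, map_one]))).smul hr
        · exact hc
      · fin_cases k <;> fin_cases l <;>
          simp only [Fin.zero_eta, Fin.mk_one, Fin.reduceFinMk, Matrix.cons_val_zero, Matrix.cons_val_one,
            Matrix.cons_val, Fin.isValue, hf.add_left, hf.smul_left, herm_add_right hf, herm_smul_right hf,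
            map_neg, map_one, hr] <;>
          simp [hf.add_left, hf.smul_left, herm_add_right hf, herm_smul_right hf, hba, hca, hcb,
            herm_eq_zero_comm hf hba, herm_eq_zero_comm hf hca, herm_eq_zero_comm hf hcb, ← hab, hr,
            ← hTc, hTdef] <;> ring
  obtain ⟨e, τ, hτ0, hτ, heW, hee⟩ : ∃ (e : Fin 3 → Fin 3 → F) (τ : F), τ ≠ 0 ∧ qConj hF τ = τ ∧
      (∀ k, InW hF P (e k)) ∧ ∀ k l, hermForm 3 F q (e k) (e l) = if k = l then τ else 0 := by
    by_cases h01 : hermForm 3 F q e0 e0 = hermForm 3 F q e1 e1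
    · exact hcore e0 e1 e2 he0 he1 he2 h10 h20 h21 h01 v0 v2
    by_cases h02 : hermForm 3 F q e0 e0 = hermForm 3 F q e2 e2
    · exact hcore e0 e2 e1 he0 he2 he1 h20 h10 (herm_eq_zero_comm hf h21) h02 v0 v1
    have h12' : hermForm 3 F q e1 e1 = hermForm 3 F q e2 e2 := by
      rcases v0 with a | a <;> rcases v1 with b | b <;> rcases v2 with c | c
      all_goals first
        | exact b.trans c.symm
        | exact absurd (a.trans b.symm) h01
        | exact absurd (a.trans c.symm) h02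
    exact hcore e1 e2 e0 he1 he2 he0 h21 (herm_eq_zero_comm hf h10) (herm_eq_zero_comm hf h20) h12' v1 v0
  obtain ⟨c₀, hc₀⟩ := exists_norm_eq hf (e := τ⁻¹) (by rw [map_inv₀, hτ])
  have hc₀0 : c₀ ≠ 0 := fun h => by rw [h, zero_mul] at hc₀; exact inv_ne_zero hτ0 hc₀.symm
  obtain ⟨g, hgU, hg⟩ := exists_GU_of_orth hF (d := fun k => c₀ • e k) fun k l => by
    rw [hf.smul_left, herm_smul_right hf, hee, ← mul_assoc, hc₀]
    split_ifs
    · rw [inv_mul_cancel₀ hτ0]
    · rw [mul_zero]
  choose u hu hue using heW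
  let U : Matrix (Fin 3) (Fin 3) F := fun r k => u k r
  have hgPU : (g : Matrix (Fin 3) (Fin 3) F) = c₀ • ((P : Matrix (Fin 3) (Fin 3) F) * U) :=
    Matrix.ext_of_mulVec_single fun k => by
      rw [hg, Matrix.smul_mulVec, ← Matrix.mulVec_mulVec, hue]
      congr 2
      funext r
      rw [Matrix.mulVec_single_one]; rfl
  let V : Matrix (Fin 3) (Fin 3) F :=
    c₀ • (((g⁻¹ : GL (Fin 3) F) : Matrix (Fin 3) (Fin 3) F) * (P : Matrix (Fin 3) (Fin 3) F))
  have hVU : V * U = 1 := by
    rw [Matrix.smul_mul, Matrix.mul_assoc, ← Matrix.mul_smul, ← hgPU, ← Units.val_mul,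
      inv_mul_cancel, Units.val_one]
  have hUσ : U.map (qConj hF) = U := Matrix.ext fun r k => hu k r
  have hVσ : V.map (qConj hF) = V := by
    have h1 : V.map (qConj hF) * U = 1 := by
      conv_lhs => rw [← hUσ]
      rw [← Matrix.map_mul, hVU, Matrix.map_one _ (map_zero _) (map_one _)]
    calc V.map (qConj hF) = V.map (qConj hF) * (U * V) := by
          rw [mul_eq_one_comm.1 hVU, mul_one]
      _ = _ := by rw [← Matrix.mul_assoc, h1, one_mul]
  refine ⟨g, hgU, ?_⟩
  rintro _ ⟨s, hs, rfl⟩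
  have hs' := hle hs
  have h1 : P⁻¹ * s * P ∈ subfieldSubgroup F₀ (1 : GL (Fin 3) F) := by
    rw [subfieldSubgroup, map_one]
    obtain ⟨y, hy, rfl⟩ := hs'
    refine ⟨y, hy, ?_⟩
    show y = P⁻¹ * (P * y * P⁻¹) * P
    group
  obtain ⟨c, hc, hR⟩ := (mem_subfieldSubgroup_one _).1 h1
  refine ⟨c, hc, ?_⟩
  have hconj : (MulAut.conj g⁻¹).toMonoidHom s = g⁻¹ * P * (P⁻¹ * s * P) * (P⁻¹ * g) := by
    show g⁻¹ * s * g⁻¹⁻¹ = _
    group
  set R := c • ((P⁻¹ * s * P : GL (Fin 3) F) : Matrix (Fin 3) (Fin 3) F) with hRdef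
  have hRσ : R.map (qConj hF) = R := Matrix.ext fun i j => memF₀.1 (hR i j)
  have hkey : c • (((MulAut.conj g⁻¹).toMonoidHom s : GL (Fin 3) F) : Matrix (Fin 3) (Fin 3) F) =
      V * R * U := by
    have hPg : ((P⁻¹ * g : GL (Fin 3) F) : Matrix (Fin 3) (Fin 3) F) = c₀ • U := by
      rw [Units.val_mul, hgPU, Matrix.mul_smul, ← Matrix.mul_assoc, ← Units.val_mul, inv_mul_cancel,
        Units.val_one, one_mul]
    rw [hconj, Units.val_mul, Units.val_mul, hPg]
    simp only [V, hRdef, Units.val_mul, Matrix.mul_smul, Matrix.smul_mul, smul_smul, mul_comm c]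
  intro i j
  have h := congrFun (congrFun hkey i) j
  simp only [Matrix.smul_apply, smul_eq_mul] at h
  rw [h]
  show (V * R * U).map (qConj hF) i j = _
  rw [Matrix.map_mul, Matrix.map_mul, hVσ, hRσ, hUσ]

theorem real_cols {P : Par} {hF : Fintype.card F = q ^ 2} {ε : F} (hV : Valid P hF ε)
    (hsurj : ∀ c : F, ∃ a < card2 P, c = dec P ε a) {reps : List ℕ} {lists : List (List (List ℕ))}
    (hl : (reps.map fun r => realCols P r) = lists)
    (hfix : ∀ a : Fin (card2 P), cjC P a = a → (a : ℕ) < P.p)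
    (hrep : ∀ a : Fin (card2 P), (a : ℕ) ≠ 0 → ∃ r ∈ reps, ∃ k : Fin P.p, (a : ℕ) = mulC P r k)
    {s : GL (Fin 3) F} (hs : s ∈ suGL 3 q F) {c : F} (hc : c ≠ 0)
    (hsc : ∀ i j, qConj hF (c * (s : Matrix (Fin 3) (Fin 3) F) i j) =
      c * (s : Matrix (Fin 3) (Fin 3) F) i j) :
    ∃ l ∈ lists, ∃ x ∈ l, ∃ y ∈ l, ∃ z ∈ l,
      (s : Matrix (Fin 3) (Fin 3) F) = decM P ε 3 (colsC x y z) ∧
      (∀ i j : Fin 3, mEnt (colsC x y z) i j < card2 P) ∧
      formC3 P x y = 0 ∧ formC3 P x z = 0 ∧ formC3 P y z = 0 := by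
  classical
  obtain ⟨a, ha, hca⟩ := hsurj c⁻¹
  have ha0 : a ≠ 0 := fun h0 => inv_ne_zero hc (by rw [hca, h0, dec_zero hV])
  obtain ⟨r, hr, k, hrk⟩ := hrep ⟨a, ha⟩ ha0
  choose b hb hbe using fun i j => hsurj (dec P ε k * (c * (s : Matrix (Fin 3) (Fin 3) F) i j))
  have hkσ : qConj hF (dec P ε k) = dec P ε k := by
    have : dec P ε k = ((k : ℕ) : F) := by simp [dec, Nat.div_eq_of_lt k.2]
    rw [this, map_natCast]
  have hblt : ∀ i j, b i j < P.p := fun i j => hfix ⟨_, hb i j⟩ (dec_inj hV (cjC_lt hV.prime.pos _)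
    (hb i j) (by rw [dec_cjC hV, ← hbe, map_mul, hkσ, hsc]))
  have hentry : ∀ i j, (s : Matrix (Fin 3) (Fin 3) F) i j = dec P ε (mulC P r (b i j)) := fun i j => by
    rw [dec_mulC hV, ← hbe, ← mul_assoc, ← dec_mulC hV, ← hrk, ← hca, ← mul_assoc,
      inv_mul_cancel₀ hc, one_mul]
  let col : Fin 3 → List ℕ := fun j => smulC P 3 r [b 0 j, b 1 j, b 2 j]
  have hcol : ∀ j, decV P ε 3 (col j) = (s : Matrix (Fin 3) (Fin 3) F) *ᵥ Pi.single j 1 := fun j => by
    funext i
    rw [Matrix.mulVec_single_one]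
    show _ = (s : Matrix (Fin 3) (Fin 3) F) i j
    rw [hentry]
    show dec P ε (ent (List.ofFn _) i) = _
    rw [ent_ofFn]
    fin_cases i <;> rfl
  have hform : ∀ j j', formC3 P (col j) (col j') = if j = j' then 1 else 0 := fun j j' => by
    have h1 : (1 : ℕ) < P.p * P.p :=
      Nat.one_lt_mul_iff.2 ⟨hV.prime.pos, hV.prime.pos, Or.inl hV.prime.one_lt⟩
    refine dec_inj hV (addC_lt hV.prime.pos _ _) (by split_ifs <;> omega) ?_
    rw [dec_formC3 hV, hcol, hcol,
      (show ∀ x y, hermForm 3 F q ((s : Matrix (Fin 3) (Fin 3) F) *ᵥ x) ((s : Matrix (Fin 3) (Fin 3) F) *ᵥ y) =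
        hermForm 3 F q x y from hs.1), apply_ite (dec P ε), dec_one hV, dec_zero hV,
      hermForm_eq_dot hF, single_dotProduct, one_mul]
    show qConj hF ((Pi.single j' (1 : F) : Fin 3 → F) j) = _
    rw [Pi.single_apply, apply_ite (qConj hF), map_one, map_zero]
  have hmem : ∀ j, col j ∈ realCols P r := fun j => by
    refine List.mem_filter.2 ⟨List.mem_map.2 ⟨b 0 j + P.p * b 1 j + P.p * P.p * b 2 j,
      List.mem_range.2 ?_, ?_⟩, by simp [hform]⟩
    · have := hblt 0 j; have := hblt 1 j; have := hblt 2 j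
      nlinarith
    · show smulC P 3 r _ = smulC P 3 r _
      congr 1
      exact ent_vec3 (x := [b 0 j, b 1 j, b 2 j]) fun i => by fin_cases i <;> exact hblt _ j
  refine ⟨realCols P r, hl ▸ List.mem_map_of_mem hr, col 0, hmem 0, col 1, hmem 1, col 2, hmem 2,
    Matrix.ext fun i j => ?_, fun i j => ?_, by simp [hform], by simp [hform], by simp [hform]⟩
  · obtain ⟨c0, c1, c2⟩ := mEnt_colsC (col 0) (col 1) (col 2) i
    have h := congrFun (hcol j) i
    rw [Matrix.mulVec_single_one] at h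
    show (s : Matrix (Fin 3) (Fin 3) F) i j = dec P ε (mEnt (colsC (col 0) (col 1) (col 2)) i j)
    fin_cases j
    · exact h.symm.trans (congrArg (dec P ε) c0.symm)
    · exact h.symm.trans (congrArg (dec P ε) c1.symm)
    · exact h.symm.trans (congrArg (dec P ε) c2.symm)
  · obtain ⟨c0, c1, c2⟩ := mEnt_colsC (col 0) (col 1) (col 2) i
    have hlt : ∀ j, ent (col j) i < card2 P := fun j => by
      show ent (smulC P 3 r _) i < _
      rw [smulC, ent_ofFn]; exact mulC_lt hV.prime.pos _ _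
    fin_cases j
    · exact c0.trans_lt (hlt 0)
    · exact c1.trans_lt (hlt 1)
    · exact c2.trans_lt (hlt 2)

theorem fix25 : ∀ a : Fin (card2 P25), cjC P25 a = a → (a : ℕ) < P25.p := by decide +kernel

theorem rep25 : ∀ a : Fin (card2 P25), (a : ℕ) ≠ 0 → ∃ r ∈ reps25, ∃ k : Fin P25.p,
    (a : ℕ) = mulC P25 r k := by decide +kernel

theorem fix9 : ∀ a : Fin (card2 P9'), cjC P9' a = a → (a : ℕ) < P9'.p := by decide +kernel

theorem rep9 : ∀ a : Fin (card2 P9'), (a : ℕ) ≠ 0 → ∃ r ∈ reps9, ∃ k : Fin P9'.p,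
    (a : ℕ) = mulC P9' r k := by decide +kernel

theorem false_of_real5 (hF : Fintype.card F = q ^ 2) (hq : q = 5) {H : Subgroup (GL (Fin 3) F)}
    (hH : IsMaximalIn (suGL 3 q F) H) {F₀ : Subfield F} (hF₀ : Fintype.card F = Nat.card F₀ ^ 2)
    {P : GL (Fin 3) F} (hP : IsFormRationalStructure (hermForm 3 F q) F₀ 1 P)
    (hle : H ≤ subfieldSubgroup F₀ P) : False := by
  classical
  obtain ⟨ε, hV, hsurj⟩ := exists_valid25 hF hq
  obtain ⟨g, hgU, hreal⟩ := exists_real hF (Or.inr hq) hF₀ hP hle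
  have hH' := isMaximalIn_conj hH (inv_mem hgU)
  have hgood := good_frame
  have hmask : maskOK P25 frameX = true := by
    simp only [goodX, Bool.and_eq_true] at hgood
    exact hgood.1.1.1.1.1.1.1.1.1
  refine false_of_code hV hsurj good_frame hH' (fun s hs => ?_) (fun s hs he => ?_)
  · obtain ⟨c, hc, hsc⟩ := hreal s hs
    obtain ⟨l, hl, x, hx, y, hy, z, hz, hsA, hlt, fxy, fxz, fyz⟩ :=
      real_cols hV hsurj check_realLists fix25 rep25 (hH'.1.le hs) hc hsc
    obtain ⟨i, hi, rfl⟩ := List.getElem_of_mem hl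
    have hchk := check_real5 i hi
    rw [List.getD_eq_getElem _ _ hi] at hchk
    simp only [checkTriples, List.all_eq_true, Bool.or_eq_true, bne_iff_ne] at hchk
    rw [hsA]
    refine keeps_of_group hV hmask group_real hlt ?_
    have h := ((hchk _ hx _ hy).resolve_left (fun h => h fxy)) _ hz
    rcases h with ((h | h) | h) | h
    · exact absurd fxz h
    · exact absurd fyz h
    · exact absurd (detC_eq_one hV (hH'.1.le hs) hsA) h
    · exact h
  · obtain ⟨c, hc, hsc⟩ := hreal s hs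
    obtain ⟨a, ha, hca⟩ := hsurj c⁻¹
    obtain ⟨r, hr, k, hrk⟩ := rep25 ⟨a, ha⟩ fun h0 =>
      inv_ne_zero hc (by rw [hca, show a = 0 from h0, dec_zero hV])
    choose b hb hbe using fun i => hsurj (dec P25 ε k * (c * (s : Matrix (Fin 3) (Fin 3) F) i 0))
    have hk : qConj hF (dec P25 ε k) = dec P25 ε k := by
      have : dec P25 ε k = ((k : ℕ) : F) := by simp [dec, Nat.div_eq_of_lt k.2]
      rw [this, map_natCast]
    have hblt : ∀ i, b i < 5 := fun i => fix25 ⟨_, hb i⟩ (dec_inj hV (cjC_lt hV.prime.pos _) (hb i)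
      (by rw [dec_cjC hV, ← hbe, map_mul, hk, hsc]))
    have hgr := check_real_g
    simp only [notRealC, List.all_eq_true, List.any_eq_true, List.mem_range, bne_iff_ne] at hgr
    obtain ⟨i, hi, hne⟩ := hgr r hr
    obtain ⟨i', rfl⟩ : ∃ i' : Fin 3, (i' : ℕ) = i := by
      simp only [List.mem_cons, List.not_mem_nil, or_false] at hi
      exact ⟨⟨i, by omega⟩, rfl⟩
    refine hne (b i') (hblt i') (dec_inj hV (mulC_lt hV.prime.pos _ _) ?_ ?_)
    · fin_cases i' <;> norm_num [frameX, mEnt, ent, P25]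
    rw [dec_mulC hV, ← hbe, ← mul_assoc, ← dec_mulC hV, ← hrk, ← hca, ← mul_assoc,
      inv_mul_cancel₀ hc, one_mul, he]
    rfl

theorem exists_frame_of_real3 (hF : Fintype.card F = q ^ 2) (hq : q = 3)
    {H : Subgroup (GL (Fin 3) F)} (hH : IsMaximalIn (suGL 3 q F) H) {F₀ : Subfield F}
    (hF₀ : Fintype.card F = Nat.card F₀ ^ 2) {P : GL (Fin 3) F}
    (hP : IsFormRationalStructure (hermForm 3 F q) F₀ 1 P) (hle : H ≤ subfieldSubgroup F₀ P) :
    ∃ D : Fin 3 → Submodule F (Fin 3 → F), IsNondegenerateMDecomposition (hermForm 3 F q) 1 D ∧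
      H = decompositionStabilizer D ⊓ suGL 3 q F := by
  classical
  have hf := isUnitaryForm_hermForm hF 3
  obtain ⟨ε, hV, hsurj⟩ := exists_valid9 hF hq
  obtain ⟨g, hgU, hreal⟩ := exists_real hF (Or.inl hq) hF₀ hP hle
  have hgiso : ∀ x y, hermForm 3 F q ((g : Matrix (Fin 3) (Fin 3) F) *ᵥ x)
      ((g : Matrix (Fin 3) (Fin 3) F) *ᵥ y) = hermForm 3 F q x y := hgU
  have hone : ∀ j k : Fin 3, hermForm 3 F q (Pi.single j (1 : F)) (Pi.single k 1) =
      if j = k then 1 else 0 := by
    intro j k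
    rw [hermForm_eq_dot hF, single_dotProduct, one_mul]
    show qConj hF ((Pi.single k (1 : F) : Fin 3 → F) j) = _
    rw [Pi.single_apply, apply_ite (qConj hF), map_one, map_zero]
  set v : Fin 3 → Fin 3 → F := fun i => (g : Matrix (Fin 3) (Fin 3) F) *ᵥ Pi.single i 1
  have hv : ∀ i j, hermForm 3 F q (v i) (v j) = if i = j then 1 else 0 := fun i j => by
    rw [hgiso, hone]
  have hv0 : ∀ i, v i ≠ 0 := fun i h => by simpa [h, herm_zero_left hf] using hv i i
  let D : Fin 3 → Submodule F (Fin 3 → F) := fun i => Submodule.span F {v i}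
  have hli : LinearIndependent F v := by
    rw [Fintype.linearIndependent_iff]
    intro c hc i
    have h : hermForm 3 F q (∑ j, c j • v j) (v i) = 0 := by rw [hc, herm_zero_left hf]
    rw [show hermForm 3 F q (∑ j, c j • v j) (v i) = hLin hf (v i) (∑ j, c j • v j) from rfl,
      map_sum] at h
    simpa [hLin, hf.smul_left, hv] using h
  have hD : IsNondegenerateMDecomposition (hermForm 3 F q) 1 D := by
    refine ⟨⟨by norm_num, one_pos, fun i => finrank_span_singleton (hv0 i),
      hli.iSupIndep_span_singleton, ?_⟩, fun i w hw hw0 => ?_, fun i j hij x hx y hy => ?_⟩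
    · show (⨆ i, Submodule.span F {v i}) = ⊤
      rw [← Submodule.span_range_eq_iSup]
      exact hli.span_eq_top_of_card_eq_finrank (by rw [Fintype.card_fin, Module.finrank_fin_fun])
    · obtain ⟨a, rfl⟩ := Submodule.mem_span_singleton.1 hw
      have ha : a ≠ 0 := fun h => hw0 (by rw [h, zero_smul])
      have ha' : qConj hF a ≠ 0 := fun h => ha (by simpa using congrArg (qConj hF) h)
      exact ⟨⟨v i, Submodule.mem_span_singleton_self _, by
          rw [herm_smul_right hf, hv, if_pos rfl, mul_one]; exact ha'⟩,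
        ⟨v i, Submodule.mem_span_singleton_self _, by
          rw [hf.smul_left, hv, if_pos rfl, mul_one]; exact ha⟩⟩
    · obtain ⟨a, rfl⟩ := Submodule.mem_span_singleton.1 hx
      obtain ⟨b, rfl⟩ := Submodule.mem_span_singleton.1 hy
      rw [hf.smul_left, herm_smul_right hf, hv, if_neg hij, mul_zero, mul_zero]
  refine ⟨D, hD, (((hH.2 _ (le_inf ?_ hH.1.le) inf_le_right)).resolve_right
    fun e => not_le_frame hF le_rfl (by omega) hD (inf_eq_right.1 e)).symm⟩
  intro s hs
  set s' := (MulAut.conj g⁻¹).toMonoidHom s with hs'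
  have hmem : s' ∈ H.map (MulAut.conj g⁻¹).toMonoidHom := Subgroup.mem_map_of_mem _ hs
  have hH' := isMaximalIn_conj hH (inv_mem hgU)
  obtain ⟨c, hc, hsc⟩ := hreal s' hmem
  obtain ⟨l, hl, x, hx, y, hy, z, hz, hsA, hlt, fxy, fxz, fyz⟩ :=
    real_cols hV hsurj check_realLists9 fix9 rep9 (hH'.1.le hmem) hc hsc
  have hchk := check_real3
  simp only [checkTriples, List.all_eq_true, Bool.or_eq_true, bne_iff_ne] at hchk
  have hmono : isMonoC (colsC x y z) = true := by
    have h := ((hchk l hl _ hx _ hy).resolve_left (fun h => h fxy)) _ hz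
    rcases h with ((h | h) | h) | h
    · exact absurd fxz h
    · exact absurd fyz h
    · exact absurd (detC_eq_one hV (hH'.1.le hmem) hsA) h
    · exact h
  have hcol : ∀ j : Fin 3, ∃ (i : Fin 3) (a : F),
      (s' : Matrix (Fin 3) (Fin 3) F) *ᵥ Pi.single j 1 = a • Pi.single i 1 := by
    intro j
    simp only [isMonoC, List.all_eq_true, beq_iff_eq, List.length_eq_one_iff] at hmono
    obtain ⟨i, hi⟩ := hmono j (by fin_cases j <;> simp)
    have hi' : i ∈ [0, 1, 2] := (List.mem_filter.1 (hi ▸ List.mem_singleton_self i)).1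
    simp only [List.mem_cons, List.not_mem_nil, or_false] at hi'
    refine ⟨⟨i, by omega⟩, dec P9' ε (mEnt (colsC x y z) i j), funext fun k => ?_⟩
    rw [Matrix.mulVec_single_one, Pi.smul_apply, Pi.single_apply]
    show (s' : Matrix (Fin 3) (Fin 3) F) k j = _
    rw [hsA]
    show dec P9' ε (mEnt (colsC x y z) k j) = _
    rcases eq_or_ne k ⟨i, by omega⟩ with rfl | hk
    · simp
    · rw [if_neg hk, smul_zero]
      by_contra hne
      have h0 : mEnt (colsC x y z) k j ≠ 0 := fun h => hne (by rw [h, dec_zero hV])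
      have : (k : ℕ) ∈ [i] := hi ▸ List.mem_filter.2 ⟨by fin_cases k <;> simp, by simpa using h0⟩
      exact hk (Fin.ext (by simpa using this))
  choose π a hπ using hcol
  have hsv : ∀ j, (s : Matrix (Fin 3) (Fin 3) F) *ᵥ v j = a j • v (π j) := by
    intro j
    have hs2 : s * g = g * s' := by rw [hs']; simp [mul_assoc]
    show (s : Matrix (Fin 3) (Fin 3) F) *ᵥ ((g : Matrix (Fin 3) (Fin 3) F) *ᵥ Pi.single j 1) = _
    rw [Matrix.mulVec_mulVec, ← Units.val_mul, hs2, Units.val_mul, ← Matrix.mulVec_mulVec, hπ,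
      Matrix.mulVec_smul]
  have ha : ∀ j, a j ≠ 0 := fun j h0 => hv0 j (by
    have h := hsv j
    rw [h0, zero_smul] at h
    simpa [inv_mulVec_mulVec] using
      congrArg (((s⁻¹ : GL (Fin 3) F) : Matrix (Fin 3) (Fin 3) F) *ᵥ ·) h)
  have hπi : Function.Injective π := fun j k hjk => by
    by_contra hne
    have hiso : hermForm 3 F q ((s : Matrix (Fin 3) (Fin 3) F) *ᵥ v j)
        ((s : Matrix (Fin 3) (Fin 3) F) *ᵥ v k) = hermForm 3 F q (v j) (v k) := (hH.1.le hs).1 _ _
    rw [hsv, hsv, hf.smul_left, herm_smul_right hf, hv, hv, hjk, if_pos rfl, if_neg hne, mul_one,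
      mul_eq_zero] at hiso
    rcases hiso with h | h
    · exact ha j h
    · exact ha k (by simpa using congrArg (qConj hF) h)
  refine ⟨Equiv.ofBijective π (Finite.injective_iff_bijective.1 hπi), fun j => ?_⟩
  show (Submodule.span F {v j}).map _ = Submodule.span F {v (π j)}
  rw [map_line, hsv, Submodule.span_singleton_smul_eq (isUnit_iff_ne_zero.2 (ha j))]

end CfsgLib.AschU.SUThree
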