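import Cfsg.Agent.Lib.AschU.SUThreeCore
import Cfsg.Agent.Lib.AschU.List

/-!
The normaliser of an extraspecial group of order 27 is not maximal in `SU_3(5)`.
-/

set_option autoImplicit false
set_option linter.unusedSectionVars false

namespace CfsgLib.AschU.SUThree

open Cfsg Cfsg.Geo CfsgLib.MaxSub CfsgLib.AschU.Code Matrix
open scoped MatrixGroups

variable {F : Type*} [Field F] [Fintype F] {q : ℕ}

def scalC : CMat := [[w25, 0, 0], [0, w25, 0], [0, 0, w25]]

theorem check_rC_gen : ∀ r ∈ rC, ∃ i j k : Fin 3,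
    r = mulM3 P25 (powM3 P25 scalC i) (mulM3 P25 (powM3 P25 xC j) (powM3 P25 yC k)) := by
  decide +kernel

theorem check_rC_distinct : (rC.map (codeM P25)).Nodup ∧ rC.length = 27 := by decide +kernel

theorem check_rC_bound : ∀ r ∈ rC, ∀ i j : Fin 3, mEnt r i j < card2 P25 := by decide +kernel

def isDiagC (r : CMat) : Prop :=
  mEnt r 0 1 = 0 ∧ mEnt r 0 2 = 0 ∧ mEnt r 1 0 = 0 ∧ mEnt r 1 2 = 0 ∧ mEnt r 2 0 = 0 ∧ mEnt r 2 1 = 0

theorem check_rC_shape : ∀ r ∈ rC,
    (mEnt r 0 1 = 0 ∧ mEnt r 0 2 = 0 ∧ mEnt r 1 0 = 0 ∧ mEnt r 1 2 = 0 ∧ mEnt r 2 0 = 0 ∧ mEnt r 2 1 = 0 ∧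
      ((mEnt r 0 0 = mEnt r 1 1 ∧ mEnt r 1 1 = mEnt r 2 2) ∨
        (mEnt r 0 0 ≠ mEnt r 1 1 ∧ mEnt r 1 1 ≠ mEnt r 2 2 ∧ mEnt r 0 0 ≠ mEnt r 2 2))) ∨
    (mEnt r 0 0 = 0 ∧ mEnt r 0 2 = 0 ∧ mEnt r 1 1 = 0 ∧ mEnt r 1 0 = 0 ∧ mEnt r 2 1 = 0 ∧ mEnt r 2 2 = 0 ∧
      mulC P25 (mEnt r 0 1) (mulC P25 (mEnt r 0 1) (mEnt r 0 1)) = 1 ∧
      mulC P25 (mEnt r 1 2) (mulC P25 (mEnt r 1 2) (mEnt r 1 2)) = 1) ∨
    (mEnt r 0 0 = 0 ∧ mEnt r 0 1 = 0 ∧ mEnt r 1 1 = 0 ∧ mEnt r 1 2 = 0 ∧ mEnt r 2 0 = 0 ∧ mEnt r 2 2 = 0 ∧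
      mulC P25 (mEnt r 1 0) (mulC P25 (mEnt r 1 0) (mEnt r 1 0)) = 1 ∧
      mulC P25 (mEnt r 2 1) (mulC P25 (mEnt r 2 1) (mEnt r 2 1)) = 1) := by
  decide +kernel

set_option maxHeartbeats 800000 in
theorem false_of_symp5 (hF : Fintype.card F = q ^ 2) (hq : q = 5) {H : Subgroup (GL (Fin 3) F)}
    (hH : IsMaximalIn (suGL 3 q F) H) {R : Subgroup (GL (Fin 3) F)}
    (hR : IsSymplecticTypeGroup 3 R) (habs : ActsAbsolutelyIrreducibly (matrixSet R))
    (hsim : R ≤ similarityGroup (hermForm 3 F q)) (hcard : Nat.card R = 27)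
    (hcZ : Nat.card (Subgroup.center R) = 3) (hle : H ≤ subgroupNormalizer R) : False := by
  classical
  obtain ⟨ε, hV, hsurj⟩ := exists_valid25 hF hq
  have hf := isUnitaryForm_hermForm hF 3
  have h5 : (5 : F) = 0 := by have := hV.char0; simpa [P25] using this
  have h3 : (3 : F) ≠ 0 := fun h => one_ne_zero (α := F) (by linear_combination 2 * h - h5)
  have hexp : ∀ x ∈ R, x ^ 3 = 1 := fun x hx => by
    have h1 := Monoid.pow_exponent_eq_one (⟨x, hx⟩ : R)
    rw [hR.exponent_eq] at h1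
    exact congrArg Subtype.val h1
  have hRU := le_GU_of_exponent hF (by norm_num) hsim (by decide) (by rw [hq]; norm_num) hexp
  -- two elements with a scalar commutator
  obtain ⟨x, hx, y, hy, ω, hω1, hω3, hxy⟩ : ∃ x ∈ R, ∃ y ∈ R, ∃ ω : F, ω ≠ 1 ∧ ω ^ 3 = 1 ∧
      (x : Matrix (Fin 3) (Fin 3) F) * (y : Matrix (Fin 3) (Fin 3) F) =
        ω • ((y : Matrix (Fin 3) (Fin 3) F) * (x : Matrix (Fin 3) (Fin 3) F)) := by
    obtain ⟨a, b, hab⟩ : ∃ a b : R, a * b ≠ b * a := by
      by_contra h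
      push Not at h
      have : Subgroup.center R = ⊤ := eq_top_iff.2 fun a _ => Subgroup.mem_center_iff.2 fun b => h b a
      rw [this, Subgroup.card_top, hcard] at hcZ
      norm_num at hcZ
    set c : R := a * b * a⁻¹ * b⁻¹ with hc
    have hcc : c ∈ Subgroup.center R := by
      haveI : Fact (Nat.Prime 3) := ⟨Nat.prime_three⟩
      have hq9 : Nat.card (R ⧸ Subgroup.center R) = 3 ^ 2 := by
        have h := Subgroup.card_eq_card_quotient_mul_card_subgroup (Subgroup.center R)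
        rw [hcard, hcZ] at h
        omega
      have hcomm := IsPGroup.commutative_of_card_eq_prime_sq hq9
      rw [← QuotientGroup.eq_one_iff]
      rw [hc, QuotientGroup.mk_mul, QuotientGroup.mk_mul, QuotientGroup.mk_mul, QuotientGroup.mk_inv,
        QuotientGroup.mk_inv, hcomm (a : R ⧸ Subgroup.center R) b]
      group
    obtain ⟨ω, hω⟩ := habs.2 ((c : GL (Fin 3) F) : Matrix (Fin 3) (Fin 3) F) (by
      rintro _ ⟨s, hs, rfl⟩
      have h := congrArg Subtype.val ((Subgroup.mem_center_iff.1 hcc) ⟨s, hs⟩)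
      rw [← Units.val_mul, ← Units.val_mul]
      exact congrArg Units.val h.symm)
    refine ⟨a, a.2, b, b.2, ω, ?_, ?_, ?_⟩
    · rintro rfl
      rw [one_smul] at hω
      refine hab ?_
      have h1 : c = 1 := Subtype.ext (Units.ext hω)
      have h2 : c * (b * a) = a * b := by rw [hc]; group
      rw [← h2, h1, one_mul]
    · have h := congrArg Units.val (hexp (c : GL (Fin 3) F) c.2)
      rw [Units.val_pow_eq_pow_val, hω, smul_pow, one_pow, Units.val_one] at h
      simpa using congrFun (congrFun h 0) 0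
    · have h2 : c * (b * a) = a * b := by rw [hc]; group
      have h := congrArg (fun u : R => ((u : GL (Fin 3) F) : Matrix (Fin 3) (Fin 3) F)) h2
      simp only [Subgroup.coe_mul, Units.val_mul, hω, Matrix.smul_mul, one_mul] at h
      exact h.symm
  have hω2 : ω * ω + ω + 1 = 0 := (mul_eq_zero.1 (show (ω - 1) * (ω * ω + ω + 1) = 0 by
    linear_combination hω3)).resolve_left (sub_ne_zero.2 hω1)
  -- normalise the root
  set a7 := dec P25 ε w25 with ha7
  have ha3 : a7 * (a7 * a7) = 1 := by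
    rw [← dec_mulC hV, ← dec_mulC hV, show mulC P25 w25 (mulC P25 w25 w25) = 1 by decide +kernel,
      dec_one hV]
  have ha1 : a7 ≠ 1 := fun h => by
    have := dec_inj hV (a := w25) (b := 1) (by norm_num [w25, P25]) (by norm_num [P25])
      (h.trans (dec_one hV).symm)
    norm_num [w25] at this
  have ha2 : a7 * a7 + a7 + 1 = 0 := (mul_eq_zero.1 (show (a7 - 1) * (a7 * a7 + a7 + 1) = 0 by
    linear_combination ha3)).resolve_left (sub_ne_zero.2 ha1)
  obtain ⟨y, hy, hxy⟩ : ∃ y ∈ R, (x : Matrix (Fin 3) (Fin 3) F) * (y : Matrix (Fin 3) (Fin 3) F) =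
      a7 • ((y : Matrix (Fin 3) (Fin 3) F) * (x : Matrix (Fin 3) (Fin 3) F)) := by
    rcases mul_eq_zero.1 (show (ω - a7) * (ω + a7 + 1) = 0 by linear_combination hω2 - ha2) with h | h
    · exact ⟨y, hy, by rw [← sub_eq_zero.1 h]; exact hxy⟩
    · refine ⟨y * y, R.mul_mem hy hy, ?_⟩
      rw [Units.val_mul, ← Matrix.mul_assoc, hxy, Matrix.smul_mul, Matrix.mul_assoc, hxy, Matrix.mul_smul,
        smul_smul, Matrix.mul_assoc]
      congr 1
      linear_combination (ω - a7 - 1) * h + ha2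
  have ha7σ : qConj hF a7 * a7 = 1 := by
    rw [qConj_apply hF, hq]; linear_combination (a7 * (a7 * a7) + 1) * ha3
  have hiso : ∀ g ∈ R, ∀ u v, hermForm 3 F q ((g : Matrix (Fin 3) (Fin 3) F) *ᵥ u)
      ((g : Matrix (Fin 3) (Fin 3) F) *ᵥ v) = hermForm 3 F q u v := fun g hg => hRU hg
  have hcube : ∀ g ∈ R, ∀ u : Fin 3 → F, (g : Matrix (Fin 3) (Fin 3) F) *ᵥ
      ((g : Matrix (Fin 3) (Fin 3) F) *ᵥ ((g : Matrix (Fin 3) (Fin 3) F) *ᵥ u)) = u := by
    intro g hg u
    rw [Matrix.mulVec_mulVec, Matrix.mulVec_mulVec, ← Units.val_mul, ← Units.val_mul,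
      show g * g * g = g ^ 3 by rw [pow_succ, sq], hexp g hg, Units.val_one,
      Matrix.one_mulVec]
  -- an eigenvector
  obtain ⟨w, hw0, lam, hlam, hxw⟩ : ∃ w : Fin 3 → F, w ≠ 0 ∧ ∃ lam : F, lam ^ 3 = 1 ∧
      (x : Matrix (Fin 3) (Fin 3) F) *ᵥ w = lam • w := by
    set X := (x : Matrix (Fin 3) (Fin 3) F)
    set e : Fin 3 → F := Pi.single 0 1
    have key : ∀ lam : F, lam ^ 3 = 1 →
        X *ᵥ (e + (lam * lam) • (X *ᵥ e) + lam • (X *ᵥ (X *ᵥ e))) =
          lam • (e + (lam * lam) • (X *ᵥ e) + lam • (X *ᵥ (X *ᵥ e))) := by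
      intro lam hl
      rw [Matrix.mulVec_add, Matrix.mulVec_add, Matrix.mulVec_smul, Matrix.mulVec_smul, hcube x hx]
      simp only [smul_add, smul_smul, show lam * (lam * lam) = 1 by rw [← hl]; ring, one_smul]
      abel
    by_contra hall
    push Not at hall
    have h0 : ∀ lam : F, lam ^ 3 = 1 → e + (lam * lam) • (X *ᵥ e) + lam • (X *ᵥ (X *ᵥ e)) = 0 :=
      fun lam hl => by
        by_contra hne
        exact hall _ hne lam hl (key lam hl)
    have hsum := congrArg₂ (· + ·) (congrArg₂ (· + ·) (h0 1 (one_pow 3)) (h0 ω hω3))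
      (h0 (ω * ω) (by rw [mul_pow, hω3, one_mul]))
    have hv : (3 : F) • e = 0 := by
      funext i
      have h := congrFun hsum i
      simp only [Pi.add_apply, Pi.smul_apply, smul_eq_mul, Pi.zero_apply, add_zero] at h ⊢
      linear_combination h - (X *ᵥ e) i * ((1 + ω) * hω2 + (ω - 1) * hω3 - ω * hω2) -
        (X *ᵥ (X *ᵥ e)) i * hω2 - (X *ᵥ e) i * hω3
    have := congrFun hv 0
    simp [e, h3] at this
  obtain ⟨x, hx, hxy, hxw⟩ : ∃ x' ∈ R, (x' : Matrix (Fin 3) (Fin 3) F) * (y : Matrix (Fin 3) (Fin 3) F) =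
      a7 • ((y : Matrix (Fin 3) (Fin 3) F) * (x' : Matrix (Fin 3) (Fin 3) F)) ∧
      (x' : Matrix (Fin 3) (Fin 3) F) *ᵥ w = w := by
    set z : GL (Fin 3) F := x * y * x⁻¹ * y⁻¹ with hz
    have hzR : z ∈ R := R.mul_mem (R.mul_mem (R.mul_mem hx hy) (R.inv_mem hx)) (R.inv_mem hy)
    have hzv : (z : Matrix (Fin 3) (Fin 3) F) = a7 • 1 := by
      rw [hz, Units.val_mul, Units.val_mul, Units.val_mul, hxy, Matrix.smul_mul, Matrix.smul_mul]
      congr 1
      rw [← Units.val_mul, ← Units.val_mul, ← Units.val_mul,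
        show y * x * x⁻¹ * y⁻¹ = 1 by group, Units.val_one]
    have hpick : lam = 1 ∨ lam = a7 ∨ lam = a7 * a7 := by
      have h : (lam - 1) * ((lam - a7) * (lam - a7 * a7)) = 0 := by
        linear_combination hlam + (lam - lam * lam) * ha2 + (lam - 1) * ha3
      rcases mul_eq_zero.1 h with h | h
      · exact Or.inl (sub_eq_zero.1 h)
      rcases mul_eq_zero.1 h with h | h
      · exact Or.inr (Or.inl (sub_eq_zero.1 h))
      · exact Or.inr (Or.inr (sub_eq_zero.1 h))
    obtain ⟨k, hk⟩ : ∃ k : ℕ, a7 ^ k * lam = 1 := by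
      rcases hpick with rfl | rfl | rfl
      · exact ⟨0, by simp⟩
      · exact ⟨2, by linear_combination ha3⟩
      · exact ⟨1, by linear_combination ha3⟩
    refine ⟨z ^ k * x, R.mul_mem (R.pow_mem hzR k) hx, ?_, ?_⟩
    · rw [Units.val_mul, Units.val_pow_eq_pow_val, hzv, smul_pow, one_pow, Matrix.smul_mul, one_mul,
        Matrix.smul_mul, hxy, Matrix.mul_smul, smul_smul, smul_smul, mul_comm]
    · rw [Units.val_mul, Units.val_pow_eq_pow_val, hzv, smul_pow, one_pow, Matrix.smul_mul, one_mul,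
        Matrix.smul_mulVec, hxw, smul_smul, hk, one_smul]
  set X := (x : Matrix (Fin 3) (Fin 3) F) with hXdef
  set Y := (y : Matrix (Fin 3) (Fin 3) F) with hYdef
  have hxyv : ∀ u, X *ᵥ (Y *ᵥ u) = a7 • (Y *ᵥ (X *ᵥ u)) := fun u => by
    rw [Matrix.mulVec_mulVec, hxy, Matrix.smul_mulVec, Matrix.mulVec_mulVec]
  have e1 : X *ᵥ (Y *ᵥ w) = a7 • (Y *ᵥ w) := by rw [hxyv, hxw]
  have e2 : X *ᵥ (Y *ᵥ (Y *ᵥ w)) = (a7 * a7) • (Y *ᵥ (Y *ᵥ w)) := by
    rw [hxyv, e1, Matrix.mulVec_smul, smul_smul]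
  have hperp : ∀ (u v : Fin 3 → F) (α β : F), X *ᵥ u = α • u → X *ᵥ v = β • v →
      α * qConj hF β ≠ 1 → hermForm 3 F q u v = 0 := by
    intro u v α β hu hv hne
    have h := hiso x hx u v
    rw [← hXdef, hu, hv, hf.smul_left, herm_smul_right hf, ← mul_assoc] at h
    exact (mul_eq_zero.1 (show (α * qConj hF β - 1) * hermForm 3 F q u v = 0 by
      linear_combination h)).resolve_left (sub_ne_zero.2 hne)
  have hσa : qConj hF a7 = a7 * a7 := by linear_combination a7 * a7 * ha7σ - qConj hF a7 * ha3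
  have hsqne : a7 * a7 ≠ 1 := fun h => ha1 (by linear_combination ha3 - a7 * h)
  have f01 : hermForm 3 F q w (Y *ᵥ w) = 0 := hperp _ _ 1 a7 (by rw [hxw, one_smul]) e1
    (by rw [one_mul, hσa]; exact hsqne)
  have f02 : hermForm 3 F q w (Y *ᵥ (Y *ᵥ w)) = 0 := hperp _ _ 1 _ (by rw [hxw, one_smul]) e2
    (by rw [one_mul, map_mul, hσa]; intro h; exact ha1 (by linear_combination h - a7 * ha3))
  have hww : hermForm 3 F q w w ≠ 0 := by
    intro h0
    obtain ⟨-, ⟨u, hu⟩⟩ := hf.nondegenerate w hw0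
    refine hu ?_
    have hli : LinearIndependent F ![w, Y *ᵥ w, Y *ᵥ (Y *ᵥ w)] := by
      rw [Fintype.linearIndependent_iff]
      intro c hc
      rw [Fin.sum_univ_three] at hc
      simp only [Matrix.cons_val_zero, Matrix.cons_val_one, Matrix.cons_val, Fin.isValue] at hc
      have hc1 := congrArg (X *ᵥ ·) hc
      simp only [Matrix.mulVec_add, Matrix.mulVec_smul, hxw, e1, e2, smul_smul, Matrix.mulVec_zero] at hc1
      have hc2 := congrArg (X *ᵥ ·) hc1
      simp only [Matrix.mulVec_add, Matrix.mulVec_smul, hxw, e1, e2, smul_smul, Matrix.mulVec_zero] at hc2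
      have hy0 : ∀ {u : Fin 3 → F}, Y *ᵥ u = 0 → u = 0 := fun {u} h => by
        rw [← hcube y hy u, ← hYdef, h, Matrix.mulVec_zero, Matrix.mulVec_zero]
      have r0 : (3 * c 0) • w = 0 := by
        funext i
        have h0 := congrFun hc i; have h1 := congrFun hc1 i; have h2 := congrFun hc2 i
        simp only [Pi.add_apply, Pi.smul_apply, smul_eq_mul, Pi.zero_apply] at h0 h1 h2 ⊢
        linear_combination h0 + h1 + h2 - c 1 * (Y *ᵥ w) i * ha2 -
          c 2 * (Y *ᵥ (Y *ᵥ w)) i * (ha2 + a7 * ha3)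
      have r1 : (3 * c 1) • (Y *ᵥ w) = 0 := by
        funext i
        have h0 := congrFun hc i; have h1 := congrFun hc1 i; have h2 := congrFun hc2 i
        simp only [Pi.add_apply, Pi.smul_apply, smul_eq_mul, Pi.zero_apply] at h0 h1 h2 ⊢
        linear_combination h0 + (a7 * a7) * h1 + a7 * h2 - c 0 * w i * ha2 -
          c 1 * (Y *ᵥ w) i * (2 * ha3) - c 2 * (Y *ᵥ (Y *ᵥ w)) i * (ha2 + (a7 + a7 * a7) * ha3)
      have r2 : (3 * c 2) • (Y *ᵥ (Y *ᵥ w)) = 0 := by
        funext i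
        have h0 := congrFun hc i; have h1 := congrFun hc1 i; have h2 := congrFun hc2 i
        simp only [Pi.add_apply, Pi.smul_apply, smul_eq_mul, Pi.zero_apply] at h0 h1 h2 ⊢
        linear_combination h0 + a7 * h1 + (a7 * a7) * h2 - c 0 * w i * ha2 -
          c 1 * (Y *ᵥ w) i * (ha2 + a7 * ha3) -
          c 2 * (Y *ᵥ (Y *ᵥ w)) i * ((2 + a7 * (a7 * a7)) * ha3)
      intro i
      fin_cases i
      · exact (mul_eq_zero.1 ((smul_eq_zero.1 r0).resolve_right hw0)).resolve_left h3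
      · exact (mul_eq_zero.1 ((smul_eq_zero.1 r1).resolve_right fun h => hw0 (hy0 h))).resolve_left h3
      · exact (mul_eq_zero.1 ((smul_eq_zero.1 r2).resolve_right
          fun h => hw0 (hy0 (hy0 h)))).resolve_left h3
    have htop := hli.span_eq_top_of_card_eq_finrank (by rw [Fintype.card_fin, Module.finrank_fin_fun])
    obtain ⟨c, hc⟩ := (Submodule.mem_span_range_iff_exists_fun F).1 (htop.ge (Submodule.mem_top (x := u)))
    refine herm_eq_zero_comm hf ?_
    rw [← hc, Fin.sum_univ_three]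
    simp [-Matrix.mulVec_mulVec, hf.add_left, hf.smul_left, h0, herm_eq_zero_comm hf f01, herm_eq_zero_comm hf f02]
  obtain ⟨tt, htt⟩ := exists_norm_eq hf (e := (hermForm 3 F q w w)⁻¹)
    (by rw [map_inv₀, herm_self_fixed hf])
  set d : Fin 3 → Fin 3 → F := ![tt • w, tt • (Y *ᵥ w), tt • (Y *ᵥ (Y *ᵥ w))]
  obtain ⟨g, hgU, hg⟩ := exists_GU_of_orth hF (d := d) fun i j => by
    have f11 : hermForm 3 F q (Y *ᵥ w) (Y *ᵥ w) = hermForm 3 F q w w := hiso y hy _ _
    have f22 : hermForm 3 F q (Y *ᵥ (Y *ᵥ w)) (Y *ᵥ (Y *ᵥ w)) = hermForm 3 F q w w :=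
      (hiso y hy _ _).trans f11
    have f12 : hermForm 3 F q (Y *ᵥ w) (Y *ᵥ (Y *ᵥ w)) = 0 := (hiso y hy _ _).trans f01
    have hn : tt * (qConj hF tt * hermForm 3 F q w w) = 1 := by
      rw [← mul_assoc, htt, inv_mul_cancel₀ hww]
    fin_cases i <;> fin_cases j <;>
      simp [-Matrix.mulVec_mulVec, d, hf.smul_left, herm_smul_right hf, f11, f22, f12, f01, f02, herm_eq_zero_comm hf f12,
        herm_eq_zero_comm hf f01, herm_eq_zero_comm hf f02, hn]
  have hgval : ∀ (h : GL (Fin 3) F) (i : Fin 3) (v : Fin 3 → F),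
      (h : Matrix (Fin 3) (Fin 3) F) *ᵥ d i = (g : Matrix (Fin 3) (Fin 3) F) *ᵥ v →
      ((g⁻¹ * h * g : GL (Fin 3) F) : Matrix (Fin 3) (Fin 3) F) *ᵥ Pi.single i 1 = v := by
    intro h i v hv
    rw [Units.val_mul, Units.val_mul, ← Matrix.mulVec_mulVec, ← Matrix.mulVec_mulVec, hg, hv,
      inv_mulVec_mulVec]
  set R' := R.map (MulAut.conj g⁻¹).toMonoidHom with hR'
  have hconj : ∀ h, (MulAut.conj g⁻¹).toMonoidHom h = g⁻¹ * h * g := fun h => by simp
  obtain ⟨Xg, hXR, hXc⟩ : ∃ Xg ∈ R', (Xg : Matrix (Fin 3) (Fin 3) F) = decM P25 ε 3 xC := by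
    refine ⟨_, Subgroup.mem_map_of_mem _ hx, Matrix.ext_of_mulVec_single fun i => ?_⟩
    rw [hconj, hgval x i ((![1, a7, a7 * a7] : Fin 3 → F) i • Pi.single i 1) ?_]
    · funext r
      rw [Matrix.mulVec_single_one]
      show _ = dec P25 ε (mEnt xC r i)
      fin_cases i <;> fin_cases r <;>
        simp [xC, mEnt, ent, dec_zero hV, dec_one hV, dec_mulC hV, ha7]
    · rw [Matrix.mulVec_smul, hg, ← hXdef]
      fin_cases i <;> simp [-Matrix.mulVec_mulVec, d, Matrix.mulVec_smul, hxw, e1, e2, smul_smul, mul_comm tt]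
  obtain ⟨Yg, hYR, hYc⟩ : ∃ Yg ∈ R', (Yg : Matrix (Fin 3) (Fin 3) F) = decM P25 ε 3 yC := by
    refine ⟨_, Subgroup.mem_map_of_mem _ hy, Matrix.ext_of_mulVec_single fun i => ?_⟩
    rw [hconj, hgval y i (Pi.single (i + 1) 1) ?_]
    · funext r
      rw [Matrix.mulVec_single_one]
      show _ = dec P25 ε (mEnt yC r i)
      fin_cases i <;> fin_cases r <;> simp [yC, mEnt, ent, dec_zero hV, dec_one hV]
    · rw [hg, ← hYdef]
      fin_cases i <;> simp [-Matrix.mulVec_mulVec, d, Matrix.mulVec_smul, hcube y hy, hYdef]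
  obtain ⟨Zg, hZR, hZc⟩ : ∃ Zg ∈ R', (Zg : Matrix (Fin 3) (Fin 3) F) = decM P25 ε 3 scalC := by
    refine ⟨Xg * Yg * Xg⁻¹ * Yg⁻¹, R'.mul_mem (R'.mul_mem (R'.mul_mem hXR hYR) (R'.inv_mem hXR))
      (R'.inv_mem hYR), ?_⟩
    have h : (Xg : Matrix (Fin 3) (Fin 3) F) * Yg = a7 • ((Yg : Matrix (Fin 3) (Fin 3) F) * Xg) := by
      rw [hXc, hYc, ← decM_mulM3 hV, ← decM_mulM3 hV]
      ext i j
      show dec P25 ε (mEnt (mulM3 P25 xC yC) i j) = a7 * dec P25 ε (mEnt (mulM3 P25 yC xC) i j)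
      rw [ha7, ← dec_mulC hV]
      congr 1
      revert i j
      decide +kernel
    rw [Units.val_mul, Units.val_mul, Units.val_mul, h, Matrix.smul_mul, Matrix.smul_mul,
      ← Units.val_mul, ← Units.val_mul, ← Units.val_mul,
      show Yg * Xg * Xg⁻¹ * Yg⁻¹ = 1 by group, Units.val_one]
    ext i j
    show a7 * (1 : Matrix (Fin 3) (Fin 3) F) i j = dec P25 ε (mEnt scalC i j)
    fin_cases i <;> fin_cases j <;> simp [scalC, mEnt, ent, dec_zero hV, ha7]
  have hpow : ∀ (G : GL (Fin 3) F) (A : CMat), (G : Matrix (Fin 3) (Fin 3) F) = decM P25 ε 3 A →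
      ∀ m, ((G ^ m : GL (Fin 3) F) : Matrix (Fin 3) (Fin 3) F) = decM P25 ε 3 (powM3 P25 A m) := by
    intro G A hG m
    induction m with
    | zero => rw [pow_zero, Units.val_one, powM3, decM_oneC hV]
    | succ m ih => rw [pow_succ, Units.val_mul, ih, hG, powM3, decM_mulM3 hV]
  -- the group is the coded list
  have hlist : ∀ r ∈ R', ∃ A ∈ rC, (r : Matrix (Fin 3) (Fin 3) F) = decM P25 ε 3 A := by
    have hmem : ∀ A : {A // A ∈ rC}, ∃ r : R',
        ((r : GL (Fin 3) F) : Matrix (Fin 3) (Fin 3) F) = decM P25 ε 3 A.1 := by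
      intro A
      obtain ⟨i, j, k, hA⟩ := check_rC_gen A.1 A.2
      refine ⟨⟨Zg ^ (i : ℕ) * (Xg ^ (j : ℕ) * Yg ^ (k : ℕ)),
        R'.mul_mem (R'.pow_mem hZR _) (R'.mul_mem (R'.pow_mem hXR _) (R'.pow_mem hYR _))⟩, ?_⟩
      simp only [Units.val_mul, hpow _ _ hXc, hpow _ _ hYc, hpow _ _ hZc, ← decM_mulM3 hV, ← hA]
    choose φ hφ using hmem
    haveI : Fintype {A // A ∈ rC} := List.Subtype.fintype rC
    have hnd : rC.Nodup := List.Nodup.of_map _ check_rC_distinct.1
    have hinj : Function.Injective φ := fun A B h => Subtype.ext (by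
      have he : decM P25 ε 3 A.1 = decM P25 ε 3 B.1 := by rw [← hφ, ← hφ, h]
      refine (List.inj_on_of_nodup_map check_rC_distinct.1) A.2 B.2 ?_
      have := fun i j => dec_inj hV (check_rC_bound _ A.2 i j) (check_rC_bound _ B.2 i j)
        (congrFun (congrFun he i) j)
      simp only [codeM]
      simp only [show mEnt A.1 0 0 = mEnt B.1 0 0 from this 0 0, show mEnt A.1 0 1 = mEnt B.1 0 1 from this 0 1,
        show mEnt A.1 0 2 = mEnt B.1 0 2 from this 0 2, show mEnt A.1 1 0 = mEnt B.1 1 0 from this 1 0,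
        show mEnt A.1 1 1 = mEnt B.1 1 1 from this 1 1, show mEnt A.1 1 2 = mEnt B.1 1 2 from this 1 2,
        show mEnt A.1 2 0 = mEnt B.1 2 0 from this 2 0, show mEnt A.1 2 1 = mEnt B.1 2 1 from this 2 1,
        show mEnt A.1 2 2 = mEnt B.1 2 2 from this 2 2])
    have hc1 : Nat.card {A // A ∈ rC} = 27 := by
      rw [Nat.card_eq_fintype_card, ← check_rC_distinct.2, ← List.toFinset_card_of_nodup hnd]
      exact Fintype.card_of_subtype rC.toFinset fun a => List.mem_toFinset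
    have hc2 : Nat.card R' = 27 := by
      rw [hR', Subgroup.card_map_of_injective (MulAut.conj g⁻¹).injective, hcard]
    have hbij := (Nat.bijective_iff_injective_and_card φ).2 ⟨hinj, by rw [hc1, hc2]⟩
    intro r hr
    obtain ⟨A, hA⟩ := hbij.2 ⟨r, hr⟩
    exact ⟨A.1, A.2, by rw [← hφ A, hA]⟩
  have hH' := isMaximalIn_conj hH (inv_mem hgU)
  have hnorm : ∀ s ∈ H.map (MulAut.conj g⁻¹).toMonoidHom, ∀ r ∈ R', s * r * s⁻¹ ∈ R' := by
    rintro _ ⟨s, hs, rfl⟩ _ ⟨r, hr, rfl⟩
    rw [← map_inv, ← map_mul, ← map_mul]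
    exact Subgroup.mem_map_of_mem _ (((Subgroup.mem_normalizer_iff (H := R)).1 (hle hs) r).1 hr)
  have hgood := good_symp
  have hmask : maskOK P25 sympX = true := by
    simp only [goodX, Bool.and_eq_true] at hgood
    exact hgood.1.1.1.1.1.1.1.1.1
  have hnormal : ∀ s ∈ H.map (MulAut.conj g⁻¹).toMonoidHom, ∀ A : CMat,
      (s : Matrix (Fin 3) (Fin 3) F) = decM P25 ε 3 A → normalC A = true := by
    intro s hs A hA
    have hone : ∀ (B : CMat) (G : GL (Fin 3) F), G ∈ R' → (G : Matrix (Fin 3) (Fin 3) F) = decM P25 ε 3 B →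
        rC.elem (conjC A B) = true := by
      intro B G hGR hG
      obtain ⟨r, hr, hre⟩ := hlist _ (hnorm s hs G hGR)
      have hs' : s ∈ GU 3 F q := (hH'.1.le hs).1
      rw [Units.val_mul, Units.val_mul, hG, hA, ← adjM_of_mem_GU hF hs', hA, ← decM_starC hV,
        ← decM_mulM3 hV, ← decM_mulM3 hV] at hre
      have he : conjC A B = r := by
        have hh := fun i j : Fin 3 => dec_inj hV (mEnt_mulM3_lt (P := P25) (by norm_num [P25]) _ _ i j)
          (check_rC_bound r hr i j) (congrFun (congrFun hre i) j)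
        have hr3 : ∀ r ∈ rC, r = mkC fun i j => mEnt r i j := by decide +kernel
        rw [hr3 r hr]
        show mulM3 P25 _ _ = _
        simp only [mulM3, mkC]
        simp only [mulM3, mEnt_mkC] at hh
        simp only [List.cons.injEq, and_true]
        exact ⟨⟨hh 0 0, hh 0 1, hh 0 2⟩, ⟨hh 1 0, hh 1 1, hh 1 2⟩, hh 2 0, hh 2 1, hh 2 2⟩
      rw [he]
      simpa using hr
    simp only [normalC, Bool.and_eq_true]
    exact ⟨hone _ _ hXR hXc, hone _ _ hYR hYc⟩
  refine false_of_code hV hsurj good_symp hH' (fun s hs => ?_) (fun s hs he => ?_)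
  swap
  · exact Bool.false_ne_true (check_symp_g.symm.trans (hnormal s hs _ he))
  choose b hb hbe using fun i j => hsurj ((s : Matrix (Fin 3) (Fin 3) F) i j)
  let col : Fin 3 → List ℕ := fun j => [b 0 j, b 1 j, b 2 j]
  set A := colsC (col 0) (col 1) (col 2) with hAdef
  have hent : ∀ i j : Fin 3, mEnt A i j = b i j := fun i j => by
    fin_cases i <;> fin_cases j <;> rfl
  have hA : (s : Matrix (Fin 3) (Fin 3) F) = decM P25 ε 3 A :=
    Matrix.ext fun i j => by show _ = dec P25 ε (mEnt A i j); rw [hent, ← hbe]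
  have hs' : s ∈ GU 3 F q := (hH'.1.le hs).1
  have hcolv : ∀ j, decV P25 ε 3 (col j) = (s : Matrix (Fin 3) (Fin 3) F) *ᵥ Pi.single j 1 := fun j => by
    funext i
    rw [Matrix.mulVec_single_one]
    show dec P25 ε (ent (col j) i) = (s : Matrix (Fin 3) (Fin 3) F) i j
    rw [hbe]
    fin_cases i <;> rfl
  have hform : ∀ j j', formC3 P25 (col j) (col j') = if j = j' then 1 else 0 := fun j j' => by
    refine dec_inj hV (addC_lt hV.prime.pos _ _) (by split_ifs <;> norm_num [P25]) ?_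
    rw [dec_formC3 hV, hcolv, hcolv,
      (show ∀ x y, hermForm 3 F q ((s : Matrix (Fin 3) (Fin 3) F) *ᵥ x)
        ((s : Matrix (Fin 3) (Fin 3) F) *ᵥ y) = hermForm 3 F q x y from hs'),
      apply_ite (dec P25 ε), dec_one hV, dec_zero hV, hermForm_eq_dot hF, single_dotProduct, one_mul]
    show qConj hF ((Pi.single j' (1 : F) : Fin 3 → F) j) = _
    rw [Pi.single_apply, apply_ite (qConj hF), map_one, map_zero]
  -- the columns are eigenvectors
  have heig : ∀ j, col j ∈ eigList := by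
    intro j
    obtain ⟨r, hr, hre⟩ := hlist _ (hnorm s hs Xg hXR)
    set μ : F := (![1, a7, a7 * a7] : Fin 3 → F) j with hμ
    have hμ3 : μ * (μ * μ) = 1 := by
      fin_cases j <;> simp [hμ] <;> first
        | linear_combination ha3
        | linear_combination (a7 * (a7 * a7) + 1) * ha3
    have hXe : (Xg : Matrix (Fin 3) (Fin 3) F) *ᵥ Pi.single j 1 = μ • Pi.single j 1 := by
      funext i
      rw [hXc, Matrix.mulVec_single_one, hμ]
      show dec P25 ε (mEnt xC i j) = _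
      fin_cases j <;> fin_cases i <;>
        simp [xC, mEnt, ent, dec_zero hV, dec_one hV, dec_mulC hV, ha7]
    set v := (s : Matrix (Fin 3) (Fin 3) F) *ᵥ Pi.single j 1 with hv
    have hrv : decM P25 ε 3 r *ᵥ v = μ • v := by
      rw [← hre, hv, Units.val_mul, Units.val_mul, ← Matrix.mulVec_mulVec, ← Matrix.mulVec_mulVec,
        inv_mulVec_mulVec, hXe, Matrix.mulVec_smul]
    have hv1 : formC3 P25 (col j) (col j) = 1 := by rw [hform, if_pos rfl]
    have hbj : ∀ i, b i j < 25 := fun i => hb i j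
    have hval : ∀ i, v i = dec P25 ε (b i j) := fun i => by
      rw [hv, ← hcolv]; fin_cases i <;> rfl
    have hr0 : ∀ i, (decM P25 ε 3 r *ᵥ v) i = dec P25 ε (mEnt r i 0) * v 0 +
        dec P25 ε (mEnt r i 1) * v 1 + dec P25 ε (mEnt r i 2) * v 2 := fun i => by
      simp [Matrix.mulVec, dotProduct, decM, Fin.sum_univ_three]
    have h0 := (hr0 0).symm.trans (congrFun hrv 0)
    have h1 := (hr0 1).symm.trans (congrFun hrv 1)
    have h2 := (hr0 2).symm.trans (congrFun hrv 2)
    simp only [Pi.smul_apply, smul_eq_mul, Fin.val_zero, Fin.val_one, Fin.val_two] at h0 h1 h2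
    have hin : col j ∈ eigCols := by
      have hsingle : ∀ k : Fin 3, (∀ i, i ≠ k → v i = 0) → col j ∈ eigCols := by
        intro k hk
        have hz : ∀ i, i ≠ k → b i j = 0 := fun i hi =>
          dec_inj hV (hb i j) (by norm_num [P25]) (by rw [← hval, hk i hi, dec_zero hV])
        refine List.mem_append_left _ (List.mem_filter.2 ⟨List.mem_flatMap.2 ⟨b k j,
          List.mem_range.2 (hbj k), List.mem_map.2 ⟨k, by fin_cases k <;> simp, ?_⟩⟩, by simp [hv1]⟩)
        fin_cases k <;> simp [col, unitV, hz]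
      have hall : v 0 * (v 0 * v 0) = v 1 * (v 1 * v 1) → v 1 * (v 1 * v 1) = v 2 * (v 2 * v 2) →
          col j ∈ eigCols := by
        intro c01 c12
        have hv0 : v 0 ≠ 0 := by
          intro h
          have g1 : v 1 = 0 := by simpa using (show v 1 * (v 1 * v 1) = 0 by rw [← c01, h]; ring)
          have g2 : v 2 = 0 := by simpa using (show v 2 * (v 2 * v 2) = 0 by rw [← c12, g1]; ring)
          have hvv : v = 0 := funext fun i => by fin_cases i <;> assumption
          have := congrArg (dec P25 ε) hv1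
          rw [dec_formC3 hV, hcolv, ← hv, hvv, herm_zero_left hf, dec_one hV] at this
          exact zero_ne_one this
        obtain ⟨r1, hr1, hr1e⟩ := hsurj (v 1 / v 0)
        obtain ⟨r2, hr2, hr2e⟩ := hsurj (v 2 / v 0)
        have hq1 : mulC P25 r1 (mulC P25 r1 r1) = 1 := dec_inj hV (mulC_lt hV.prime.pos _ _)
          (by norm_num [P25]) (by
            rw [dec_mulC hV, dec_mulC hV, ← hr1e, dec_one hV]; field_simp; linear_combination -c01)
        have hq2 : mulC P25 r2 (mulC P25 r2 r2) = 1 := dec_inj hV (mulC_lt hV.prime.pos _ _)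
          (by norm_num [P25]) (by
            rw [dec_mulC hV, dec_mulC hV, ← hr2e, dec_one hV]; field_simp
            linear_combination -c01 - c12)
        have e1' : mulC P25 (b 0 j) r1 = b 1 j := dec_inj hV (mulC_lt hV.prime.pos _ _) (hb 1 j) (by
          rw [dec_mulC hV, ← hr1e, ← hval, ← hval, mul_div_cancel₀ _ hv0])
        have e2' : mulC P25 (b 0 j) r2 = b 2 j := dec_inj hV (mulC_lt hV.prime.pos _ _) (hb 2 j) (by
          rw [dec_mulC hV, ← hr2e, ← hval, ← hval, mul_div_cancel₀ _ hv0])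
        refine List.mem_append_right _ (List.mem_filter.2 ⟨List.mem_flatMap.2 ⟨b 0 j,
          List.mem_range.2 (hbj 0), List.mem_flatMap.2 ⟨r1, check_roots ⟨r1, hr1⟩ hq1,
            List.mem_map.2 ⟨r2, check_roots ⟨r2, hr2⟩ hq2, by rw [e1', e2']⟩⟩⟩, by simp [hv1]⟩)
      have hd0 : ∀ a c : ℕ, a < card2 P25 → c < card2 P25 → a ≠ c →
          dec P25 ε a - dec P25 ε c ≠ 0 := fun a c ha hc hac h =>
        hac (dec_inj hV ha hc (sub_eq_zero.1 h))
      have hμ0 : μ ≠ 0 := fun h => zero_ne_one (α := F) (by rw [← hμ3, h]; ring)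
      have hbd := check_rC_bound r hr
      rcases check_rC_shape r hr with ⟨z01, z02, z10, z12, z20, z21, hdg⟩ | ⟨z00, z02, z11, z10, z21, z22, u1, u2⟩ |
        ⟨z00, z01, z11, z12, z20, z22, u1, u2⟩
      · simp only [z01, z02, z10, z12, z20, z21, dec_zero hV, zero_mul, add_zero, zero_add] at h0 h1 h2
        rcases hdg with ⟨d01, d12⟩ | ⟨d01, d12, d02⟩
        · exfalso
          have hscal : decM P25 ε 3 r = dec P25 ε (mEnt r 0 0) • 1 := by
            ext i k
            fin_cases i <;> fin_cases k <;>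
              simp [decM, z01, z02, z10, z12, z20, z21, dec_zero hV, d01, d12]
          have hX1 : (Xg : Matrix (Fin 3) (Fin 3) F) = dec P25 ε (mEnt r 0 0) • 1 := by
            have hG : Xg = s⁻¹ * (s * Xg * s⁻¹) * s := by group
            rw [hG, Units.val_mul, Units.val_mul, hre, hscal, Matrix.mul_smul, Matrix.smul_mul,
              mul_one, ← Units.val_mul, inv_mul_cancel, Units.val_one]
          rw [hXc] at hX1
          have g0 := congrFun (congrFun hX1 0) 0
          have g1 := congrFun (congrFun hX1 1) 1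
          simp [decM, xC, mEnt, ent, dec_one hV] at g0 g1
          exact ha1 (g1.trans g0.symm)
        · have k01 := hd0 _ _ (hbd 0 0) (hbd 1 1) d01
          have k12 := hd0 _ _ (hbd 1 1) (hbd 2 2) d12
          have k02 := hd0 _ _ (hbd 0 0) (hbd 2 2) d02
          simp only [Fin.val_zero, Fin.val_one, Fin.val_two] at k01 k12 k02
          have h0' : (dec P25 ε (mEnt r 0 0) - μ) * v 0 = 0 := by linear_combination h0
          have h1' : (dec P25 ε (mEnt r 1 1) - μ) * v 1 = 0 := by linear_combination h1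
          have h2' : (dec P25 ε (mEnt r 2 2) - μ) * v 2 = 0 := by linear_combination h2
          rcases mul_eq_zero.1 h0' with g | g
          · refine hsingle 0 fun i hi => ?_
            fin_cases i
            · exact absurd rfl hi
            · exact (mul_eq_zero.1 h1').resolve_left fun h => k01 (by linear_combination g - h)
            · exact (mul_eq_zero.1 h2').resolve_left fun h => k02 (by linear_combination g - h)
          rcases mul_eq_zero.1 h1' with g' | g'
          · refine hsingle 1 fun i hi => ?_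
            fin_cases i
            · exact g
            · exact absurd rfl hi
            · exact (mul_eq_zero.1 h2').resolve_left fun h => k12 (by linear_combination g' - h)
          · refine hsingle 2 fun i hi => ?_
            fin_cases i
            · exact g
            · exact g'
            · exact absurd rfl hi
      · simp only [z00, z02, z11, z10, z21, z22, dec_zero hV, zero_mul, add_zero, zero_add] at h0 h1 h2
        have c1 := congrArg (dec P25 ε) u1
        have c2 := congrArg (dec P25 ε) u2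
        rw [dec_mulC hV, dec_mulC hV, dec_one hV] at c1 c2
        have g0 := congrArg (fun t => t * (t * t)) h0
        have g1 := congrArg (fun t => t * (t * t)) h1
        exact hall (by linear_combination -g0 + (v 1 * (v 1 * v 1)) * c1 - (v 0 * (v 0 * v 0)) * hμ3)
          (by linear_combination -g1 + (v 2 * (v 2 * v 2)) * c2 - (v 1 * (v 1 * v 1)) * hμ3)
      · simp only [z00, z01, z11, z12, z20, z22, dec_zero hV, zero_mul, add_zero, zero_add] at h0 h1 h2
        have c1 := congrArg (dec P25 ε) u1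
        have c2 := congrArg (dec P25 ε) u2
        rw [dec_mulC hV, dec_mulC hV, dec_one hV] at c1 c2
        have g1 := congrArg (fun t => t * (t * t)) h1
        have g2 := congrArg (fun t => t * (t * t)) h2
        exact hall (by linear_combination g1 - (v 0 * (v 0 * v 0)) * c1 + (v 1 * (v 1 * v 1)) * hμ3)
          (by linear_combination g2 - (v 1 * (v 1 * v 1)) * c2 + (v 2 * (v 2 * v 2)) * hμ3)
    rwa [check_eigList] at hin
  have hchk := check_symp
  simp only [checkSymp, List.all_eq_true, Bool.or_eq_true, bne_iff_ne] at hchk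
  rw [hA]
  refine keeps_of_group hV hmask group_symp (fun i j => by rw [hent]; exact hb i j) ?_
  have h := ((hchk _ (heig 0) _ (heig 1)).resolve_left (fun h => h (by rw [hform]; rfl))) _ (heig 2)
  rcases h with (((h | h) | h) | h) | h
  · exact absurd (by rw [hform]; rfl) h
  · exact absurd (by rw [hform]; rfl) h
  · exact absurd (detC_eq_one hV (hH'.1.le hs) hA) h
  · exact h
  · rw [hnormal s hs A hA] at h
    exact absurd h (by simp)

end CfsgLib.AschU.SUThree
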