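import Cfsg.Agent.Lib.AschU.ThreeTwo

/-!
The tensor and tensor power cases of the unitary structure theorem.
-/

set_option autoImplicit false

namespace CfsgLib.AschU

open Cfsg Cfsg.Geo CfsgLib.MaxSub CfsgLib.Aschbacher Matrix
open scoped MatrixGroups Kronecker

variable {F : Type*} [Field F] [Fintype F] {n q : ℕ}

theorem isUnitaryFormPow_hermForm (hF : Fintype.card F = q ^ 2) (k : ℕ) :
    IsUnitaryFormPow q (hermForm k F q) := by
  have h := isUnitaryForm_hermForm hF k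
  exact ⟨h.add_left, h.smul_left, fun v w => (h.herm v w).trans (qConj_apply hF _), h.nondegenerate⟩

theorem gramMatrix_hermForm (hF : Fintype.card F = q ^ 2) (k : ℕ) :
    gramMatrix (hermForm k F q) = (1 : Matrix (Fin k) (Fin k) F) := by
  ext a b
  rw [gramMatrix, hermForm_eq_dot hF, single_dotProduct, one_mul, Function.comp_apply,
    Pi.single_apply, apply_ite (qConj hF), map_one, map_zero, Matrix.one_apply]

theorem hermForm_comp (e : Fin n ≃ Fin n) (x y : Fin n → F) :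
    hermForm n F q (x ∘ e) (y ∘ e) = hermForm n F q x y :=
  Equiv.sum_comp e fun a => x a * y a ^ q

theorem herm_comp_equiv {κ : Type} [Fintype κ] (e : Fin n ≃ κ) (x y : κ → F) :
    hermForm n F q (x ∘ e) (y ∘ e) = ∑ a, x a * y a ^ q :=
  Equiv.sum_comp e fun a => x a * y a ^ q

theorem tensor_comm_le (d m : ℕ) (e : Fin n ≃ Fin d × Fin m) (P : GL (Fin n) F) :
    tensorProductSubgroup d m e P ≤ tensorProductSubgroup m d (e.trans (Equiv.prodComm _ _)) P := by
  rintro _ ⟨_, ⟨k, ⟨a, b, hk⟩, rfl⟩, rfl⟩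
  refine ⟨_, ⟨glReindex (Equiv.prodComm (Fin d) (Fin m)) k, ⟨b, a, ?_⟩, rfl⟩, ?_⟩
  · ext i j
    show (k : Matrix (Fin d × Fin m) (Fin d × Fin m) F) _ _ = _
    rw [hk]
    simp [mul_comm]
  · congr 1

theorem tensor_le_wreath (d : ℕ) (e : Fin n ≃ Fin d × Fin d) (P : GL (Fin n) F) :
    tensorProductSubgroup d d e P ≤
      tensorWreathSubgroup d 2 (e.trans (piFinTwoEquiv fun _ => Fin d).symm) P := by
  rintro _ ⟨_, ⟨k, ⟨a, b, hk⟩, rfl⟩, rfl⟩
  refine ⟨_, ⟨glReindex (piFinTwoEquiv fun _ => Fin d).symm k,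
    Subgroup.subset_closure (Or.inl ⟨![a, b], fun x y => ?_⟩), rfl⟩, ?_⟩
  · show (k : Matrix (Fin d × Fin d) (Fin d × Fin d) F) _ _ = _
    rw [hk, Fin.prod_univ_two]
    rfl
  · congr 1

/-- A tensor power decomposition adapted to the form. -/
theorem member_of_wreathSim (hF : Fintype.card F = q ^ 2) (hn : 2 ≤ n) {k t : ℕ} (hk : 2 ≤ k)
    (ht : 2 ≤ t) (e : Fin n ≃ (Fin t → Fin k)) {P : GL (Fin n) F}
    (hP : P ∈ similarityGroup (hermForm n F q)) {H : Subgroup (GL (Fin n) F)} (hH : H ≤ GU n F q)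
    (hle : H ≤ tensorWreathSubgroup k t e P) :
    ∃ M : Subgroup (GL (Fin n) F), UClass n q M ∧ H ≤ M := by
  rcases Nat.lt_or_ge k 3 with hk3 | hk3
  · obtain rfl : k = 2 := by omega
    exact member_of_twoTensor hF hn (by omega) e hP hH hle
  by_cases hex : q = 2 ∧ k = 3
  · obtain ⟨hq, rfl⟩ := hex
    exact member_of_threeTwo hF hq hn (by omega) e hP hH hle
  obtain ⟨c, hc⟩ := hP
  refine ⟨_, Or.inr (Or.inr (Or.inr ⟨k, t, e, P, hermForm k F q, hk3, ht, hex,
    isUnitaryFormPow_hermForm hF k, ⟨c, c.ne_zero, fun x y => ?_⟩, rfl⟩)), le_inf hle hH⟩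
  rw [hc, herm_comp_equiv, gramMatrix_hermForm hF]
  congr 1
  refine Finset.sum_congr rfl fun a _ => ?_
  rw [Finset.sum_eq_single a]
  · simp
  · intro b _ hb
    obtain ⟨i, hi⟩ := Function.ne_iff.1 hb
    have h0 : (1 : Matrix (Fin k) (Fin k) F) (a i) (b i) = 0 := Matrix.one_apply_ne hi.symm
    exact mul_eq_zero_of_left (mul_eq_zero_of_right _
      (Finset.prod_eq_zero (Finset.mem_univ i) h0)) _
  · simp

/-- A tensor product decomposition adapted to the form. -/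
theorem member_of_tensorSim (hF : Fintype.card F = q ^ 2) (hn : 2 ≤ n) {d m : ℕ} (hd : 2 ≤ d)
    (hm : 2 ≤ m) (e : Fin n ≃ Fin d × Fin m) {P : GL (Fin n) F}
    (hP : P ∈ similarityGroup (hermForm n F q)) {H : Subgroup (GL (Fin n) F)} (hH : H ≤ GU n F q)
    (hle : H ≤ tensorProductSubgroup d m e P) :
    ∃ M : Subgroup (GL (Fin n) F), UClass n q M ∧ H ≤ M := by
  rcases eq_or_ne d m with rfl | hne
  · exact member_of_wreathSim hF hn hd le_rfl _ hP hH (hle.trans (tensor_le_wreath d e P))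
  have key : ∀ (n₁ n₂ : ℕ) (e : Fin n ≃ Fin n₁ × Fin n₂), 2 ≤ n₁ → n₁ < n₂ →
      H ≤ tensorProductSubgroup n₁ n₂ e P →
      ∃ M : Subgroup (GL (Fin n) F), UClass n q M ∧ H ≤ M := by
    intro n₁ n₂ e h1 h2 hle
    obtain ⟨c, hc⟩ := hP
    refine ⟨_, Or.inr (Or.inr (Or.inl ⟨n₁, n₂, e, P, hermForm n₁ F q, hermForm n₂ F q, h1, h2,
      isUnitaryFormPow_hermForm hF n₁, isUnitaryFormPow_hermForm hF n₂,
      ⟨c, c.ne_zero, fun x y => ?_⟩, rfl⟩)), le_inf hle hH⟩
    rw [hc, herm_comp_equiv, gramMatrix_hermForm hF, gramMatrix_hermForm hF,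
      Matrix.one_kronecker_one, formOfGram]
    congr 1
    refine Finset.sum_congr rfl fun a _ => ?_
    rw [Finset.sum_eq_single a (fun b _ hb => by simp [Matrix.one_apply_ne (Ne.symm hb)]) (by simp)]
    simp
  rcases lt_or_gt_of_ne hne with h | h
  · exact key d m e hd h hle
  · exact key m d _ hm h (hle.trans (tensor_comm_le d m e P))

theorem member_of_tensor (hF : Fintype.card F = q ^ 2) (hn : 2 ≤ n)
    {G L : Subgroup (GL (Fin n) F)} (hG : G ≤ similarityGroup (hermForm n F q)) (hLG : L ≤ G)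
    {d m : ℕ} (e : Fin n ≃ Fin d × Fin m) (P : GL (Fin n) F) (hd : 2 ≤ d) (hm : 2 ≤ m)
    (hA : (alg L : Set (Matrix (Fin n) (Fin n) F)) = Set.range (leftFactor e P))
    (hle : G ≤ tensorProductSubgroup d m e P)
    {H : Subgroup (GL (Fin n) F)} (hHG : H ≤ G) (hH : H ≤ GU n F q) :
    ∃ M : Subgroup (GL (Fin n) F), UClass n q M ∧ H ≤ M := by
  have : NeZero d := ⟨by omega⟩
  have : NeZero m := ⟨by omega⟩
  obtain ⟨P', hP', heq⟩ := exists_similitude_tensor hF (by omega) e P fun x => by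
    have hx : leftFactor e P x ∈ (alg L : Set (Matrix (Fin n) (Fin n) F)) := hA ▸ ⟨x, rfl⟩
    have h := adjM_mem_alg hF (hLG.trans hG) hx
    rw [← SetLike.mem_coe, hA] at h
    obtain ⟨x', hx'⟩ := h
    exact ⟨x', hx'.symm⟩
  exact member_of_tensorSim hF hn hd hm e hP' hH (heq ▸ hHG.trans hle)

theorem member_of_wreath (hF : Fintype.card F = q ^ 2) (hn : 2 ≤ n)
    {G : Subgroup (GL (Fin n) F)} (hG : G ≤ similarityGroup (hermForm n F q)) {t d : ℕ}
    {L : Fin t → Subgroup (GL (Fin n) F)} (hLG : ∀ i, L i ≤ G)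
    (e : Fin n ≃ (Fin t → Fin d)) (P : GL (Fin n) F) (ht : 2 ≤ t) (hd : 2 ≤ d)
    (hA : ∀ i, (alg (L i) : Set (Matrix (Fin n) (Fin n) F)) = Set.range (slotFactor e P i))
    (hle : G ≤ tensorWreathSubgroup d t e P)
    {H : Subgroup (GL (Fin n) F)} (hHG : H ≤ G) (hH : H ≤ GU n F q) :
    ∃ M : Subgroup (GL (Fin n) F), UClass n q M ∧ H ≤ M := by
  have : NeZero d := ⟨by omega⟩
  obtain ⟨P', hP', heq⟩ := exists_similitude_wreath hF (by omega) (by omega) e P fun i x => by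
    have hx : slotFactor e P i x ∈ (alg (L i) : Set (Matrix (Fin n) (Fin n) F)) := hA i ▸ ⟨x, rfl⟩
    have h := adjM_mem_alg hF ((hLG i).trans hG) hx
    rw [← SetLike.mem_coe, hA i] at h
    obtain ⟨x', hx'⟩ := h
    exact ⟨x', hx'.symm⟩
  exact member_of_wreathSim hF hn hd ht e hP' hH (heq ▸ hHG.trans hle)

end CfsgLib.AschU
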